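import Mathlib

/-! The presentation of `SL₂(K)` by the rank one Steinberg relations. -/
set_option autoImplicit false

namespace CfsgLib.SL2Presentation

open Matrix

variable {K : Type*} [Field K]

/-- two root groups with the rank one relations -/
structure Pre (K : Type*) [Field K] (G : Type*) [Group G] where
  X : K → G
  Y : K → G
  addX : ∀ t u, X t * X u = X (t + u)
  addY : ∀ t u, Y t * Y u = Y (t + u)
  nX : ∀ t, t ≠ 0 → ∀ u, X t * Y (-t⁻¹) * X t * X u * (X t * Y (-t⁻¹) * X t)⁻¹ = Y (-(t⁻¹ ^ 2 * u))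
  nY : ∀ t, t ≠ 0 → ∀ u, X t * Y (-t⁻¹) * X t * Y u * (X t * Y (-t⁻¹) * X t)⁻¹ = X (-(t ^ 2 * u))

namespace Pre

variable {G : Type*} [Group G] (S : Pre K G)

def n (t : K) : G := S.X t * S.Y (-t⁻¹) * S.X t

def h (t : K) : G := S.n t * S.n (-1)

def Gen : Prop := Subgroup.closure (Set.range S.X ∪ Set.range S.Y) = ⊤

def Tor : Subgroup G := Subgroup.closure {g | ∃ t : K, t ≠ 0 ∧ g = S.h t}

theorem X_zero : S.X 0 = 1 := by
  have := S.addX 0 0
  rwa [add_zero, mul_eq_left] at this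

theorem Y_zero : S.Y 0 = 1 := by
  have := S.addY 0 0
  rwa [add_zero, mul_eq_left] at this

theorem X_inv (t : K) : (S.X t)⁻¹ = S.X (-t) :=
  inv_eq_of_mul_eq_one_right (by rw [S.addX, add_neg_cancel, S.X_zero])

theorem Y_inv (t : K) : (S.Y t)⁻¹ = S.Y (-t) :=
  inv_eq_of_mul_eq_one_right (by rw [S.addY, add_neg_cancel, S.Y_zero])

theorem n_neg (t : K) : S.n (-t) = (S.n t)⁻¹ := by
  rw [n, n, _root_.mul_inv_rev, _root_.mul_inv_rev, S.X_inv, S.Y_inv, mul_assoc, inv_neg, neg_neg]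

theorem n_eq_h (t : K) : S.n t = S.h t * S.n 1 := by
  rw [h, S.n_neg]; group

theorem h_one : S.h 1 = 1 := by rw [h, S.n_neg, mul_inv_cancel]

theorem n_conj_X {t : K} (ht : t ≠ 0) (u : K) : S.n t * S.X u * (S.n t)⁻¹ = S.Y (-(t⁻¹ ^ 2 * u)) := S.nX t ht u

theorem n_conj_Y {t : K} (ht : t ≠ 0) (u : K) : S.n t * S.Y u * (S.n t)⁻¹ = S.X (-(t ^ 2 * u)) := S.nY t ht u

theorem Y_eq (s : K) : S.Y s = S.X s⁻¹ * S.n (-s⁻¹) * S.X s⁻¹ := by
  rw [n, inv_neg, neg_neg, inv_inv, ← mul_assoc, ← mul_assoc, S.addX, add_neg_cancel, S.X_zero, one_mul,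
    mul_assoc, S.addX, neg_add_cancel, S.X_zero, mul_one]

theorem h_conj_X {t : K} (ht : t ≠ 0) (u : K) : S.h t * S.X u * (S.h t)⁻¹ = S.X (t ^ 2 * u) := by
  rw [h, show S.n t * S.n (-1) * S.X u * (S.n t * S.n (-1))⁻¹ =
    S.n t * (S.n (-1) * S.X u * (S.n (-1))⁻¹) * (S.n t)⁻¹ by group, S.n_conj_X (neg_ne_zero.2 one_ne_zero),
    S.n_conj_Y ht]
  congr 1
  field_simp

theorem h_conj_Y {t : K} (ht : t ≠ 0) (u : K) : S.h t * S.Y u * (S.h t)⁻¹ = S.Y (t⁻¹ ^ 2 * u) := by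
  rw [h, show S.n t * S.n (-1) * S.Y u * (S.n t * S.n (-1))⁻¹ =
    S.n t * (S.n (-1) * S.Y u * (S.n (-1))⁻¹) * (S.n t)⁻¹ by group, S.n_conj_Y (neg_ne_zero.2 one_ne_zero),
    S.n_conj_X ht]
  congr 1
  ring

theorem n_self {t : K} (ht : t ≠ 0) : S.n t = S.Y (-t⁻¹) * S.X t * S.Y (-t⁻¹) :=
  calc S.n t = S.n t * (S.X t * S.Y (-t⁻¹) * S.X t) * (S.n t)⁻¹ := by rw [← n]; group
    _ = (S.n t * S.X t * (S.n t)⁻¹) * (S.n t * S.Y (-t⁻¹) * (S.n t)⁻¹) * (S.n t * S.X t * (S.n t)⁻¹) := by group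
    _ = _ := by
      rw [S.n_conj_X ht, S.n_conj_Y ht]
      congr 3 <;> field_simp

theorem one_conj_n {t : K} (ht : t ≠ 0) : S.n 1 * S.n t * (S.n 1)⁻¹ = S.n t⁻¹ := by
  rw [S.n_self (inv_ne_zero ht)]
  calc S.n 1 * (S.X t * S.Y (-t⁻¹) * S.X t) * (S.n 1)⁻¹ =
      (S.n 1 * S.X t * (S.n 1)⁻¹) * (S.n 1 * S.Y (-t⁻¹) * (S.n 1)⁻¹) * (S.n 1 * S.X t * (S.n 1)⁻¹) := by group
    _ = _ := by
      rw [S.n_conj_X one_ne_zero, S.n_conj_Y one_ne_zero]
      simp

theorem tor_conj {g : G} (hg : g ∈ S.Tor) :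
    ∃ a : K, a ≠ 0 ∧ (∀ u, g * S.X u * g⁻¹ = S.X (a * u)) ∧ ∀ u, g * S.Y u * g⁻¹ = S.Y (a⁻¹ * u) := by
  induction hg using Subgroup.closure_induction with
  | mem g hg =>
    obtain ⟨t, ht, rfl⟩ := hg
    exact ⟨t ^ 2, pow_ne_zero _ ht, fun u => S.h_conj_X ht u, fun u => by rw [S.h_conj_Y ht, inv_pow]⟩
  | one => exact ⟨1, one_ne_zero, fun u => by simp, fun u => by simp⟩
  | mul p q _ _ hp hq =>
    obtain ⟨a, ha, pX, pY⟩ := hp
    obtain ⟨b, hb, qX, qY⟩ := hq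
    refine ⟨a * b, mul_ne_zero ha hb, fun u => ?_, fun u => ?_⟩
    · rw [mul_assoc a, ← pX, ← qX]; group
    · rw [mul_inv, mul_assoc a⁻¹, ← pY, ← qY]; group
  | inv p _ hp =>
    obtain ⟨a, ha, pX, pY⟩ := hp
    refine ⟨a⁻¹, inv_ne_zero ha, fun u => ?_, fun u => ?_⟩
    · have := pX (a⁻¹ * u)
      rw [← mul_assoc a, mul_inv_cancel₀ ha, one_mul] at this
      rw [← this]; group
    · have := pY (a * u)
      rw [← mul_assoc a⁻¹, inv_mul_cancel₀ ha, one_mul] at this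
      rw [inv_inv, ← this]; group

theorem one_conj_tor {g : G} (hg : g ∈ S.Tor) : S.n 1 * g * (S.n 1)⁻¹ ∈ S.Tor := by
  induction hg using Subgroup.closure_induction with
  | mem g hg =>
    obtain ⟨t, ht, rfl⟩ := hg
    have e : S.n 1 * S.h t * (S.n 1)⁻¹ = S.h t⁻¹ := by
      rw [h, h, show S.n 1 * (S.n t * S.n (-1)) * (S.n 1)⁻¹ =
        (S.n 1 * S.n t * (S.n 1)⁻¹) * (S.n 1 * S.n (-1) * (S.n 1)⁻¹) by group, S.one_conj_n ht,
        S.one_conj_n (neg_ne_zero.2 one_ne_zero)]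
      norm_num
    rw [e]
    exact Subgroup.subset_closure ⟨t⁻¹, inv_ne_zero ht, rfl⟩
  | one => simp
  | mul p q _ _ hp hq =>
    rw [show S.n 1 * (p * q) * (S.n 1)⁻¹ = (S.n 1 * p * (S.n 1)⁻¹) * (S.n 1 * q * (S.n 1)⁻¹) by group]
    exact mul_mem hp hq
  | inv p _ hp =>
    rw [show S.n 1 * p⁻¹ * (S.n 1)⁻¹ = (S.n 1 * p * (S.n 1)⁻¹)⁻¹ by group]
    exact inv_mem hp

theorem h_mem {t : K} (ht : t ≠ 0) : S.h t ∈ S.Tor := Subgroup.subset_closure ⟨t, ht, rfl⟩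

theorem sq_mem : S.n 1 * S.n 1 ∈ S.Tor := by
  have e : S.n 1 * S.n 1 = (S.h (-1))⁻¹ := by rw [h, S.n_neg, _root_.mul_inv_rev, inv_inv]
  rw [e]; exact inv_mem (S.h_mem (neg_ne_zero.2 one_ne_zero))

/-- the two cells -/
def Form (g : G) : Prop :=
  (∃ a, ∃ k ∈ S.Tor, g = S.X a * k) ∨ ∃ a b, ∃ k ∈ S.Tor, g = S.X a * k * S.n 1 * S.X b

theorem form_X {g : G} (hg : S.Form g) (u : K) : S.Form (g * S.X u) := by
  rcases hg with ⟨a, k, hk, rfl⟩ | ⟨a, b, k, hk, rfl⟩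
  · obtain ⟨c, -, hc, -⟩ := S.tor_conj hk
    exact Or.inl ⟨a + c * u, k, hk, by rw [← S.addX, ← hc]; group⟩
  · exact Or.inr ⟨a, b + u, k, hk, by rw [← S.addX]; group⟩

theorem form_n {g : G} (hg : S.Form g) : S.Form (g * S.n 1) := by
  rcases hg with ⟨a, k, hk, rfl⟩ | ⟨a, b, k, hk, rfl⟩
  · exact Or.inr ⟨a, 0, k, hk, by rw [S.X_zero, mul_one]⟩
  · by_cases hb : b = 0
    · subst hb
      exact Or.inl ⟨a, k * (S.n 1 * S.n 1), mul_mem hk S.sq_mem, by rw [S.X_zero]; group⟩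
    have hb' : -b ≠ 0 := neg_ne_zero.2 hb
    have e1 : S.n 1 * S.X b = S.Y (-b) * S.n 1 := by
      have := S.n_conj_X one_ne_zero b
      rw [inv_one, one_pow, one_mul] at this
      rw [← this]; group
    obtain ⟨c, -, hc, -⟩ := S.tor_conj hk
    obtain ⟨d, hd, hdX, -⟩ := S.tor_conj S.sq_mem
    have hm : S.n 1 * (S.n 1 * S.n 1) * (S.n 1)⁻¹ ∈ S.Tor := S.one_conj_tor S.sq_mem
    refine Or.inr ⟨a + c * (-b)⁻¹, d⁻¹ * (-b)⁻¹, k * S.h (-(-b)⁻¹) * (S.n 1 * (S.n 1 * S.n 1) * (S.n 1)⁻¹),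
      mul_mem (mul_mem hk (S.h_mem (neg_ne_zero.2 (inv_ne_zero hb')))) hm, ?_⟩
    have e2 : S.X (-b)⁻¹ * (S.n 1 * S.n 1) = (S.n 1 * S.n 1) * S.X (d⁻¹ * (-b)⁻¹) := by
      have := hdX (d⁻¹ * (-b)⁻¹)
      rw [← mul_assoc d, mul_inv_cancel₀ hd, one_mul] at this
      rw [← this]; group
    calc S.X a * k * S.n 1 * S.X b * S.n 1 = S.X a * k * (S.n 1 * S.X b) * S.n 1 := by group
      _ = S.X a * k * (S.X (-b)⁻¹ * (S.h (-(-b)⁻¹) * S.n 1) * (S.X (-b)⁻¹ * (S.n 1 * S.n 1))) := by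
        rw [e1, S.Y_eq, S.n_eq_h]; group
      _ = S.X a * (k * S.X (-b)⁻¹ * k⁻¹) * (k * S.h (-(-b)⁻¹) * (S.n 1 * (S.n 1 * S.n 1) * (S.n 1)⁻¹)) * S.n 1 *
          S.X (d⁻¹ * (-b)⁻¹) := by rw [e2]; group
      _ = _ := by rw [hc, S.addX]

theorem form_n_inv {g : G} (hg : S.Form g) : S.Form (g * (S.n 1)⁻¹) := by
  obtain ⟨d, hd, hdX, -⟩ := S.tor_conj (inv_mem S.sq_mem)
  have h1 := S.form_n hg
  have key : ∀ g, S.Form g → S.Form (g * (S.n 1 * S.n 1)⁻¹) := by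
    intro g hg
    rcases hg with ⟨a, k, hk, rfl⟩ | ⟨a, b, k, hk, rfl⟩
    · exact Or.inl ⟨a, k * (S.n 1 * S.n 1)⁻¹, mul_mem hk (inv_mem S.sq_mem), by group⟩
    · refine Or.inr ⟨a, d⁻¹ * b, k * (S.n 1 * (S.n 1 * S.n 1)⁻¹ * (S.n 1)⁻¹),
        mul_mem hk (S.one_conj_tor (inv_mem S.sq_mem)), ?_⟩
      have := hdX (d⁻¹ * b)
      rw [← mul_assoc d, mul_inv_cancel₀ hd, one_mul] at this
      rw [← this]; group
  have := key _ h1
  rwa [show g * S.n 1 * (S.n 1 * S.n 1)⁻¹ = g * (S.n 1)⁻¹ by group] at this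

theorem form_all (hgen : S.Gen) (g : G) : S.Form g := by
  have hY : ∀ g, S.Form g → ∀ u, S.Form (g * S.Y u) := fun g hg u => by
    have e : S.Y u = S.n 1 * S.X (-u) * (S.n 1)⁻¹ := by
      rw [S.n_conj_X one_ne_zero]; congr 1; ring
    rw [e, ← mul_assoc, ← mul_assoc]
    exact S.form_n_inv (S.form_X (S.form_n hg) _)
  have hg : g ∈ Subgroup.closure (Set.range S.X ∪ Set.range S.Y) := hgen ▸ Subgroup.mem_top g
  induction hg using Subgroup.closure_induction_right with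
  | one => exact Or.inl ⟨0, 1, one_mem _, by rw [S.X_zero, mul_one]⟩
  | mul_right x _ y hy ih =>
    rcases hy with ⟨u, rfl⟩ | ⟨u, rfl⟩
    exacts [S.form_X ih u, hY x ih u]
  | mul_inv_cancel x _ y hy ih =>
    rcases hy with ⟨u, rfl⟩ | ⟨u, rfl⟩
    · rw [S.X_inv]; exact S.form_X ih _
    · rw [S.Y_inv]; exact hY x ih _

end Pre

/-- `(1 t; 0 1)` -/
def up (t : K) : Matrix.SpecialLinearGroup (Fin 2) K := ⟨!![1, t; 0, 1], by simp⟩

/-- `(1 0; t 1)` -/
def lo (t : K) : Matrix.SpecialLinearGroup (Fin 2) K := ⟨!![1, 0; t, 1], by simp⟩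

theorem coe_up (t : K) : (up t : Matrix (Fin 2) (Fin 2) K) = !![1, t; 0, 1] := rfl

theorem coe_lo (t : K) : (lo t : Matrix (Fin 2) (Fin 2) K) = !![1, 0; t, 1] := rfl

theorem up_add (t u : K) : up t * up u = up (t + u) :=
  Subtype.ext (by simp [coe_up, Matrix.mul_fin_two, add_comm])

theorem lo_add (t u : K) : lo t * lo u = lo (t + u) :=
  Subtype.ext (by simp [coe_lo, Matrix.mul_fin_two, add_comm])

theorem n_val {t : K} (ht : t ≠ 0) :
    ((up t * lo (-t⁻¹) * up t : Matrix.SpecialLinearGroup (Fin 2) K) : Matrix (Fin 2) (Fin 2) K) = !![0, t; -t⁻¹, 0] := by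
  simp [coe_up, coe_lo, Matrix.mul_fin_two, ht]

theorem generated (g : Matrix.SpecialLinearGroup (Fin 2) K) :
    g ∈ Subgroup.closure (Set.range (up (K := K)) ∪ Set.range lo) := by
  have key : ∀ g : Matrix.SpecialLinearGroup (Fin 2) K, (g : Matrix (Fin 2) (Fin 2) K) 1 0 ≠ 0 →
      g ∈ Subgroup.closure (Set.range (up (K := K)) ∪ Set.range lo) := fun g hc => by
    set a := (g : Matrix (Fin 2) (Fin 2) K) 0 0 with ha
    set b := (g : Matrix (Fin 2) (Fin 2) K) 0 1 with hb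
    set c := (g : Matrix (Fin 2) (Fin 2) K) 1 0 with hc'
    set d := (g : Matrix (Fin 2) (Fin 2) K) 1 1 with hd
    have hdet : a * d - b * c = 1 := by rw [← g.det_coe, Matrix.det_fin_two]
    have e : g = up ((a - 1) / c) * lo c * up ((d - 1) / c) := by
      ext i j
      fin_cases i <;> fin_cases j <;>
        simp [coe_up, coe_lo, Matrix.mul_apply, Fin.sum_univ_two, ← ha, ← hb, ← hc', ← hd] <;> field_simp <;>
        first
          | ring1
          | linear_combination -hdet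
          | linear_combination hdet
    rw [e]
    exact mul_mem (mul_mem (Subgroup.subset_closure (Or.inl ⟨_, rfl⟩)) (Subgroup.subset_closure (Or.inr ⟨_, rfl⟩)))
      (Subgroup.subset_closure (Or.inl ⟨_, rfl⟩))
  by_cases hc : (g : Matrix (Fin 2) (Fin 2) K) 1 0 = 0
  · have h1 : ((g * lo 1 : Matrix.SpecialLinearGroup (Fin 2) K) : Matrix (Fin 2) (Fin 2) K) 1 0 ≠ 0 := by
      have hdet := g.det_coe
      rw [Matrix.det_fin_two, hc, mul_zero, sub_zero] at hdet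
      simp [coe_lo, Matrix.mul_apply, Fin.sum_univ_two, hc]
      intro e; rw [e, mul_zero] at hdet; exact zero_ne_one hdet
    have := mul_mem (key _ h1) (inv_mem (Subgroup.subset_closure (k := Set.range (up (K := K)) ∪ Set.range lo)
      (Or.inr ⟨1, rfl⟩)))
    rwa [mul_inv_cancel_right] at this
  · exact key g hc

variable {G : Type*} [Group G] (S : Pre K G) (θ : G →* Matrix.SpecialLinearGroup (Fin 2) K)
  (hX : ∀ t, θ (S.X t) = up t) (hY : ∀ t, θ (S.Y t) = lo t)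

include hX hY in
theorem θ_n {t : K} (ht : t ≠ 0) : (θ (S.n t) : Matrix (Fin 2) (Fin 2) K) = !![0, t; -t⁻¹, 0] := by
  rw [Pre.n, map_mul, map_mul, hX, hY]; exact n_val ht

include hX hY in
theorem θ_h {t : K} (ht : t ≠ 0) : (θ (S.h t) : Matrix (Fin 2) (Fin 2) K) = !![t, 0; 0, t⁻¹] := by
  rw [Pre.h, map_mul]
  refine (Matrix.SpecialLinearGroup.coe_mul _ _).trans ?_
  rw [θ_n S θ hX hY ht, θ_n S θ hX hY (neg_ne_zero.2 one_ne_zero)]
  simp [Matrix.mul_fin_two]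

include hX hY in
theorem θ_tor {k : G} (hk : k ∈ S.Tor) :
    ∃ s : K, s ≠ 0 ∧ (θ k : Matrix (Fin 2) (Fin 2) K) = !![s, 0; 0, s⁻¹] := by
  induction hk using Subgroup.closure_induction with
  | mem g hg => obtain ⟨t, ht, rfl⟩ := hg; exact ⟨t, ht, θ_h S θ hX hY ht⟩
  | one => exact ⟨1, one_ne_zero, by simp [Matrix.one_fin_two]⟩
  | mul a b _ _ ha hb =>
    obtain ⟨s, hs, ea⟩ := ha
    obtain ⟨r, hr, eb⟩ := hb
    exact ⟨s * r, mul_ne_zero hs hr, by rw [map_mul]; refine (Matrix.SpecialLinearGroup.coe_mul _ _).trans ?_; rw [ea, eb]; simp [Matrix.mul_fin_two, mul_comm]⟩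
  | inv a _ ha =>
    obtain ⟨s, hs, ea⟩ := ha
    refine ⟨s⁻¹, inv_ne_zero hs, ?_⟩
    rw [map_inv]
    refine (Matrix.SpecialLinearGroup.coe_inv _).trans ?_
    rw [ea, Matrix.adjugate_fin_two]
    simp

include hX hY in
theorem ker_le_tor (hgen : S.Gen) : θ.ker ≤ S.Tor := by
  intro g hg
  rw [MonoidHom.mem_ker] at hg
  rcases S.form_all hgen g with ⟨a, k, hk, rfl⟩ | ⟨a, b, k, hk, rfl⟩
  · obtain ⟨s, hs, ek⟩ := θ_tor S θ hX hY hk
    have e := congrArg (fun m : Matrix.SpecialLinearGroup (Fin 2) K => (m : Matrix (Fin 2) (Fin 2) K) 0 1) hg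
    simp [map_mul, hX, ek, coe_up, Matrix.mul_apply, Fin.sum_univ_two] at e
    rcases e with rfl | e
    · rw [S.X_zero, one_mul]; exact hk
    · exact absurd e hs
  · obtain ⟨s, hs, ek⟩ := θ_tor S θ hX hY hk
    have e := congrArg (fun m : Matrix.SpecialLinearGroup (Fin 2) K => (m : Matrix (Fin 2) (Fin 2) K) 1 0) hg
    simp [map_mul, hX, ek, θ_n S θ hX hY one_ne_zero, coe_up, Matrix.mul_apply, Fin.sum_univ_two] at e
    exact absurd e hs

include hX hY in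
theorem ker_le_center (hgen : S.Gen) : θ.ker ≤ Subgroup.center G := by
  intro g hg
  obtain ⟨a, ha, hgX, hgY⟩ := S.tor_conj (ker_le_tor S θ hX hY hgen hg)
  have h1 := congrArg θ (hgX 1)
  rw [map_mul, map_mul, map_inv, MonoidHom.mem_ker.1 hg, one_mul, inv_one, mul_one, hX, hX, mul_one] at h1
  have e := congrArg (fun m : Matrix.SpecialLinearGroup (Fin 2) K => (m : Matrix (Fin 2) (Fin 2) K) 0 1) h1
  simp [coe_up] at e
  subst e
  have hc : Subgroup.centralizer ({g} : Set G) = ⊤ := by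
    rw [eq_top_iff, ← hgen, Subgroup.closure_le]
    rintro _ (⟨u, rfl⟩ | ⟨u, rfl⟩) <;> rw [SetLike.mem_coe, Subgroup.mem_centralizer_singleton_iff]
    · have := hgX u; rw [one_mul, mul_inv_eq_iff_eq_mul] at this; exact this.symm
    · have := hgY u; rw [inv_one, one_mul, mul_inv_eq_iff_eq_mul] at this; exact this.symm
  exact Subgroup.mem_center_iff.2 fun x => Subgroup.mem_centralizer_singleton_iff.1 (hc ▸ Subgroup.mem_top x)

include hX hY in
theorem injective (hgen : S.Gen) (hC : ∀ t u : K, t ≠ 0 → u ≠ 0 → S.h t * S.h u = S.h (t * u)) :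
    Function.Injective θ := by
  rw [← MonoidHom.ker_eq_bot_iff, Subgroup.eq_bot_iff_forall]
  intro g hg
  let T : Subgroup G :=
    { carrier := {g | ∃ t : K, t ≠ 0 ∧ g = S.h t}
      mul_mem' := fun {_ _} ⟨t, ht, e⟩ ⟨u, hu, f⟩ => ⟨t * u, mul_ne_zero ht hu, by rw [e, f, hC t u ht hu]⟩
      one_mem' := ⟨1, one_ne_zero, S.h_one.symm⟩
      inv_mem' := fun {_} ⟨t, ht, e⟩ => ⟨t⁻¹, inv_ne_zero ht, by
        rw [e]; exact inv_eq_of_mul_eq_one_right (by rw [hC t t⁻¹ ht (inv_ne_zero ht), mul_inv_cancel₀ ht, S.h_one])⟩ }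
  have hle : S.Tor ≤ T := (Subgroup.closure_le _).2 fun g hg => hg
  obtain ⟨t, ht, rfl⟩ := hle (ker_le_tor S θ hX hY hgen hg)
  have e := congrArg (fun m : Matrix.SpecialLinearGroup (Fin 2) K => (m : Matrix (Fin 2) (Fin 2) K) 0 0) (MonoidHom.mem_ker.1 hg)
  simp [θ_h S θ hX hY ht] at e
  rw [e, S.h_one]

namespace Pre

variable {G : Type*} [Group G] (S : Pre K G)

/-- the multiplicative identity coming from `y(1)y(b) = y(1+b)` -/
theorem h_special {b : K} (hb : b ≠ 0) (hc : 1 + b ≠ 0) :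
    S.h (b / (1 + b)) * S.h (-1 / b) = S.h (-1 / (1 + b)) := by
  set c := 1 + b with hcdef
  have h := S.addY 1 b
  rw [S.Y_eq 1, S.Y_eq b, S.Y_eq c, inv_one] at h
  have e1 : S.n (-1) * (S.X 1 * S.X b⁻¹) * (S.n (-1))⁻¹ = S.Y (-(c / b)) := by
    rw [S.addX, S.n_conj_X (neg_ne_zero.2 one_ne_zero)]
    congr 1
    rw [hcdef]; field_simp; ring
  have e2 : S.Y (-(c / b)) = S.X (-(b / c)) * S.n (b / c) * S.X (-(b / c)) := by
    rw [S.Y_eq, inv_neg, inv_div, neg_neg]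
  have e3 : S.n (-1) * S.n (-b⁻¹) * S.X (-(1 / (b * c))) * (S.n (-1) * S.n (-b⁻¹))⁻¹ = S.X (-(b / c)) := by
    rw [show ∀ a u x : G, a * u * x * (a * u)⁻¹ = a * (u * x * u⁻¹) * a⁻¹ from fun a u x => by group,
      S.n_conj_X (neg_ne_zero.2 (inv_ne_zero hb)), S.n_conj_Y (neg_ne_zero.2 one_ne_zero)]
    congr 1
    field_simp
  have key : S.n (b / c) * (S.n (-1) * S.n (-b⁻¹)) = S.n (-c⁻¹) := by
    have a1 : S.X 1 * S.X (-(b / c)) = S.X c⁻¹ := by
      rw [S.addX]; congr 1; rw [hcdef] at hc ⊢; field_simp; ring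
    have a2 : S.X (-(1 / (b * c))) * S.X b⁻¹ = S.X c⁻¹ := by
      rw [S.addX]; congr 1; rw [hcdef] at hc ⊢; field_simp; ring
    rw [e2] at e1
    have lhs : S.X 1 * S.n (-1) * S.X 1 * (S.X b⁻¹ * S.n (-b⁻¹) * S.X b⁻¹) =
        S.X c⁻¹ * (S.n (b / c) * (S.n (-1) * S.n (-b⁻¹))) * S.X c⁻¹ :=
      calc S.X 1 * S.n (-1) * S.X 1 * (S.X b⁻¹ * S.n (-b⁻¹) * S.X b⁻¹)
          = S.X 1 * (S.n (-1) * (S.X 1 * S.X b⁻¹) * (S.n (-1))⁻¹) * S.n (-1) * S.n (-b⁻¹) * S.X b⁻¹ := by group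
        _ = (S.X 1 * S.X (-(b / c))) * S.n (b / c) * (S.X (-(b / c)) * (S.n (-1) * S.n (-b⁻¹))) *
              S.X b⁻¹ := by rw [e1]; group
        _ = (S.X 1 * S.X (-(b / c))) * (S.n (b / c) * (S.n (-1) * S.n (-b⁻¹))) *
              (S.X (-(1 / (b * c))) * S.X b⁻¹) := by rw [← e3]; group
        _ = _ := by rw [a1, a2]
    rw [lhs] at h
    exact mul_left_cancel (mul_right_cancel h)
  simp only [Pre.h, neg_div, one_div]
  rw [← key]; group

end Pre

open Polynomial in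
theorem exists_nonsquare_split [Fintype K] (h2 : ringChar K ≠ 2) {v : K} (hv : ¬IsSquare v) :
    ∃ x y : K, x ≠ 0 ∧ y ≠ 0 ∧ v * x ^ 2 + v * y ^ 2 = 1 := by
  have hv0 : v ≠ 0 := fun h => hv ⟨0, by simp [h]⟩
  obtain ⟨x, y, hxy⟩ := FiniteField.exists_root_sum_quadratic (f := (X ^ 2 : K[X]))
    (g := (X ^ 2 - C v⁻¹ : K[X])) (by simp) (degree_X_pow_sub_C (by norm_num) _)
    (FiniteField.odd_card_of_char_ne_two h2)
  simp only [eval_pow, eval_X, eval_sub, eval_C] at hxy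
  refine ⟨x, y, ?_, ?_, by linear_combination v * hxy + mul_inv_cancel₀ hv0⟩
  · rintro rfl
    exact hv (isSquare_inv.1 ⟨y, by linear_combination -hxy⟩)
  · rintro rfl
    exact hv (isSquare_inv.1 ⟨x, by linear_combination -hxy⟩)

include hX hY in
/-- over a finite field the torus relations follow from the others -/
theorem h_mul [Finite K] (hgen : S.Gen) {t u : K} (ht : t ≠ 0) (hu : u ≠ 0) : S.h t * S.h u = S.h (t * u) := by
  classical
  have := Fintype.ofFinite K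
  let f : Kˣ → G := fun x => S.h (x : K)
  let T : Kˣ →* Matrix.SpecialLinearGroup (Fin 2) K := MonoidHom.mk' (fun x => θ (f x)) fun a b => Subtype.ext (by
    refine Eq.trans ?_ (Matrix.SpecialLinearGroup.coe_mul _ _).symm
    rw [θ_h S θ hX hY a.ne_zero, θ_h S θ hX hY b.ne_zero, θ_h S θ hX hY (a * b).ne_zero]
    simp [Matrix.mul_fin_two, mul_comm])
  obtain ⟨v, hv⟩ := IsCyclic.exists_generator (α := Kˣ)
  have hcen := ker_le_center S θ hX hY hgen
  have hcomm : ∀ a b : Kˣ, Commute (f a) (f b) := fun a b => by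
    obtain ⟨j, rfl⟩ := Subgroup.mem_zpowers_iff.1 (hv a)
    obtain ⟨k, rfl⟩ := Subgroup.mem_zpowers_iff.1 (hv b)
    have ez : ∀ j : ℤ, (f v ^ j)⁻¹ * f (v ^ j) ∈ Subgroup.center G := fun j => hcen (by
      rw [MonoidHom.mem_ker, map_mul, map_inv, map_zpow]
      exact inv_mul_eq_one.2 (map_zpow T v j).symm)
    obtain ⟨p, hp, ej⟩ : ∃ p ∈ Subgroup.center G, f (v ^ j) = f v ^ j * p := ⟨_, ez j, (mul_inv_cancel_left _ _).symm⟩
    obtain ⟨q, hq, ek⟩ : ∃ q ∈ Subgroup.center G, f (v ^ k) = f v ^ k * q := ⟨_, ez k, (mul_inv_cancel_left _ _).symm⟩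
    rw [ej, ek]
    have cp : ∀ g, Commute p g := fun g => (Subgroup.mem_center_iff.1 hp g).symm
    have cq : ∀ g, Commute q g := fun g => (Subgroup.mem_center_iff.1 hq g).symm
    exact ((Commute.zpow_zpow_self (f v) j k).mul_right (cq _).symm).mul_left ((cp _).mul_right (cp _))
  have hsq : ∀ a b : Kˣ, f (a * a * b) = f b * f (a * a) := by
    intro a b
    have hn : ∀ x : K, S.h a * S.n x * (S.h a)⁻¹ = S.n ((a : K) * a * x) := by
      intro x
      rw [Pre.n, show S.h a * (S.X x * S.Y (-x⁻¹) * S.X x) * (S.h a)⁻¹ =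
        (S.h a * S.X x * (S.h a)⁻¹) * (S.h a * S.Y (-x⁻¹) * (S.h a)⁻¹) * (S.h a * S.X x * (S.h a)⁻¹) by group,
        S.h_conj_X a.ne_zero, S.h_conj_Y a.ne_zero, Pre.n, mul_inv ((a : K) * a), mul_neg, ← pow_two, inv_pow]
    have e : S.h a * S.h b * (S.h a)⁻¹ = S.h ((a : K) * a * b) * (S.h ((a : K) * a))⁻¹ := by
      calc S.h a * S.h b * (S.h a)⁻¹
          = (S.h a * S.n b * (S.h a)⁻¹) * (S.h a * S.n (-1) * (S.h a)⁻¹) := by
            rw [Pre.h.eq_def S b]; group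
        _ = _ := by rw [hn, hn, mul_neg, mul_one]; simp only [Pre.h, S.n_neg]; group
    have hc := hcomm a b
    simp only [f] at hc ⊢
    rw [hc.eq, mul_inv_cancel_right] at e
    rw [Units.val_mul, Units.val_mul]
    exact mul_inv_eq_iff_eq_mul.1 e.symm
  suffices key : ∀ a b : Kˣ, f a * f b = f (a * b) from key (Units.mk0 t ht) (Units.mk0 u hu)
  have ksq : ∀ a b : Kˣ, f (a * a) * f b = f (a * a * b) := fun a b => by rw [hsq, (hcomm _ _).eq]
  have hval : ∀ a : Kˣ, ∃ s : Kˣ, a = s * s ∨ a = v * (s * s) := fun a => by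
    obtain ⟨j, rfl⟩ := Subgroup.mem_zpowers_iff.1 (hv a)
    rcases Int.even_or_odd j with ⟨m, rfl⟩ | ⟨m, rfl⟩
    · exact ⟨v ^ m, Or.inl (_root_.zpow_add v m m)⟩
    · exact ⟨v ^ m, Or.inr (by rw [← _root_.zpow_add, ← _root_.zpow_one_add]; congr 1; ring)⟩
  have kv : ∀ s : Kˣ, f (v * (s * s)) = f v * f (s * s) := fun s => by rw [mul_comm v, hsq]
  have hvv : f v * f v = f (v * v) := by
    by_cases h2 : ringChar K = 2
    · obtain ⟨w, hw⟩ := FiniteField.isSquare_of_char_two h2 (v : K)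
      have hw0 : w ≠ 0 := fun h => v.ne_zero (by rw [hw, h, mul_zero])
      rw [show v = Units.mk0 w hw0 * Units.mk0 w hw0 from Units.ext hw, ksq]
    have hvs : ¬IsSquare (v : K) := by
      rintro ⟨w, hw⟩
      obtain ⟨n, hn'⟩ := FiniteField.exists_nonsquare h2
      have hn0 : n ≠ 0 := fun h => hn' ⟨0, by simp [h]⟩
      obtain ⟨j, hj⟩ := Subgroup.mem_zpowers_iff.1 (hv (Units.mk0 n hn0))
      refine hn' ⟨w ^ j, ?_⟩
      rw [← mul_zpow, ← hw, ← Units.val_zpow_eq_zpow_val, hj, Units.val_mk0]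
    obtain ⟨x, y, hx', hy', hxy⟩ := exists_nonsquare_split h2 hvs
    have hv0 : (v : K) ≠ 0 := v.ne_zero
    have ha : (v : K) * x ^ 2 ≠ 0 := mul_ne_zero hv0 (pow_ne_zero _ hx')
    have hb : (v : K) * y ^ 2 ≠ 0 := mul_ne_zero hv0 (pow_ne_zero _ hy')
    set b : K := -1 / ((v : K) * x ^ 2) with hbdef
    have hb0 : b ≠ 0 := div_ne_zero (neg_ne_zero.2 one_ne_zero) ha
    have hbc : 1 + b = -((v : K) * y ^ 2) / ((v : K) * x ^ 2) := by
      rw [hbdef]; field_simp; linear_combination hxy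
    have h := S.h_special hb0 (by rw [hbc]; exact div_ne_zero (neg_ne_zero.2 hb) ha)
    set r : Kˣ := Units.mk0 x hx'
    set s : Kˣ := (v * Units.mk0 y hy')⁻¹
    rw [show b / (1 + b) = ((v * (s * s) : Kˣ) : K) by
        rw [hbc, hbdef]
        simp only [s, Units.val_mul, Units.val_inv_eq_inv_val, Units.val_mk0]
        field_simp,
      show -1 / b = ((v * (r * r) : Kˣ) : K) by
        rw [hbdef]; simp only [r, Units.val_mul, Units.val_mk0]; field_simp,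
      show -1 / (1 + b) = ((v * v * ((s * r) * (s * r)) : Kˣ) : K) by
        rw [hbc]
        simp only [r, s, Units.val_mul, Units.val_inv_eq_inv_val, Units.val_mk0]
        field_simp] at h
    have h' : f (v * (s * s)) * f (v * (r * r)) = f (v * v * (s * r * (s * r))) := h
    rw [kv, kv, show f v * f (s * s) * (f v * f (r * r)) = f v * f v * (f (s * s) * f (r * r)) by
        rw [mul_assoc, ← mul_assoc (f (s * s)), (hcomm (s * s) v).eq]; group, ksq,
      show s * s * (r * r) = s * r * (s * r) from mul_mul_mul_comm s s r r,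
      show f (v * v * (s * r * (s * r))) = f (v * v) * f (s * r * (s * r)) from (ksq v _).symm] at h'
    exact mul_right_cancel h'
  intro a b
  obtain ⟨r, rfl | rfl⟩ := hval a <;> obtain ⟨s, rfl | rfl⟩ := hval b
  · exact ksq r _
  · exact ksq r _
  · rw [mul_assoc v, show r * r * (s * s) = r * s * (r * s) from mul_mul_mul_comm r r s s, kv, kv, mul_assoc,
      ksq, mul_mul_mul_comm r r s s]
  · rw [show v * (r * r) * (v * (s * s)) = v * v * (r * s * (r * s)) by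
        rw [mul_mul_mul_comm v _ v, mul_mul_mul_comm r r s s], kv, kv, ← ksq v, ← hvv,
      ← show f (r * r) * f (s * s) = f (r * s * (r * s)) by rw [ksq, mul_mul_mul_comm r r s s],
      mul_assoc, ← mul_assoc (f (r * r)), (hcomm (r * r) v).eq]
    group

section Lift

/-- `x(t) y(-1/t) x(t)` for arbitrary families `x`, `y` -/
def wn {H : Type*} [Group H] (x y : K → H) (t : K) : H := x t * y (-t⁻¹) * x t

/-- the Steinberg relations of rank one -/
def rels (K : Type*) [Field K] : Set (FreeGroup (Bool × K)) :=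
  let x : K → FreeGroup (Bool × K) := fun t => FreeGroup.of (true, t)
  let y : K → FreeGroup (Bool × K) := fun t => FreeGroup.of (false, t)
  {r | ∃ t u, r = x t * x u * (x (t + u))⁻¹} ∪ {r | ∃ t u, r = y t * y u * (y (t + u))⁻¹} ∪
    {r | ∃ t, t ≠ 0 ∧ ∃ u, r = wn x y t * x u * (wn x y t)⁻¹ * (y (-(t⁻¹ ^ 2 * u)))⁻¹} ∪
    {r | ∃ t, t ≠ 0 ∧ ∃ u, r = wn x y t * y u * (wn x y t)⁻¹ * (x (-(t ^ 2 * u)))⁻¹} ∪
    {r | ∃ t u, t ≠ 0 ∧ u ≠ 0 ∧ r = wn x y t * wn x y (-1) * (wn x y u * wn x y (-1)) *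
      (wn x y (t * u) * wn x y (-1))⁻¹}

theorem lift_rels {H : Type*} [Group H] (S : Pre K H)
    (hC : ∀ t u : K, t ≠ 0 → u ≠ 0 → S.h t * S.h u = S.h (t * u)) :
    ∀ r ∈ rels K, FreeGroup.lift (fun p : Bool × K => if p.1 then S.X p.2 else S.Y p.2) r = 1 := by
  rintro r ((((⟨t, u, rfl⟩ | ⟨t, u, rfl⟩) | ⟨t, ht, u, rfl⟩) | ⟨t, ht, u, rfl⟩) | ⟨t, u, ht, hu, rfl⟩) <;>
    simp only [wn, map_mul, map_inv, FreeGroup.lift_apply_of, ↓reduceIte, Bool.false_eq_true] <;>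
    rw [mul_inv_eq_one]
  exacts [S.addX t u, S.addY t u, S.nX t ht u, S.nY t ht u, hC t u ht hu]

/-- the presentation, realised in `SL₂(K)` -/
def std (K : Type*) [Field K] : Pre K (Matrix.SpecialLinearGroup (Fin 2) K) where
  X := up
  Y := lo
  addX := up_add
  addY := lo_add
  nX t ht u := mul_inv_eq_iff_eq_mul.2 (Subtype.ext (by
    refine (Matrix.SpecialLinearGroup.coe_mul _ _).trans (Eq.trans ?_ (Matrix.SpecialLinearGroup.coe_mul _ _).symm)
    rw [n_val ht]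
    simp [coe_up, coe_lo, Matrix.mul_fin_two]
    field_simp))
  nY t ht u := mul_inv_eq_iff_eq_mul.2 (Subtype.ext (by
    refine (Matrix.SpecialLinearGroup.coe_mul _ _).trans (Eq.trans ?_ (Matrix.SpecialLinearGroup.coe_mul _ _).symm)
    rw [n_val ht]
    simp [coe_up, coe_lo, Matrix.mul_fin_two]
    field_simp))

theorem std_hC (t u : K) (ht : t ≠ 0) (hu : u ≠ 0) : (std K).h t * (std K).h u = (std K).h (t * u) :=
  Subtype.ext (by
    have e : ∀ s : K, s ≠ 0 → ((std K).h s : Matrix (Fin 2) (Fin 2) K) = !![s, 0; 0, s⁻¹] :=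
      fun s hs => θ_h (std K) (MonoidHom.id _) (fun _ => rfl) (fun _ => rfl) hs
    refine (Matrix.SpecialLinearGroup.coe_mul _ _).trans ?_
    rw [e t ht, e u hu, e _ (mul_ne_zero ht hu)]
    simp [Matrix.mul_fin_two, mul_comm])

/-- the universal property of `SL₂(K)` -/
theorem exists_hom {H : Type*} [Group H] (S : Pre K H)
    (hC : ∀ t u : K, t ≠ 0 → u ≠ 0 → S.h t * S.h u = S.h (t * u)) :
    ∃ φ : Matrix.SpecialLinearGroup (Fin 2) K →* H, (∀ t, φ (up t) = S.X t) ∧ ∀ t, φ (lo t) = S.Y t := by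
  let P := PresentedGroup (rels K)
  let π := PresentedGroup.mk (rels K)
  have hrel : ∀ r ∈ rels K, π r = 1 := fun r hr => PresentedGroup.one_of_mem hr
  let x : K → P := fun t => π (FreeGroup.of (true, t))
  let y : K → P := fun t => π (FreeGroup.of (false, t))
  let U : Pre K P :=
    { X := x
      Y := y
      addX := fun t u => mul_inv_eq_one.1 (by
        have := hrel _ (Or.inl (Or.inl (Or.inl (Or.inl ⟨t, u, rfl⟩))))
        simpa only [map_mul, map_inv] using this)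
      addY := fun t u => mul_inv_eq_one.1 (by
        have := hrel _ (Or.inl (Or.inl (Or.inl (Or.inr ⟨t, u, rfl⟩))))
        simpa only [map_mul, map_inv] using this)
      nX := fun t ht u => mul_inv_eq_one.1 (by
        have := hrel _ (Or.inl (Or.inl (Or.inr ⟨t, ht, u, rfl⟩)))
        simpa only [wn, map_mul, map_inv] using this)
      nY := fun t ht u => mul_inv_eq_one.1 (by
        have := hrel _ (Or.inl (Or.inr ⟨t, ht, u, rfl⟩))
        simpa only [wn, map_mul, map_inv] using this) }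
  have hU : ∀ t u : K, t ≠ 0 → u ≠ 0 → U.h t * U.h u = U.h (t * u) := fun t u ht hu => mul_inv_eq_one.1 (by
    have := hrel _ (Or.inr ⟨t, u, ht, hu, rfl⟩)
    simp only [wn, map_mul, map_inv] at this
    exact this)
  let θ : P →* Matrix.SpecialLinearGroup (Fin 2) K := PresentedGroup.toGroup (lift_rels (std K) std_hC)
  have θX : ∀ t, θ (U.X t) = up t := fun t => PresentedGroup.toGroup.of _
  have θY : ∀ t, θ (U.Y t) = lo t := fun t => PresentedGroup.toGroup.of _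
  have hgen : U.Gen := by
    rw [Pre.Gen, eq_top_iff, ← PresentedGroup.closure_range_of, Subgroup.closure_le]
    rintro _ ⟨⟨b, t⟩, rfl⟩
    cases b
    · exact Subgroup.subset_closure (Or.inr ⟨t, rfl⟩)
    · exact Subgroup.subset_closure (Or.inl ⟨t, rfl⟩)
  have hbij : Function.Bijective θ := by
    refine ⟨injective U θ θX θY hgen hU, fun g => ?_⟩
    have : Subgroup.closure (Set.range up ∪ Set.range lo) ≤ θ.range := by
      rw [Subgroup.closure_le]
      rintro _ (⟨t, rfl⟩ | ⟨t, rfl⟩)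
      exacts [⟨_, θX t⟩, ⟨_, θY t⟩]
    exact this (generated g)
  let e := MulEquiv.ofBijective θ hbij
  refine ⟨(PresentedGroup.toGroup (lift_rels S hC)).comp e.symm.toMonoidHom, fun t => ?_, fun t => ?_⟩
  · have : e.symm (up t) = U.X t := e.injective (by rw [e.apply_symm_apply]; exact (θX t).symm)
    simp only [MonoidHom.comp_apply, MulEquiv.coe_toMonoidHom, this]
    exact (PresentedGroup.toGroup.of _).trans (by simp)
  · have : e.symm (lo t) = U.Y t := e.injective (by rw [e.apply_symm_apply]; exact (θY t).symm)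
    simp only [MonoidHom.comp_apply, MulEquiv.coe_toMonoidHom, this]
    exact (PresentedGroup.toGroup.of _).trans (by simp)

end Lift

end CfsgLib.SL2Presentation
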