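import Mathlib
import Cfsg.Agent.Lib.Dickson.Mat

/-! Tori of `SL₂` over a finite field, in every characteristic. -/

set_option autoImplicit false
set_option linter.style.haveILetI false

namespace CfsgLib.SL2Torus

open Matrix CfsgLib.Dickson

variable {F : Type*} [Field F]

local notation "L" => Matrix.SpecialLinearGroup (Fin 2) F
local notation "M2" => Matrix (Fin 2) (Fin 2) F

/-- trace -/
def tr (g : L) : F := (g : M2).trace

/-- the quadratic form `x² + t x y + y²` -/
def Q (t x y : F) : F := x * x + t * x * y + y * y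

theorem ne_scalar {g : L} (hg : tr g ^ 2 ≠ 4) : ¬ ∃ c : F, (g : M2) = c • (1 : M2) := fun h => by
  rcases scalar_cases h with rfl | rfl <;> apply hg <;> simp [tr] <;> norm_num

theorem ne_scalar' {g : L} (h1 : g ≠ 1) (h2 : g ≠ -1) : ¬ ∃ c : F, (g : M2) = c • (1 : M2) := fun h => by
  rcases scalar_cases h with rfl | rfl
  · exact h1 rfl
  · exact h2 rfl

theorem sq_eq (g : L) : (g : M2) * g = tr g • (g : M2) - 1 := by
  rw [cayley, g.2, one_smul]; rfl

theorem inv_eq (g : L) : ((g⁻¹ : L) : M2) = tr g • (1 : M2) - (g : M2) := by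
  rw [Matrix.SpecialLinearGroup.coe_inv, Matrix.adjugate_fin_two]
  ext i j; fin_cases i <;> fin_cases j <;> simp [tr, Matrix.trace_fin_two]

theorem tr_conj (g h : L) : tr (h * g * h⁻¹) = tr g := by
  simp only [tr, Matrix.SpecialLinearGroup.coe_mul]
  rw [Matrix.trace_mul_comm, ← mul_assoc, ← Matrix.SpecialLinearGroup.coe_mul, inv_mul_cancel,
    Matrix.SpecialLinearGroup.coe_one, one_mul]

theorem tr_inv (g : L) : tr g⁻¹ = tr g := by
  simp only [tr, inv_eq, Matrix.trace_sub, Matrix.trace_smul, Matrix.trace_one, Fintype.card_fin, smul_eq_mul]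
  push_cast; ring

theorem tr_neg (g : L) : tr (-g) = - tr g := by simp [tr]

theorem det_coord (g : L) (x y : F) : (x • (1 : M2) + y • (g : M2)).det = Q (tr g) x y := by
  rw [det_smul_add, g.2, Q, tr]; ring

theorem coord_unique {g : L} (hg : ¬ ∃ c : F, (g : M2) = c • (1 : M2)) {x y x' y' : F}
    (h : x • (1 : M2) + y • (g : M2) = x' • (1 : M2) + y' • (g : M2)) : x = x' ∧ y = y' := by
  have hy : y = y' := by
    by_contra hne
    refine hg ⟨(x' - x) / (y - y'), ?_⟩
    ext i j
    have e := congrFun (congrFun h i) j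
    simp only [Matrix.add_apply, Matrix.smul_apply, smul_eq_mul] at e ⊢
    field_simp [sub_ne_zero.2 hne]
    linear_combination e
  subst hy
  refine ⟨?_, rfl⟩
  have e := congrFun (congrFun h 0) 0
  simpa using e

theorem mul_coord (g : L) (x y x' y' : F) :
    (x • (1 : M2) + y • (g : M2)) * (x' • (1 : M2) + y' • (g : M2)) =
      (x * x' - y * y') • (1 : M2) + (x * y' + y * x' + tr g * y * y') • (g : M2) := by
  simp only [mul_add, add_mul, Matrix.smul_mul, Matrix.mul_smul, Matrix.one_mul, Matrix.mul_one, smul_smul, sq_eq,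
    smul_sub, add_smul, sub_smul, mul_comm x' x, mul_comm y' x, mul_comm x' y, mul_comm y' y]
  ext i j
  simp only [Matrix.add_apply, Matrix.smul_apply, Matrix.sub_apply, smul_eq_mul]
  ring

/-- the centraliser -/
def cent (g : L) : Subgroup L := Subgroup.centralizer {g}

theorem mem_cent {g a : L} : a ∈ cent g ↔ g * a = a * g :=
  Subgroup.mem_centralizer_singleton_iff.trans ⟨Eq.symm, Eq.symm⟩

theorem self_mem_cent (g : L) : g ∈ cent g := mem_cent.2 rfl

theorem exists_coord {g a : L} (hg : ¬ ∃ c : F, (g : M2) = c • (1 : M2)) (ha : a ∈ cent g) :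
    ∃ x y : F, (a : M2) = x • (1 : M2) + y • (g : M2) ∧ Q (tr g) x y = 1 := by
  obtain ⟨x, y, e⟩ := commutant hg (congrArg Subtype.val (mem_cent.1 ha))
  exact ⟨x, y, e, by rw [← det_coord, ← e]; exact a.2⟩

/-- build an element of the centraliser from its coordinates -/
def elt (g : L) (x y : F) (h : Q (tr g) x y = 1) : L :=
  ⟨x • (1 : M2) + y • (g : M2), by rw [det_coord, h]⟩

theorem elt_mem (g : L) (x y : F) (h : Q (tr g) x y = 1) : elt g x y h ∈ cent g :=
  mem_cent.2 (Subtype.ext (by
    show (g : M2) * (x • (1 : M2) + y • (g : M2)) = (x • (1 : M2) + y • (g : M2)) * (g : M2)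
    simp [mul_add, add_mul]))

theorem cent_comm {g a b : L} (hg : ¬ ∃ c : F, (g : M2) = c • (1 : M2)) (ha : a ∈ cent g) (hb : b ∈ cent g) :
    a * b = b * a :=
  Subtype.ext (commute_of_commute hg (congrArg Subtype.val (mem_cent.1 ha)) (congrArg Subtype.val (mem_cent.1 hb)))

theorem cent_eq {g a : L} (hg : ¬ ∃ c : F, (g : M2) = c • (1 : M2)) (ha : a ∈ cent g)
    (ha' : ¬ ∃ c : F, (a : M2) = c • (1 : M2)) : cent a = cent g :=
  le_antisymm (fun x hx => mem_cent.2 (cent_comm ha' (mem_cent.2 (mem_cent.1 ha).symm) hx))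
    (fun x hx => mem_cent.2 (cent_comm hg ha hx))

theorem neg_one_mem_cent (g : L) : (-1 : L) ∈ cent g := mem_cent.2 (by rw [mul_neg_one, neg_one_mul])

/-- quadratic forms over a finite field represent everything -/
theorem exists_Q_eq [Fintype F] {t : F} (ht : t ^ 2 ≠ 4) (c : F) : ∃ x y : F, Q t x y = c := by
  by_cases h2 : ringChar F = 2
  · obtain ⟨x, hx⟩ := FiniteField.isSquare_of_char_two h2 c
    exact ⟨x, 0, by rw [Q, hx]; ring⟩
  · have hodd := FiniteField.odd_card_of_char_ne_two h2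
    have h2' : (2 : F) ≠ 0 := Ring.two_ne_zero h2
    set a : F := 1 - t ^ 2 / 4 with ha
    have h4 : (4 : F) ≠ 0 := by rw [show (4 : F) = 2 * 2 by norm_num]; exact mul_ne_zero h2' h2'
    have ha0 : a ≠ 0 := fun h => ht (by
      rw [ha, sub_eq_zero, eq_div_iff h4, one_mul] at h
      exact h.symm)
    obtain ⟨u, v, huv⟩ := FiniteField.exists_root_sum_quadratic (f := (Polynomial.X ^ 2 : Polynomial F))
      (g := Polynomial.C a * Polynomial.X ^ 2 - Polynomial.C c) (Polynomial.degree_X_pow 2)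
      (by rw [Polynomial.degree_sub_C] <;> rw [Polynomial.degree_C_mul_X_pow 2 ha0] <;> decide)
      hodd
    refine ⟨u - t * v / 2, v, ?_⟩
    simp [Polynomial.eval_sub, Polynomial.eval_mul] at huv
    rw [Q]
    rw [ha] at huv
    field_simp
    field_simp at huv
    linear_combination huv

/-- the companion matrix -/
def comp (t : F) : L := ⟨!![0, -1; 1, t], by simp [Matrix.det_fin_two]⟩

theorem tr_comp (t : F) : tr (comp t) = t := by simp [tr, comp, Matrix.trace_fin_two]

theorem isConj_comp [Fintype F] {g : L} (hg : tr g ^ 2 ≠ 4) : IsConj g (comp (tr g)) := by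
  have hns := ne_scalar hg
  -- a cyclic vector
  obtain ⟨a, b, hab⟩ : ∃ a b : F,
      (g : M2) 1 0 * a * a + ((g : M2) 1 1 - (g : M2) 0 0) * a * b - (g : M2) 0 1 * b * b ≠ 0 := by
    by_cases hc : (g : M2) 1 0 = 0
    · by_cases hb : (g : M2) 0 1 = 0
      · refine ⟨1, 1, ?_⟩
        rw [hc, hb]
        simp only [mul_one, zero_add, zero_mul, sub_zero]
        intro h
        exact hns ⟨(g : M2) 0 0, by
          ext i j; fin_cases i <;> fin_cases j <;> simp [hb, hc]
          exact sub_eq_zero.1 h⟩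
      · exact ⟨0, 1, by simpa using hb⟩
    · exact ⟨1, 0, by simpa using hc⟩
  set t := tr g with ht
  let P : M2 := !![a, (g : M2) 0 0 * a + (g : M2) 0 1 * b; b, (g : M2) 1 0 * a + (g : M2) 1 1 * b]
  have hP : P.det ≠ 0 := by
    simp only [P, Matrix.det_fin_two_of]
    intro h; exact hab (by linear_combination h)
  obtain ⟨x, y, hxy⟩ := exists_Q_eq (F := F) hg P.det⁻¹
  have hd : (g : M2) 0 0 * (g : M2) 1 1 - (g : M2) 0 1 * (g : M2) 1 0 = 1 := by
    rw [← Matrix.det_fin_two]; exact g.2
  have hgP : (g : M2) * P = P * (comp t : M2) := by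
    ext i j
    fin_cases i <;> fin_cases j <;> simp [P, comp, Matrix.mul_apply, Fin.sum_univ_two, ht, tr, Matrix.trace_fin_two]
    · linear_combination -a * hd
    · linear_combination -b * hd
  let P' : L := ⟨P * (x • (1 : M2) + y • (comp t : M2)), by
    rw [Matrix.det_mul, det_coord, tr_comp, hxy, mul_inv_cancel₀ hP]⟩
  rw [isConj_iff]
  refine ⟨P'⁻¹, ?_⟩
  have h : g * P' = P' * comp t := by
    apply Subtype.ext
    show (g : M2) * (P * (x • (1 : M2) + y • (comp t : M2))) = P * (x • (1 : M2) + y • (comp t : M2)) * (comp t : M2)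
    rw [← mul_assoc, hgP, mul_assoc, mul_assoc]
    simp [mul_add, add_mul]
  rw [inv_inv, mul_assoc, h, inv_mul_cancel_left]

theorem isConj_of_tr [Fintype F] {g g' : L} (hg : tr g ^ 2 ≠ 4) (h : tr g = tr g') : IsConj g g' :=
  (isConj_comp hg).trans (h ▸ (isConj_comp (g := g') (h ▸ hg)).symm)

/-- an eigenvalue of `g` in an algebraic closure -/
noncomputable def ev (t : F) : AlgebraicClosure F :=
  (IsAlgClosed.exists_root (Polynomial.X ^ 2 - Polynomial.C (algebraMap F (AlgebraicClosure F) t) * Polynomial.X + 1)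
    (by
      intro h
      have : (Polynomial.X ^ 2 - Polynomial.C (algebraMap F (AlgebraicClosure F) t) * Polynomial.X + 1).coeff 2 = 0 :=
        Polynomial.coeff_eq_zero_of_degree_lt (by rw [h]; norm_num)
      simp [Polynomial.coeff_one] at this)).choose

theorem ev_spec (t : F) : ev t ^ 2 - algebraMap F (AlgebraicClosure F) t * ev t + 1 = 0 := by
  have h := (IsAlgClosed.exists_root (Polynomial.X ^ 2 - Polynomial.C (algebraMap F (AlgebraicClosure F) t) * Polynomial.X + 1)
    (by
      intro h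
      have : (Polynomial.X ^ 2 - Polynomial.C (algebraMap F (AlgebraicClosure F) t) * Polynomial.X + 1).coeff 2 = 0 :=
        Polynomial.coeff_eq_zero_of_degree_lt (by rw [h]; norm_num)
      simp [Polynomial.coeff_one] at this)).choose_spec
  simpa [ev, Polynomial.IsRoot] using h

theorem ev_ne_zero (t : F) : ev t ≠ 0 := fun h => by
  have := ev_spec t
  rw [h] at this
  simp at this

theorem ev_sq_ne_one {t : F} (ht : t ^ 2 ≠ 4) : ev t ^ 2 ≠ 1 := fun h => by
  have := ev_spec t
  apply ht
  apply (algebraMap F (AlgebraicClosure F)).injective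
  have e : algebraMap F (AlgebraicClosure F) t * ev t = 2 := by linear_combination h - this
  rw [map_pow, map_ofNat]
  linear_combination -(algebraMap F (AlgebraicClosure F) t) ^ 2 * h +
    (algebraMap F (AlgebraicClosure F) t * ev t + 2) * e

variable {g : Matrix.SpecialLinearGroup (Fin 2) F}

theorem exists_pair (hg : tr g ^ 2 ≠ 4) (a : cent g) :
    ∃ c : F × F, (a.1 : M2) = c.1 • (1 : M2) + c.2 • (g : M2) := by
  obtain ⟨x, y, e, -⟩ := exists_coord (ne_scalar hg) a.2
  exact ⟨(x, y), e⟩

/-- coordinates in the centraliser -/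
noncomputable def coords (hg : tr g ^ 2 ≠ 4) (a : cent g) : F × F := (exists_pair hg a).choose

theorem coords_eq (hg : tr g ^ 2 ≠ 4) {a : cent g} {x y : F} (h : (a.1 : M2) = x • (1 : M2) + y • (g : M2)) :
    coords hg a = (x, y) := by
  obtain ⟨hx, hy⟩ := coord_unique (ne_scalar hg) ((exists_pair hg a).choose_spec.symm.trans h)
  exact Prod.ext hx hy

/-- the eigenvalue character of the centraliser -/
noncomputable def phi (hg : tr g ^ 2 ≠ 4) : cent g →* AlgebraicClosure F where
  toFun a := algebraMap F _ (coords hg a).1 + algebraMap F _ (coords hg a).2 * ev (tr g)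
  map_one' := by
    rw [coords_eq hg (a := (1 : cent g)) (x := 1) (y := 0) (by simp)]
    simp
  map_mul' a b := by
    obtain ⟨x, y, ea, -⟩ := exists_coord (ne_scalar hg) a.2
    obtain ⟨x', y', eb, -⟩ := exists_coord (ne_scalar hg) b.2
    have e : ((a * b : cent g).1 : M2) = (a.1 : M2) * (b.1 : M2) := rfl
    conv_rhs at e => rw [ea, eb, mul_coord]
    rw [coords_eq hg e, coords_eq hg ea, coords_eq hg eb]
    simp only [map_sub, map_add, map_mul]
    linear_combination -(algebraMap F (AlgebraicClosure F) y) * (algebraMap F (AlgebraicClosure F) y') * ev_spec (tr g)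

theorem phi_coord (hg : tr g ^ 2 ≠ 4) {a : cent g} {x y : F} (h : (a.1 : M2) = x • (1 : M2) + y • (g : M2)) :
    phi hg a = algebraMap F _ x + algebraMap F _ y * ev (tr g) := by
  show algebraMap F _ (coords hg a).1 + algebraMap F _ (coords hg a).2 * ev (tr g) = _
  rw [coords_eq hg h]

theorem phi_self (hg : tr g ^ 2 ≠ 4) : phi hg ⟨g, self_mem_cent g⟩ = ev (tr g) := by
  rw [phi_coord hg (x := 0) (y := 1) (by simp)]
  simp

/-- the characteristic equation of a value of the character -/
theorem phi_root (hg : tr g ^ 2 ≠ 4) (a : cent g) :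
    phi hg a ^ 2 - algebraMap F _ (tr a.1) * phi hg a + 1 = 0 := by
  obtain ⟨x, y, e, hQ⟩ := exists_coord (ne_scalar hg) a.2
  have ht : tr a.1 = 2 * x + y * tr g := by rw [tr, e, trace_smul_add]; rfl
  rw [phi_coord hg e, ht]
  have hQ' := congrArg (algebraMap F (AlgebraicClosure F)) hQ
  simp only [Q, map_add, map_mul, map_one] at hQ'
  simp only [map_add, map_mul, map_ofNat]
  linear_combination (algebraMap F (AlgebraicClosure F) y) ^ 2 * ev_spec (tr g) - hQ'

theorem phi_injective (hg : tr g ^ 2 ≠ 4) : Function.Injective (phi hg) := by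
  rw [injective_iff_map_eq_one]
  intro a ha
  obtain ⟨x, y, e, hQ⟩ := exists_coord (ne_scalar hg) a.2
  rw [phi_coord hg e] at ha
  have hQ' := congrArg (algebraMap F (AlgebraicClosure F)) hQ
  simp only [Q, map_add, map_mul, map_one] at hQ'
  set X := algebraMap F (AlgebraicClosure F) x
  set Y := algebraMap F (AlgebraicClosure F) y
  set T := algebraMap F (AlgebraicClosure F) (tr g)
  have h0 : Y * (T - 2 * ev (tr g)) = 0 := by
    linear_combination hQ' - Y ^ 2 * ev_spec (tr g) - (X + 1 - Y * ev (tr g) + T * Y) * ha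
  have hY : Y = 0 := (mul_eq_zero.1 h0).resolve_right fun h => ev_sq_ne_one hg (by
    linear_combination -ev_spec (tr g) - ev (tr g) * h)
  have hX : X = 1 := by rw [hY] at ha; simpa using ha
  refine Subtype.ext (Subtype.ext ?_)
  rw [e, (algebraMap F (AlgebraicClosure F)).injective (hY.trans (map_zero _).symm),
    (algebraMap F (AlgebraicClosure F)).injective (hX.trans (map_one _).symm)]
  simp

theorem phi_inv (hg : tr g ^ 2 ≠ 4) (a : cent g) : phi hg a * phi hg a⁻¹ = 1 := by
  rw [← map_mul, mul_inv_cancel, map_one]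

theorem eq_or_inv_of_tr (hg : tr g ^ 2 ≠ 4) {a : L} (ha : a ∈ cent g) (h : tr a = tr g) : a = g ∨ a = g⁻¹ := by
  have hr := phi_root hg ⟨a, ha⟩
  simp only [h] at hr
  have h0 : (phi hg ⟨a, ha⟩ - ev (tr g)) * (phi hg ⟨a, ha⟩ * ev (tr g) - 1) = 0 := by
    linear_combination ev (tr g) * hr - phi hg ⟨a, ha⟩ * ev_spec (tr g)
  rcases mul_eq_zero.1 h0 with h1 | h1
  · exact Or.inl (congrArg Subtype.val (phi_injective hg ((sub_eq_zero.1 h1).trans (phi_self hg).symm)))
  · refine Or.inr (congrArg Subtype.val (a₁ := (⟨a, ha⟩ : cent g)) (a₂ := (⟨g, self_mem_cent g⟩ : cent g)⁻¹)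
      (phi_injective hg ?_))
    have h2 := phi_inv hg ⟨g, self_mem_cent g⟩
    rw [phi_self] at h2
    apply mul_left_cancel₀ (ev_ne_zero (tr g))
    rw [h2]
    linear_combination h1

theorem inv_ne_self (hg : tr g ^ 2 ≠ 4) : g⁻¹ ≠ g := fun h => by
  refine ev_sq_ne_one hg ?_
  have e : (⟨g, self_mem_cent g⟩ : cent g)⁻¹ = ⟨g, self_mem_cent g⟩ := Subtype.ext h
  have h2 := phi_inv hg ⟨g, self_mem_cent g⟩
  rw [e, phi_self] at h2
  rw [sq]; exact h2

variable [Fintype F]

theorem cent_isCyclic (hg : tr g ^ 2 ≠ 4) : IsCyclic (cent g) :=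
  isCyclic_of_injective_ringHom (phi hg) (phi_injective hg)

/-- split semisimple traces -/
def Split (t : F) : Prop := ∃ l : F, l * l - t * l + 1 = 0

theorem card_cent_split (hg : tr g ^ 2 ≠ 4) (hs : Split (tr g)) : Nat.card (cent g) = Fintype.card F - 1 := by
  obtain ⟨l, hl⟩ := hs
  set t := tr g
  set m := t - l
  have hlm : l * m = 1 := by linear_combination -hl
  have hne : l - m ≠ 0 := fun h => hg (by
    have : t = 2 * l := by linear_combination -h
    linear_combination (t + 2 * l) * this + 4 * hlm - 4 * l * (this : t = 2 * l))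
  let e : {p : F × F // Q t p.1 p.2 = 1} → cent g := fun p => ⟨elt g p.1.1 p.1.2 p.2, elt_mem g _ _ _⟩
  have he : Function.Bijective e := by
    constructor
    · rintro ⟨⟨x, y⟩, h⟩ ⟨⟨x', y'⟩, h'⟩ heq
      obtain ⟨rfl, rfl⟩ := coord_unique (ne_scalar hg) (congrArg (fun a : cent g => (a.1 : M2)) heq)
      rfl
    · rintro ⟨a, ha⟩
      obtain ⟨x, y, h, hQ⟩ := exists_coord (ne_scalar hg) ha
      exact ⟨⟨(x, y), hQ⟩, Subtype.ext (Subtype.ext h.symm)⟩
  have hfac : ∀ x y : F, Q t x y = (x + l * y) * (x + m * y) := fun x y => by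
    rw [Q]; linear_combination (-(y * y)) * hlm
  let f : {p : F × F // Q t p.1 p.2 = 1} → Fˣ := fun p =>
    Units.mkOfMulEqOne (p.1.1 + l * p.1.2) (p.1.1 + m * p.1.2) (by rw [← hfac]; exact p.2)
  have hf : Function.Bijective f := by
    constructor
    · rintro ⟨⟨x, y⟩, h⟩ ⟨⟨x', y'⟩, h'⟩ heq
      have e1 : x + l * y = x' + l * y' := congrArg Units.val heq
      have e2 : x + m * y = x' + m * y' := by
        have hh : (x + l * y) * (x + m * y) = (x + l * y) * (x' + m * y') := by
          rw [← hfac, h, e1, ← hfac, h']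
        exact mul_left_cancel₀ (fun h0 => by rw [← hfac, h, h0, zero_mul] at hh; exact one_ne_zero hh) hh
      obtain rfl : y = y' := mul_left_cancel₀ hne (by linear_combination e1 - e2)
      obtain rfl : x = x' := by linear_combination e1
      rfl
    · intro u
      set y := ((u : F) - ((u⁻¹ : Fˣ) : F)) / (l - m) with hy
      have h1 : (u : F) - l * y + m * y = ((u⁻¹ : Fˣ) : F) := by
        rw [hy]; field_simp; ring
      refine ⟨⟨((u : F) - l * y, y), ?_⟩, Units.ext (by simp [f])⟩
      show Q t ((u : F) - l * y) y = 1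
      rw [hfac, h1, sub_add_cancel, Units.mul_inv]
  rw [← Nat.card_congr (Equiv.ofBijective e he), Nat.card_congr (Equiv.ofBijective f hf), Nat.card_units,
    Nat.card_eq_fintype_card]

theorem card_cent_elliptic (hg : tr g ^ 2 ≠ 4) (hs : ¬ Split (tr g)) : Nat.card (cent g) = Fintype.card F + 1 := by
  classical
  set t := tr g
  have hzero : ∀ x y : F, Q t x y = 0 → x = 0 ∧ y = 0 := by
    intro x y h
    by_cases hy : y = 0
    · rw [hy, Q] at h
      exact ⟨mul_self_eq_zero.1 (by linear_combination h), hy⟩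
    · exfalso
      rw [Q] at h
      exact hs ⟨-(x / y), by field_simp; linear_combination h⟩
  let e : {p : F × F // Q t p.1 p.2 = 1} → cent g := fun p => ⟨elt g p.1.1 p.1.2 p.2, elt_mem g _ _ _⟩
  have he : Function.Bijective e := by
    constructor
    · rintro ⟨⟨x, y⟩, h⟩ ⟨⟨x', y'⟩, h'⟩ heq
      obtain ⟨rfl, rfl⟩ := coord_unique (ne_scalar hg) (congrArg (fun a : cent g => (a.1 : M2)) heq)
      rfl
    · rintro ⟨a, ha⟩
      obtain ⟨x, y, h, hQ⟩ := exists_coord (ne_scalar hg) ha
      exact ⟨⟨(x, y), hQ⟩, Subtype.ext (Subtype.ext h.symm)⟩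
  rw [← Nat.card_congr (Equiv.ofBijective e he), Nat.card_eq_fintype_card, Fintype.card_subtype]
  set S : F → Finset (F × F) := fun c => {p | Q t p.1 p.2 = c} with hS
  have hQm : ∀ a b x y : F, Q t (a * x - b * y) (a * y + b * x + t * b * y) = Q t a b * Q t x y := fun a b x y => by
    simp only [Q]; ring
  have hfib : ∀ c : F, c ≠ 0 → (S c).card = (S 1).card := by
    intro c hc
    obtain ⟨a, b, hab⟩ := exists_Q_eq hg c
    symm
    refine Finset.card_bij (fun p _ => (a * p.1 - b * p.2, a * p.2 + b * p.1 + t * b * p.2)) ?_ ?_ ?_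
    · intro p hp
      simp only [hS, Finset.mem_filter, Finset.mem_univ, true_and] at hp ⊢
      rw [hQm, hab, hp, mul_one]
    · rintro ⟨x, y⟩ - ⟨x', y'⟩ - h
      simp only [Prod.mk.injEq] at h
      have h0 : Q t (a * (x - x') - b * (y - y')) (a * (y - y') + b * (x - x') + t * b * (y - y')) = 0 := by
        rw [show a * (x - x') - b * (y - y') = 0 by linear_combination h.1,
          show a * (y - y') + b * (x - x') + t * b * (y - y') = 0 by linear_combination h.2]
        simp [Q]
      rw [hQm, hab] at h0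
      obtain ⟨h3, h4⟩ := hzero _ _ ((mul_eq_zero.1 h0).resolve_left hc)
      rw [sub_eq_zero.1 h3, sub_eq_zero.1 h4]
    · rintro ⟨u, v⟩ hp
      simp only [hS, Finset.mem_filter, Finset.mem_univ, true_and] at hp
      have h1 : Q t ((a + t * b) / c) (-b / c) * c = 1 := by
        rw [Q] at hab ⊢
        field_simp
        linear_combination hab
      refine ⟨((a + t * b) / c * u - -b / c * v, (a + t * b) / c * v + -b / c * u + t * (-b / c) * v), ?_, ?_⟩
      · simp only [hS, Finset.mem_filter, Finset.mem_univ, true_and]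
        rw [hQm, hp]
        exact h1
      · rw [Q] at hab
        simp only [Prod.mk.injEq]
        constructor <;> field_simp
        · linear_combination u * hab
        · linear_combination v * hab
  have hpart : (Finset.univ : Finset (F × F)).card = ∑ c : F, (S c).card :=
    Finset.card_eq_sum_card_fiberwise fun _ _ => Finset.mem_univ _
  have hS0 : (S 0).card = 1 := by
    rw [Finset.card_eq_one]
    refine ⟨(0, 0), ?_⟩
    ext ⟨x, y⟩
    simp only [hS, Finset.mem_filter, Finset.mem_univ, true_and, Finset.mem_singleton, Prod.mk.injEq]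
    exact ⟨hzero x y, fun ⟨h1, h2⟩ => by subst h1; subst h2; simp [Q]⟩
  rw [Finset.sum_eq_add_sum_sdiff_singleton_of_mem (Finset.mem_univ 0), hS0,
    Finset.sum_congr rfl (g := fun _ => (S 1).card) (fun c hc => hfib c (by simpa using hc)), Finset.sum_const,
    smul_eq_mul, Finset.card_univ, Fintype.card_prod, Finset.card_sdiff, Finset.card_univ] at hpart
  simp only [Finset.inter_univ, Finset.card_singleton] at hpart
  have hq := Fintype.one_lt_card (α := F)
  show (S 1).card = Fintype.card F + 1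
  obtain ⟨k, hk⟩ : ∃ k, Fintype.card F = k + 1 := ⟨Fintype.card F - 1, by omega⟩
  rw [hk, Nat.add_sub_cancel] at hpart
  rw [hk] at hq ⊢
  exact Nat.eq_of_mul_eq_mul_left (show 0 < k by omega) (by linarith)

theorem card_cent (hg : tr g ^ 2 ≠ 4) :
    Nat.card (cent g) = Fintype.card F - 1 ∨ Nat.card (cent g) = Fintype.card F + 1 := by
  by_cases h : Split (tr g)
  · exact Or.inl (card_cent_split hg h)
  · exact Or.inr (card_cent_elliptic hg h)

theorem range_phi (hg : tr g ^ 2 ≠ 4) (z : AlgebraicClosure F) (hz : z ^ Nat.card (cent g) = 1) :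
    ∃ a : cent g, phi hg a = z := by
  classical
  haveI : Fintype (cent g) := Fintype.ofFinite _
  set n := Nat.card (cent g) with hn
  have hpos : 0 < n := Nat.card_pos
  set R := Polynomial.nthRootsFinset n (1 : AlgebraicClosure F) with hR
  have hsub : Finset.univ.image (phi hg) ⊆ R := by
    intro w hw
    obtain ⟨a, -, rfl⟩ := Finset.mem_image.1 hw
    rw [hR, Polynomial.mem_nthRootsFinset hpos, ← map_pow, hn, pow_card_eq_one', map_one]
  have heq : Finset.univ.image (phi hg) = R := by
    refine Finset.eq_of_subset_of_card_le hsub ?_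
    rw [Finset.card_image_of_injective _ (phi_injective hg), Finset.card_univ, ← Nat.card_eq_fintype_card, ← hn, hR,
      Polynomial.nthRootsFinset_def]
    exact (Multiset.toFinset_card_le _).trans (Polynomial.card_nthRoots n 1)
  have : z ∈ R := by rw [hR, Polynomial.mem_nthRootsFinset hpos]; exact hz
  rw [← heq] at this
  obtain ⟨a, -, ha⟩ := Finset.mem_image.1 this
  exact ⟨a, ha⟩

/-- tori of the same order are conjugate -/
theorem cent_conj {g' : L} (hg : tr g ^ 2 ≠ 4) (hg' : tr g' ^ 2 ≠ 4) (hn : Nat.card (cent g) = Nat.card (cent g')) :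
    ∃ h : L, (cent g).map (MulAut.conj h).toMonoidHom = cent g' := by
  obtain ⟨a, ha⟩ := range_phi hg (ev (tr g')) (by
    rw [hn, ← phi_self hg', ← map_pow, pow_card_eq_one', map_one])
  have hta : tr a.1 = tr g' := by
    have h1 := phi_root hg a
    rw [ha] at h1
    have h2 := ev_spec (tr g')
    apply (algebraMap F (AlgebraicClosure F)).injective
    exact mul_right_cancel₀ (ev_ne_zero (tr g')) (by linear_combination h2 - h1)
  have hta4 : tr a.1 ^ 2 ≠ 4 := hta ▸ hg'
  obtain ⟨h, hh⟩ := isConj_iff.1 (isConj_of_tr hta4 hta)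
  refine ⟨h, ?_⟩
  rw [← cent_eq (ne_scalar hg) a.2 (ne_scalar hta4), ← hh]
  ext x
  constructor
  · rintro ⟨y, hy, rfl⟩
    rw [mem_cent]
    simp only [MulEquiv.coe_toMonoidHom, MulAut.conj_apply]
    calc h * a.1 * h⁻¹ * (h * y * h⁻¹) = h * (a.1 * y) * h⁻¹ := by group
      _ = h * (y * a.1) * h⁻¹ := by rw [mem_cent.1 hy]
      _ = h * y * h⁻¹ * (h * a.1 * h⁻¹) := by group
  · intro hx
    refine ⟨h⁻¹ * x * h, mem_cent.2 ?_, by simp only [MulEquiv.coe_toMonoidHom, MulAut.conj_apply]; group⟩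
    calc a.1 * (h⁻¹ * x * h) = h⁻¹ * (h * a.1 * h⁻¹ * x) * h := by group
      _ = h⁻¹ * (x * (h * a.1 * h⁻¹)) * h := by rw [mem_cent.1 hx]
      _ = h⁻¹ * x * h * a.1 := by group

omit [Fintype F] in
/-- an element inverting `g` inverts its centraliser -/
theorem inverts (hg : tr g ^ 2 ≠ 4) {h : L} (hh : h * g * h⁻¹ = g⁻¹) {a : L} (ha : a ∈ cent g) :
    h * a * h⁻¹ = a⁻¹ := by
  obtain ⟨x, y, e, hQ⟩ := exists_coord (ne_scalar hg) ha
  apply Subtype.ext
  have hh' : (h : M2) * (g : M2) * ((h⁻¹ : L) : M2) = tr g • (1 : M2) - (g : M2) := by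
    rw [← inv_eq, ← hh]; rfl
  have hta : tr a = 2 * x + y * tr g := by rw [tr, e, trace_smul_add]; rfl
  rw [inv_eq, hta, e]
  show (h : M2) * (a : M2) * ((h⁻¹ : L) : M2) = _
  rw [e, mul_add, add_mul, Matrix.mul_smul, Matrix.mul_smul, mul_one, Matrix.smul_mul, Matrix.smul_mul,
    ← Matrix.SpecialLinearGroup.coe_mul, mul_inv_cancel, Matrix.SpecialLinearGroup.coe_one, hh']
  ext i j
  simp only [Matrix.add_apply, Matrix.smul_apply, Matrix.sub_apply, smul_eq_mul]
  ring

theorem exists_inverter (hg : tr g ^ 2 ≠ 4) : ∃ h : L, h * g * h⁻¹ = g⁻¹ :=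
  isConj_iff.1 (isConj_of_tr hg (tr_inv g).symm)

omit [Fintype F] in
theorem inverter_not_mem (hg : tr g ^ 2 ≠ 4) {h : L} (hh : h * g * h⁻¹ = g⁻¹) : h ∉ cent g := fun hm => by
  rw [← mem_cent.1 hm, mul_inv_cancel_right] at hh
  exact inv_ne_self hg hh.symm

omit [Fintype F] in
theorem inverter_sq (hg : tr g ^ 2 ≠ 4) {h : L} (hh : h * g * h⁻¹ = g⁻¹) : h * h = -1 := by
  have hmem : h * h ∈ cent g := by
    rw [mem_cent]
    have e1 : h * g = g⁻¹ * h := mul_inv_eq_iff_eq_mul.1 hh
    have e2 : h * g⁻¹ = g * h := by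
      calc h * g⁻¹ = g * (g⁻¹ * h) * g⁻¹ := by group
        _ = g * (h * g) * g⁻¹ := by rw [e1]
        _ = g * h := by group
    rw [← mul_assoc, ← e2, mul_assoc, ← e1, ← mul_assoc]
  have h1 := inverts hg hh hmem
  rw [show h * (h * h) * h⁻¹ = h * h by group] at h1
  have h2 : phi hg ⟨h * h, hmem⟩ ^ 2 = 1 := by
    have e : (⟨h * h, hmem⟩ : cent g)⁻¹ = ⟨h * h, hmem⟩ := Subtype.ext h1.symm
    have := phi_inv hg ⟨h * h, hmem⟩
    rw [e] at this
    rw [sq]; exact this
  rcases sq_eq_one_iff.1 h2 with h3 | h3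
  · have h4 : h * h = 1 := congrArg Subtype.val (phi_injective hg (h3.trans (map_one _).symm))
    by_cases h5 : tr h = 0
    · apply Subtype.ext
      show (h : M2) * h = ((-1 : L) : M2)
      rw [sq_eq, h5, zero_smul, zero_sub, Matrix.SpecialLinearGroup.coe_neg, Matrix.SpecialLinearGroup.coe_one]
    · exfalso
      refine inverter_not_mem hg hh ?_
      have e : (h : M2) = (2 / tr h) • (1 : M2) := by
        have := congrArg (fun x : L => (x : M2)) h4
        simp only [Matrix.SpecialLinearGroup.coe_mul, Matrix.SpecialLinearGroup.coe_one] at this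
        rw [sq_eq, sub_eq_iff_eq_add] at this
        rw [div_eq_inv_mul, mul_smul, two_smul, ← this, smul_smul, inv_mul_cancel₀ h5, one_smul]
      exact mem_cent.2 (Subtype.ext (by
        show (g : M2) * h = (h : M2) * g
        rw [e]; simp))
  · refine congrArg Subtype.val (a₁ := (⟨h * h, hmem⟩ : cent g)) (phi_injective hg (a₂ := ⟨-1, neg_one_mem_cent g⟩) ?_)
    rw [h3, phi_coord hg (x := -1) (y := 0) (by simp)]
    simp

omit [Fintype F] in
theorem normalizer_cases (hg : tr g ^ 2 ≠ 4) {h : L}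
    (hh : h ∈ Subgroup.normalizer (cent g : Set L)) : h ∈ cent g ∨ h * g * h⁻¹ = g⁻¹ := by
  rcases eq_or_inv_of_tr hg ((Subgroup.mem_normalizer_iff.1 hh g).1 (self_mem_cent g)) (tr_conj g h) with h1 | h1
  · exact Or.inl (mem_cent.2 (mul_inv_eq_iff_eq_mul.1 h1).symm)
  · exact Or.inr h1

omit [Fintype F] in
theorem inverter_mem_normalizer (hg : tr g ^ 2 ≠ 4) {h : L} (hh : h * g * h⁻¹ = g⁻¹) :
    h ∈ Subgroup.normalizer (cent g : Set L) := by
  refine Subgroup.mem_normalizer_iff.2 fun a => ⟨fun ha => ?_, fun ha => ?_⟩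
  · rw [inverts hg hh ha]; exact inv_mem ha
  · have h1 : h * (h * a * h⁻¹) * h⁻¹ ∈ cent g := by rw [inverts hg hh ha]; exact inv_mem ha
    have h2 := inverter_sq hg hh
    rw [show h * (h * a * h⁻¹) * h⁻¹ = (h * h) * a * (h * h)⁻¹ by group, h2] at h1
    simpa using h1

theorem card_normalizer (hg : tr g ^ 2 ≠ 4) :
    Nat.card (Subgroup.normalizer (cent g : Set L)) = 2 * Nat.card (cent g) := by
  obtain ⟨h₀, h0⟩ := exists_inverter hg
  have hset : ((Subgroup.normalizer (cent g : Set L) : Subgroup L) : Set L) =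
      (cent g : Set L) ∪ (fun a => h₀ * a) '' (cent g : Set L) := by
    ext x
    constructor
    · intro hx
      rcases normalizer_cases hg hx with h1 | h1
      · exact Or.inl h1
      · refine Or.inr ⟨h₀⁻¹ * x, mem_cent.2 ?_, mul_inv_cancel_left _ _⟩
        have e1 : h₀⁻¹ * g⁻¹ * h₀ = g := by rw [← h0]; group
        calc g * (h₀⁻¹ * x) = h₀⁻¹ * g⁻¹ * h₀ * (h₀⁻¹ * x) := by rw [e1]
          _ = h₀⁻¹ * (x * g * x⁻¹) * x := by rw [h1]; group
          _ = h₀⁻¹ * x * g := by group
    · rintro (hx | ⟨a, ha, rfl⟩)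
      · exact Subgroup.le_normalizer hx
      · exact mul_mem (inverter_mem_normalizer hg h0) (Subgroup.le_normalizer ha)
  calc Nat.card (Subgroup.normalizer (cent g : Set L))
      = ((Subgroup.normalizer (cent g : Set L) : Subgroup L) : Set L).ncard := Nat.card_coe_set_eq _
    _ = (cent g : Set L).ncard + (cent g : Set L).ncard := by
      rw [hset, Set.ncard_union_eq, Set.ncard_image_of_injective _ (mul_right_injective h₀)]
      rw [Set.disjoint_left]
      rintro x hx ⟨a, ha, rfl⟩
      exact inverter_not_mem hg h0 (by simpa using mul_mem hx (inv_mem ha))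
    _ = _ := by rw [two_mul, ← Nat.card_coe_set_eq]; rfl

end CfsgLib.SL2Torus
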