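import Mathlib
import Cfsg.Agent.Lib.SL2.Torus

/-! Traces, unipotent elements and element orders in `SL₂` over a finite field. -/

set_option autoImplicit false
set_option linter.style.haveILetI false

namespace CfsgLib.SL2Torus

open Matrix CfsgLib.Dickson

variable {F : Type*} [Field F]

local notation "L" => Matrix.SpecialLinearGroup (Fin 2) F
local notation "M2" => Matrix (Fin 2) (Fin 2) F

theorem exists_unip_cases {g : L} (h : tr g ^ 2 = 4) :
    ∃ e : F, e * e = 1 ∧ tr g = 2 * e := by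
  by_cases h2 : (2 : F) = 0
  · refine ⟨1, one_mul 1, ?_⟩
    have h0 : tr g ^ 2 = 0 := by linear_combination h + 2 * h2
    rw [pow_eq_zero_iff two_ne_zero] at h0
    rw [h0, h2, zero_mul]
  · refine ⟨tr g / 2, ?_, by field_simp⟩
    field_simp
    linear_combination h

/-- the nilpotent part -/
theorem nilp {g : L} {e : F} (he : e * e = 1) (ht : tr g = 2 * e) :
    ((g : M2) - e • (1 : M2)) * ((g : M2) - e • (1 : M2)) = 0 := by
  simp only [sub_mul, mul_sub, Matrix.smul_mul, Matrix.mul_smul, Matrix.one_mul, Matrix.mul_one, smul_smul, sq_eq, ht, he]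
  ext i j
  simp only [Matrix.sub_apply, Matrix.smul_apply, smul_eq_mul, Matrix.zero_apply]
  ring

/-- upper unitriangular elements -/
def u (b : F) : L := ⟨!![1, b; 0, 1], by simp [Matrix.det_fin_two]⟩

/-- lower unitriangular elements -/
def l (b : F) : L := ⟨!![1, 0; b, 1], by simp [Matrix.det_fin_two]⟩

theorem u_add (a b : F) : u a * u b = u (a + b) := by
  apply Subtype.ext
  rw [Matrix.SpecialLinearGroup.coe_mul]
  simp [u, add_comm]

theorem l_add (a b : F) : l a * l b = l (a + b) := by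
  apply Subtype.ext
  rw [Matrix.SpecialLinearGroup.coe_mul]
  simp [l, add_comm]

theorem u_zero : u (0 : F) = 1 := Subtype.ext (by simp [u, Matrix.one_fin_two])

theorem l_zero : l (0 : F) = 1 := Subtype.ext (by simp [l, Matrix.one_fin_two])

theorem u_pow (b : F) (n : ℕ) : u b ^ n = u (n * b) := by
  induction n with
  | zero => simp [u_zero]
  | succ n ih => rw [pow_succ, ih, u_add]; congr 1; push_cast; ring

theorem l_pow (b : F) (n : ℕ) : l b ^ n = l (n * b) := by
  induction n with
  | zero => simp [l_zero]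
  | succ n ih => rw [pow_succ, ih, l_add]; congr 1; push_cast; ring

theorem u_injective : Function.Injective (u : F → L) := fun a b h => by
  simpa [u] using congrArg (fun x : L => (x : M2) 0 1) h

theorem l_injective : Function.Injective (l : F → L) := fun a b h => by
  simpa [l] using congrArg (fun x : L => (x : M2) 1 0) h

/-- a non-central element of trace `±2` is conjugate to `±u b` -/
theorem exists_conj_u {g : L} (hg : ¬ ∃ c : F, (g : M2) = c • (1 : M2)) {e : F} (he : e * e = 1)
    (ht : tr g = 2 * e) : ∃ P : L, ∃ b : F, b ≠ 0 ∧ ((P⁻¹ * g * P : L) : M2) = e • ((u b : L) : M2) := by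
  set N := (g : M2) - e • (1 : M2) with hN
  have hN0 : N ≠ 0 := fun h => hg ⟨e, sub_eq_zero.1 h⟩
  obtain ⟨i, j, hij⟩ : ∃ i j, N i j ≠ 0 := by
    by_contra h; push Not at h; exact hN0 (Matrix.ext h)
  have hN2 := nilp he ht
  have hNe : ∀ i j, N i 0 * N 0 j + N i 1 * N 1 j = 0 := fun i j => by
    have := congrFun (congrFun hN2 i) j
    rwa [Matrix.mul_apply, Fin.sum_univ_two] at this
  -- a column `v` of `N`, completed to a matrix of determinant one
  obtain ⟨v0, v1, hv, hv0, hv1⟩ : ∃ v0 v1 : F, (v0 ≠ 0 ∨ v1 ≠ 0) ∧ N 0 0 * v0 + N 0 1 * v1 = 0 ∧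
      N 1 0 * v0 + N 1 1 * v1 = 0 := by
    refine ⟨N 0 j, N 1 j, ?_, hNe 0 j, hNe 1 j⟩
    fin_cases i
    · exact Or.inl hij
    · exact Or.inr hij
  obtain ⟨w0, w1, hw⟩ : ∃ w0 w1 : F, v0 * w1 - w0 * v1 = 1 := by
    rcases hv with h | h
    · exact ⟨0, v0⁻¹, by field_simp; ring⟩
    · exact ⟨-v1⁻¹, 0, by field_simp; ring⟩
  let P : L := ⟨!![v0, w0; v1, w1], by rw [Matrix.det_fin_two_of]; linear_combination hw⟩
  have g00 : (g : M2) 0 0 = N 0 0 + e := by simp [hN]
  have g01 : (g : M2) 0 1 = N 0 1 := by simp [hN]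
  have g10 : (g : M2) 1 0 = N 1 0 := by simp [hN]
  have g11 : (g : M2) 1 1 = N 1 1 + e := by simp [hN]
  have hT : N 0 0 + N 1 1 = 0 := by
    have : tr g = (g : M2) 0 0 + (g : M2) 1 1 := Matrix.trace_fin_two _
    rw [g00, g11, ht] at this
    linear_combination -this
  set c := e * (w1 * (N 0 0 * w0 + N 0 1 * w1) - w0 * (N 1 0 * w0 + N 1 1 * w1)) with hc
  have hP : ((P⁻¹ * g * P : L) : M2) = e • ((u c : L) : M2) := by
    rw [Matrix.SpecialLinearGroup.coe_mul, Matrix.SpecialLinearGroup.coe_mul, Matrix.SpecialLinearGroup.coe_inv]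
    ext i j
    fin_cases i <;> fin_cases j <;>
      simp [P, u, Matrix.adjugate_fin_two, Matrix.vecMul, dotProduct, Matrix.mul_apply, Fin.sum_univ_two, g00, g01, g10, g11, hc]
    · linear_combination e * hw + w1 * hv0 - w0 * hv1
    · linear_combination -(w1 * (N 0 0 * w0 + N 0 1 * w1) - w0 * (N 1 0 * w0 + N 1 1 * w1)) * he
    · linear_combination -v1 * hv0 + v0 * hv1
    · linear_combination e * hw + (v0 * w1 - w0 * v1) * hT - w1 * hv0 + w0 * hv1
  refine ⟨P, c, fun h0 => hg ⟨e, ?_⟩, hP⟩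
  rw [h0, u_zero, Matrix.SpecialLinearGroup.coe_one] at hP
  have := congrArg (fun x => (P : M2) * x * ((P⁻¹ : L) : M2)) hP
  simp only [← Matrix.SpecialLinearGroup.coe_mul] at this
  rw [show P * (P⁻¹ * g * P) * P⁻¹ = g by group, Matrix.mul_smul, Matrix.mul_one, Matrix.smul_mul,
    ← Matrix.SpecialLinearGroup.coe_mul, mul_inv_cancel, Matrix.SpecialLinearGroup.coe_one] at this
  exact this

theorem coe_eps {e : F} (he : e * e = 1) (x : L) : ∃ s : L, (s = 1 ∨ s = -1) ∧ e • (x : M2) = ((s * x : L) : M2) := by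
  rcases mul_self_eq_one_iff.1 he with rfl | rfl
  · exact ⟨1, Or.inl rfl, by simp⟩
  · exact ⟨-1, Or.inr rfl, by simp⟩

variable [Fintype F]

theorem card_cent_unip {g : L} (hg : ¬ ∃ c : F, (g : M2) = c • (1 : M2)) (ht : tr g ^ 2 = 4) :
    Nat.card (cent g) = Fintype.card F * Nat.gcd 2 (Fintype.card F - 1) := by
  classical
  obtain ⟨e, he, hte⟩ := exists_unip_cases ht
  let f : {p : F × F // Q (tr g) p.1 p.2 = 1} → cent g := fun p => ⟨elt g p.1.1 p.1.2 p.2, elt_mem g _ _ _⟩
  have hf : Function.Bijective f := by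
    constructor
    · rintro ⟨⟨x, y⟩, h⟩ ⟨⟨x', y'⟩, h'⟩ heq
      obtain ⟨rfl, rfl⟩ := coord_unique hg (congrArg (fun a : cent g => (a.1 : M2)) heq)
      rfl
    · rintro ⟨a, ha⟩
      obtain ⟨x, y, h, hQ⟩ := exists_coord hg ha
      exact ⟨⟨(x, y), hQ⟩, Subtype.ext (Subtype.ext h.symm)⟩
  have hQ : ∀ x y : F, Q (tr g) x y = (x + e * y) ^ 2 := fun x y => by
    rw [Q, hte]; linear_combination -(y * y) * he
  let k : {p : F × F // Q (tr g) p.1 p.2 = 1} → {s : F // s ^ 2 = 1} × F := fun p =>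
    (⟨p.1.1 + e * p.1.2, by rw [← hQ]; exact p.2⟩, p.1.2)
  have hk : Function.Bijective k := by
    constructor
    · rintro ⟨⟨x, y⟩, h⟩ ⟨⟨x', y'⟩, h'⟩ heq
      simp only [k, Prod.mk.injEq, Subtype.mk.injEq] at heq
      obtain ⟨h1, rfl⟩ := heq
      obtain rfl : x = x' := by linear_combination h1
      rfl
    · rintro ⟨⟨s, hs⟩, y⟩
      exact ⟨⟨(s - e * y, y), by rw [hQ, sub_add_cancel, hs]⟩, by simp [k]⟩
  rw [← Nat.card_congr (Equiv.ofBijective f hf), Nat.card_congr (Equiv.ofBijective k hk), Nat.card_prod,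
    Nat.card_eq_fintype_card (α := F), mul_comm]
  congr 1
  rw [show Nat.card {s : F // s ^ 2 = 1} = ({s : F | s ^ 2 = 1}).ncard from Nat.card_coe_set_eq {s : F | s ^ 2 = 1}]
  have hset : ({s : F | s ^ 2 = 1}) = {1, -1} := by
    ext s; rw [Set.mem_ofPred_eq, sq_eq_one_iff]; simp
  rw [hset]
  rcases Nat.even_or_odd (Fintype.card F) with hev | hodd
  · have h2 : ringChar F = 2 := by
      by_contra h
      have := FiniteField.odd_card_of_char_ne_two h
      rw [Nat.even_iff] at hev
      omega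
    haveI : CharP F 2 := ringChar.of_eq h2
    rw [CharTwo.neg_eq, Set.pair_eq_singleton, Set.ncard_singleton]
    symm
    rw [Nat.even_iff] at hev
    have hq := Fintype.one_lt_card (α := F)
    exact Nat.coprime_two_left.2 (Nat.odd_iff.2 (by omega))
  · have hne : (1 : F) ≠ -1 := by
      intro h
      have h2 : ringChar F = 2 := by
        have hd : ringChar F ∣ 2 := (ringChar.spec F 2).mp (by push_cast; linear_combination h)
        exact ((Nat.dvd_prime Nat.prime_two).mp hd).resolve_left CharP.ringChar_ne_one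
      have := FiniteField.even_card_of_char_two h2
      rw [Nat.odd_iff] at hodd
      omega
    rw [Set.ncard_pair hne]
    symm
    rw [Nat.odd_iff] at hodd
    exact Nat.gcd_eq_left (Nat.dvd_of_mod_eq_zero (by omega))

/-- elements of trace `t²≠4` have order dividing `q ± 1` -/
theorem pow_card_cent_eq_one (g : L) : g ^ Nat.card (cent g) = 1 := by
  have := pow_card_eq_one' (x := (⟨g, self_mem_cent g⟩ : cent g))
  exact congrArg Subtype.val this

theorem exists_elliptic : ∃ t : F, t ^ 2 ≠ 4 ∧ ¬ Split t := by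
  classical
  have hlt : (Finset.univ.image (fun a : Fˣ => (a : F) + ((a⁻¹ : Fˣ) : F))).card < (Finset.univ : Finset F).card := by
    refine lt_of_le_of_lt Finset.card_image_le ?_
    rw [Finset.card_univ, Finset.card_univ, Fintype.card_units]
    have := Fintype.one_lt_card (α := F)
    omega
  obtain ⟨t, -, ht⟩ := Finset.exists_mem_notMem_of_card_lt_card hlt
  have hns : ¬ Split t := by
    rintro ⟨r, hr⟩
    apply ht
    have hr0 : r ≠ 0 := fun h => by rw [h] at hr; simp at hr
    refine Finset.mem_image.2 ⟨Units.mk0 r hr0, Finset.mem_univ _, ?_⟩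
    simp
    field_simp
    linear_combination hr
  refine ⟨t, fun h => hns ?_, hns⟩
  obtain ⟨e, he, hte⟩ := exists_unip_cases (g := comp t) (by rw [tr_comp]; exact h)
  rw [tr_comp] at hte
  exact ⟨e, by rw [hte]; linear_combination -he⟩

end CfsgLib.SL2Torus
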