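import Mathlib
import Cfsg.Agent.Lib.SL2.Trace
import Cfsg.Agent.Lib.PSL2.Klein
import Cfsg.Agent.Lib.Linear.Card

/-! Images of tori and centralisers in `PSL₂`, all characteristics. -/

set_option autoImplicit false
set_option linter.style.haveILetI false

namespace CfsgLib.SL2Torus

open Matrix CfsgLib.Dickson
open CfsgLib.PSL2Klein (π π_surj π_eq π_eq_one)

variable {F : Type*} [Field F] [Fintype F]

local notation "L" => Matrix.SpecialLinearGroup (Fin 2) F
local notation "PL" => Matrix.ProjectiveSpecialLinearGroup (Fin 2) F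
local notation "M2" => Matrix (Fin 2) (Fin 2) F

theorem gcd_eq_one_of_two (h : (2 : F) = 0) : Nat.gcd 2 (Fintype.card F - 1) = 1 := by
  have h2 : ringChar F = 2 :=
    ((Nat.dvd_prime Nat.prime_two).mp ((ringChar.spec F 2).mp (by exact_mod_cast h))).resolve_left
      CharP.ringChar_ne_one
  have := FiniteField.even_card_of_char_two h2
  have := Fintype.one_lt_card (α := F)
  exact Nat.coprime_two_left.2 (Nat.odd_iff.2 (by omega))

theorem gcd_eq_two_of_two_ne (h : (2 : F) ≠ 0) : Nat.gcd 2 (Fintype.card F - 1) = 2 := by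
  have h2 : ringChar F ≠ 2 := fun e => h (by
    have := ringChar.Nat.cast_ringChar (R := F)
    rw [e] at this
    exact_mod_cast this)
  have := FiniteField.odd_card_of_char_ne_two h2
  exact Nat.gcd_eq_left (Nat.dvd_of_mod_eq_zero (by omega))

theorem two_ne_of_odd (h : Fintype.card F % 2 = 1) : (2 : F) ≠ 0 := fun h2 => by
  have := gcd_eq_one_of_two h2
  rw [Nat.gcd_eq_left (Nat.dvd_of_mod_eq_zero (by omega))] at this
  omega

theorem two_eq_of_even (h : Fintype.card F % 2 = 0) : (2 : F) = 0 := by
  by_contra h2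
  have := gcd_eq_two_of_two_ne h2
  have h' : 2 ∣ Fintype.card F - 1 := Nat.gcd_eq_left_iff_dvd.1 this
  have := Fintype.one_lt_card (α := F)
  omega

theorem ker_π : (π (F := F)).ker = Subgroup.center L := QuotientGroup.ker_mk' _

theorem card_center : Nat.card (Subgroup.center L) = Nat.gcd 2 (Fintype.card F - 1) := by
  rw [CfsgLib.Linear.Card.card_center_SL, Fintype.card_fin]

theorem card_PL_mul : Nat.gcd 2 (Fintype.card F - 1) * Nat.card PL = Nat.card L := by
  have := CfsgLib.Linear.Card.card_PSL_mul (ι := Fin 2) (F := F)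
  rwa [Fintype.card_fin] at this

theorem card_L_eq : Nat.card L = Fintype.card F * (Fintype.card F ^ 2 - 1) := by
  have h := CfsgLib.Linear.Card.card_SL (F := F) 2 (by norm_num)
  rw [Fin.prod_univ_two] at h
  have hq := Fintype.one_lt_card (α := F)
  refine Nat.eq_of_mul_eq_mul_left (show 0 < Fintype.card F - 1 by omega) (h.trans ?_)
  simp only [Fin.val_zero, Fin.val_one, pow_zero, pow_one]
  rw [show Fintype.card F ^ 2 - Fintype.card F = Fintype.card F * (Fintype.card F - 1) by
    rw [Nat.mul_sub, mul_one, sq]]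
  ring

theorem center_le_of_neg_one_mem {H : Subgroup L} (h : (-1 : L) ∈ H) : Subgroup.center L ≤ H := fun x hx => by
  rcases (CfsgLib.PSL2Two.mem_center' x).1 hx with rfl | rfl
  · exact one_mem _
  · exact h

theorem card_map_π {H : Subgroup L} (h : (-1 : L) ∈ H) :
    Nat.gcd 2 (Fintype.card F - 1) * Nat.card (H.map π) = Nat.card H := by
  have hle : (π (F := F)).ker ≤ H := by rw [ker_π]; exact center_le_of_neg_one_mem h
  have hidx : (H.map π).index = H.index := Subgroup.index_map_eq _ π_surj hle
  have h1 := (H.map π).card_mul_index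
  have h2 := H.card_mul_index
  rw [hidx] at h1
  rw [← card_PL_mul, ← h1, ← mul_assoc] at h2
  exact (Nat.eq_of_mul_eq_mul_right (Nat.pos_of_ne_zero Subgroup.index_ne_zero_of_finite) h2).symm

omit [Fintype F] in
theorem two_zero_neg (h : (2 : F) = 0) (x : L) : -x = x :=
  Subtype.ext (by
    ext i j
    simp only [Matrix.SpecialLinearGroup.coe_neg, Matrix.neg_apply]
    linear_combination -((x : M2) i j) * h)

/-- The centraliser in `PSL₂` of a non-central element whose image is not an involution. -/
theorem centralizer_π {g : L} (ht : tr g ≠ 0 ∨ (2 : F) = 0) :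
    Subgroup.centralizer {π g} = (cent g).map π := by
  ext x
  obtain ⟨a, rfl⟩ := π_surj x
  rw [Subgroup.mem_centralizer_singleton_iff, Subgroup.mem_map, ← map_mul, ← map_mul, π_eq]
  constructor
  · rintro (h | h)
    · exact ⟨a, mem_cent.2 h.symm, rfl⟩
    · refine ⟨a, mem_cent.2 ?_, rfl⟩
      rcases ht with ht | h2
      · have h4 : a * g * a⁻¹ = -g := by rw [h, neg_mul, mul_inv_cancel_right]
        have h5 := tr_conj g a
        rw [h4, tr_neg] at h5
        have h20 : (2 : F) = 0 := (mul_eq_zero.1 (show (2 : F) * tr g = 0 by linear_combination -h5)).resolve_right ht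
        rw [h, two_zero_neg h20]
      · rw [h, two_zero_neg h2]
  · rintro ⟨b, hb, hbπ⟩
    rcases (π_eq _ _).1 hbπ with rfl | rfl
    · exact Or.inl (mem_cent.1 hb).symm
    · have h := mem_cent.1 hb
      rw [mul_neg, neg_mul, neg_inj] at h
      exact Or.inl h.symm

theorem card_centralizer_π {g : L} (ht : tr g ≠ 0 ∨ (2 : F) = 0) :
    Nat.gcd 2 (Fintype.card F - 1) * Nat.card (Subgroup.centralizer {π g}) = Nat.card (cent g) := by
  rw [centralizer_π ht]
  exact card_map_π (neg_one_mem_cent g)

theorem mk_scalar {g : L} (h : ∃ c : F, (g : M2) = c • (1 : M2)) : π g = 1 := (π_eq_one g).2 (scalar_cases h)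

theorem exists_split (h4 : 4 ≤ Fintype.card F) : ∃ t : F, t ^ 2 ≠ 4 ∧ Split t := by
  classical
  obtain ⟨a, ha, ha'⟩ := Finset.exists_mem_notMem_of_card_lt_card (s := ({0, 1, -1} : Finset F)) (t := Finset.univ)
    (by
      have := Finset.card_le_three (a := (0 : F)) (b := 1) (c := -1)
      rw [Finset.card_univ]; omega)
  simp only [Finset.mem_insert, Finset.mem_singleton, not_or] at ha'
  obtain ⟨h0, h1, h2⟩ := ha'
  refine ⟨a + a⁻¹, fun h => ?_, a, by field_simp; ring⟩
  have : (a - a⁻¹) ^ 2 = 0 := by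
    have : a * a⁻¹ = 1 := mul_inv_cancel₀ h0
    linear_combination h - 4 * this
  rw [pow_eq_zero_iff two_ne_zero, sub_eq_zero] at this
  have h3 : a * a = 1 := by rw [← mul_inv_cancel₀ h0, ← this]
  rcases mul_self_eq_one_iff.1 h3 with h5 | h5
  · exact h1 h5
  · exact h2 h5

/-- A torus of either kind has a generator which is not central. -/
theorem exists_generator {g : L} (hg : tr g ^ 2 ≠ 4) :
    ∃ a ∈ cent g, orderOf a = Nat.card (cent g) := by
  haveI := cent_isCyclic hg
  obtain ⟨a, ha⟩ := IsCyclic.exists_ofOrder_eq_natCard (α := cent g)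
  exact ⟨a.1, a.2, by rw [Subgroup.orderOf_coe, ha]⟩

end CfsgLib.SL2Torus
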