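import Mathlib
import Cfsg.Agent.Lib.SL2.Proj

/-! Element orders and centraliser orders in `PSL₂`. -/

set_option autoImplicit false
set_option linter.style.haveILetI false

namespace CfsgLib.SL2Torus

open Matrix CfsgLib.Dickson
open CfsgLib.PSL2Klein (π π_surj π_eq π_eq_one)

variable {F : Type*} [Field F] [Fintype F]

local notation "L" => Matrix.SpecialLinearGroup (Fin 2) F
local notation "PL" => Matrix.ProjectiveSpecialLinearGroup (Fin 2) F
local notation "M2" => Matrix (Fin 2) (Fin 2) F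

/-- central, semisimple, or conjugate to a signed transvection -/
theorem trichotomy (x : PL) :
    x = 1 ∨ (∃ g : L, π g = x ∧ tr g ^ 2 ≠ 4) ∨
      ∃ g : L, π g = x ∧ (¬ ∃ c : F, (g : M2) = c • (1 : M2)) ∧ tr g ^ 2 = 4 := by
  obtain ⟨g, rfl⟩ := π_surj x
  by_cases hs : ∃ c : F, (g : M2) = c • (1 : M2)
  · exact Or.inl (mk_scalar hs)
  · by_cases ht : tr g ^ 2 = 4
    · exact Or.inr (Or.inr ⟨g, rfl, hs, ht⟩)
    · exact Or.inr (Or.inl ⟨g, rfl, ht⟩)

theorem π_u_of_unip {g : L} (hg : ¬ ∃ c : F, (g : M2) = c • (1 : M2)) (ht : tr g ^ 2 = 4) :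
    ∃ y : PL, ∃ b : F, b ≠ 0 ∧ y⁻¹ * π g * y = π (u b) := by
  obtain ⟨e, he, hte⟩ := exists_unip_cases ht
  obtain ⟨P, b, hb, hP⟩ := exists_conj_u hg he hte
  obtain ⟨s, hs, hse⟩ := coe_eps he (u b)
  rw [hse] at hP
  refine ⟨π P, b, hb, ?_⟩
  rw [← map_inv, ← map_mul, ← map_mul, show P⁻¹ * g * P = s * u b from Subtype.ext hP, map_mul, (π_eq_one s).2 hs,
    one_mul]

theorem π_u_pow_char (p : ℕ) [CharP F p] (b : F) : π (u b) ^ p = 1 := by
  rw [← map_pow, u_pow, CharP.cast_eq_zero, zero_mul, u_zero, map_one]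

theorem pow_π_semisimple (g : L) :
    π g ^ (Nat.card (cent g) / Nat.gcd 2 (Fintype.card F - 1)) = 1 := by
  have h := card_map_π (neg_one_mem_cent g)
  have hd : 0 < Nat.gcd 2 (Fintype.card F - 1) := Nat.gcd_pos_of_pos_left _ (by norm_num)
  rw [← h, Nat.mul_div_cancel_left _ hd]
  have := pow_card_eq_one' (x := (⟨π g, Subgroup.mem_map_of_mem π (self_mem_cent g)⟩ : (cent g).map π))
  exact congrArg Subtype.val this

theorem exists_orderOf_π {g : L} (hg : tr g ^ 2 ≠ 4) {m : ℕ}
    (hm : m ∣ Nat.card (cent g) / Nat.gcd 2 (Fintype.card F - 1)) : ∃ x : PL, orderOf x = m := by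
  haveI := cent_isCyclic hg
  haveI : IsCyclic ((cent g).map (π (F := F))) :=
    isCyclic_of_surjective _ ((π (F := F)).subgroupMap_surjective (cent g))
  obtain ⟨a, ha⟩ := IsCyclic.exists_ofOrder_eq_natCard (α := (cent g).map (π (F := F)))
  have hd : 0 < Nat.gcd 2 (Fintype.card F - 1) := Nat.gcd_pos_of_pos_left _ (by norm_num)
  rw [← card_map_π (neg_one_mem_cent g), Nat.mul_div_cancel_left _ hd, ← ha] at hm
  refine ⟨(a ^ (orderOf a / m) : (cent g).map (π (F := F))).1, ?_⟩
  rw [Subgroup.orderOf_coe]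
  exact orderOf_pow_orderOf_div (orderOf_pos a).ne' hm

omit [Fintype F] in
theorem u_not_scalar {b : F} (hb : b ≠ 0) : ¬ ∃ c : F, ((u b : L) : M2) = c • (1 : M2) := by
  rintro ⟨c, h⟩
  have := congrFun (congrFun h 0) 1
  simp [u] at this
  exact hb this

omit [Fintype F] in
theorem tr_u (b : F) : tr (u b : L) = 2 := by simp [tr, u, Matrix.trace_fin_two]; norm_num

theorem card_centralizer_u {b : F} (hb : b ≠ 0) : Nat.card (Subgroup.centralizer {π (u b : L)}) = Fintype.card F := by
  have hd : 0 < Nat.gcd 2 (Fintype.card F - 1) := Nat.gcd_pos_of_pos_left _ (by norm_num)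
  refine Nat.eq_of_mul_eq_mul_left hd ?_
  rw [card_centralizer_π (by rw [tr_u]; exact (em ((2 : F) = 0)).symm), card_cent_unip (u_not_scalar hb)
    (by rw [tr_u]; norm_num), mul_comm]

theorem card_centralizer_conj (x y : PL) :
    Nat.card (Subgroup.centralizer {y⁻¹ * x * y}) = Nat.card (Subgroup.centralizer {x}) := by
  have h : (Subgroup.centralizer {x}).map (MulAut.conj y⁻¹).toMonoidHom = Subgroup.centralizer {y⁻¹ * x * y} := by
    ext z
    rw [Subgroup.mem_map_equiv, Subgroup.mem_centralizer_singleton_iff, Subgroup.mem_centralizer_singleton_iff]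
    simp only [MulAut.conj_symm_apply, inv_inv]
    constructor <;> intro h
    · calc z * (y⁻¹ * x * y) = y⁻¹ * (y * z * y⁻¹ * x) * y := by group
        _ = y⁻¹ * (x * (y * z * y⁻¹)) * y := by rw [h]
        _ = y⁻¹ * x * y * z := by group
    · calc y * z * y⁻¹ * x = y * (z * (y⁻¹ * x * y)) * y⁻¹ := by group
        _ = y * (y⁻¹ * x * y * z) * y⁻¹ := by rw [h]
        _ = x * (y * z * y⁻¹) := by group
  rw [← h]
  exact Subgroup.card_map_of_injective (MulAut.conj y⁻¹).injective

theorem card_centralizer_unip {g : L} (hg : ¬ ∃ c : F, (g : M2) = c • (1 : M2)) (ht : tr g ^ 2 = 4) :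
    Nat.card (Subgroup.centralizer {π g}) = Fintype.card F := by
  obtain ⟨y, b, hb, h⟩ := π_u_of_unip hg ht
  rw [← card_centralizer_conj (π g) y, h, card_centralizer_u hb]

/-- the possible centraliser orders of a nontrivial element -/
theorem centralizer_cases {x : PL} (hx : x ≠ 1) :
    Nat.card (Subgroup.centralizer {x}) = Fintype.card F ∨
    Nat.gcd 2 (Fintype.card F - 1) * Nat.card (Subgroup.centralizer {x}) = Fintype.card F - 1 ∨
    Nat.gcd 2 (Fintype.card F - 1) * Nat.card (Subgroup.centralizer {x}) = Fintype.card F + 1 ∨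
    ((2 : F) ≠ 0 ∧ Nat.card (Subgroup.centralizer {x}) = Nat.card (CfsgLib.PSL2Two.rot F)) := by
  rcases trichotomy x with h | ⟨g, rfl, hg⟩ | ⟨g, rfl, hs, ht⟩
  · exact absurd h hx
  · by_cases h0 : tr g ≠ 0 ∨ (2 : F) = 0
    · rw [card_centralizer_π h0]
      rcases card_cent hg with h | h
      · exact Or.inr (Or.inl h)
      · exact Or.inr (Or.inr (Or.inl h))
    · push Not at h0
      refine Or.inr (Or.inr (Or.inr ⟨h0.2, ?_⟩))
      have hodd : Fintype.card F % 2 = 1 := by
        by_contra hc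
        exact h0.2 (two_eq_of_even (by omega))
      have ho : orderOf (π g) = 2 := by
        rw [CfsgLib.PSL2Klein.orderOf_π hodd, CfsgLib.PSL2Two.sq_eq_neg_one_iff hodd]
        have := h0.1
        rwa [tr, Matrix.trace_fin_two] at this
      obtain ⟨c, hc⟩ := CfsgLib.PSL2Klein.exists_conj_x₀ hodd ho
      rw [← card_centralizer_conj (π g) c⁻¹, inv_inv, hc]
      exact CfsgLib.PSL2Klein.card_centralizer hodd
  · exact Or.inl (card_centralizer_unip hs ht)

end CfsgLib.SL2Torus
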