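import Mathlib
import Cfsg.Agent.Lib.SL2.Proj

/-! Normalisers of tori of `SL₂`, and the class number of a dicyclic-like group. -/

set_option autoImplicit false
set_option linter.style.haveILetI false

namespace CfsgLib.SL2Torus

open Matrix CfsgLib.Dickson

theorem two_mul_card_conjClasses {G : Type*} [Group G] [Finite G] {C : Subgroup G} {z : G}
    (hG : Nat.card G = 2 * Nat.card C) (hz : z ∈ C) (hz1 : z ≠ 1) (hzc : ∀ x : G, x * z = z * x)
    (hC : ∀ a ∈ C, ∀ b ∈ C, a * b = b * a) (hsq : ∀ c ∈ C, c * c = 1 → c = 1 ∨ c = z) (hzz : z * z = 1)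
    (hinv : ∀ x, x ∉ C → ∀ c ∈ C, x * c * x⁻¹ = c⁻¹) (hx2 : ∀ x, x ∉ C → x * x = z) :
    2 * Nat.card (ConjClasses G) = Nat.card C + 6 := by
  classical
  haveI : Fintype G := Fintype.ofFinite G
  set n := Nat.card C with hn
  have hCf : ({x | x ∈ C} : Finset G).card = n := by
    rw [hn, Nat.card_eq_fintype_card, Fintype.card_subtype]
  let cnt : G → ℕ := fun x => ({y | Commute x y} : Finset G).card
  have hsum : ∑ x, cnt x = Nat.card (ConjClasses G) * Nat.card G := by
    rw [← card_comm_eq_card_conjClasses_mul_card, Nat.card_eq_fintype_card, Fintype.card_subtype]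
    symm
    rw [Finset.card_eq_sum_card_fiberwise (f := Prod.fst) (t := Finset.univ) (fun _ _ => Finset.mem_univ _)]
    refine Finset.sum_congr rfl fun x _ => Finset.card_bij (fun p _ => p.2) ?_ ?_ ?_
    · rintro ⟨a, b⟩ h
      simp only [Finset.mem_filter, Finset.mem_univ, true_and] at h ⊢
      exact h.2 ▸ h.1
    · rintro ⟨a, b⟩ h ⟨a', b'⟩ h' e
      simp only [Finset.mem_filter, Finset.mem_univ, true_and] at h h'
      subst e; rw [h.2, h'.2]
    · intro b hb
      simp only [Finset.mem_filter, Finset.mem_univ, true_and] at hb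
      exact ⟨(x, b), by simp [hb], rfl⟩
  have hcentral : ∀ x, x = 1 ∨ x = z → cnt x = 2 * n := by
    intro x hx
    rw [← hG, Nat.card_eq_fintype_card]
    show ({y | Commute x y} : Finset G).card = _
    rw [Finset.filter_true_of_mem, Finset.card_univ]
    intro y _
    rcases hx with rfl | rfl
    · exact Commute.one_left y
    · exact (hzc y).symm
  have hCcnt : ∀ x ∈ C, x ≠ 1 → x ≠ z → cnt x = n := by
    intro x hx h1 h2
    rw [← hCf]
    show ({y | Commute x y} : Finset G).card = _
    congr 1
    ext y
    simp only [Finset.mem_filter, Finset.mem_univ, true_and]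
    refine ⟨fun hc => ?_, fun hy => hC x hx y hy⟩
    by_contra hy
    have h := hinv y hy x hx
    rw [show y * x * y⁻¹ = x by rw [← hc.eq, mul_inv_cancel_right]] at h
    rcases hsq x hx (mul_eq_one_iff_eq_inv.2 h) with e | e
    · exact h1 e
    · exact h2 e
  have hout : ∀ x, x ∉ C → cnt x = 4 := by
    intro x hx
    have hx1 : x ≠ 1 := fun e => hx (e ▸ C.one_mem)
    have hxz : x ≠ z := fun e => hx (e ▸ hz)
    have hset : ({y | Commute x y} : Finset G) = {1, z, x, x * z} := by
      ext y
      simp only [Finset.mem_filter, Finset.mem_univ, true_and, Finset.mem_insert, Finset.mem_singleton]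
      constructor
      · intro hc
        have hkey : ∀ c ∈ C, Commute x c → c = 1 ∨ c = z := fun c hc' hcc => by
          have h := hinv x hx c hc'
          rw [show x * c * x⁻¹ = c by rw [hcc.eq, mul_inv_cancel_right]] at h
          exact hsq c hc' (mul_eq_one_iff_eq_inv.2 h)
        by_cases hy : y ∈ C
        · rcases hkey y hy hc with e | e <;> simp [e]
        · have hidx : x⁻¹ * y ∈ C := by
            have h2 : C.index = 2 := by
              have h := C.index_mul_card
              rw [hG, ← hn] at h
              exact Nat.eq_of_mul_eq_mul_right Nat.card_pos h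
            rw [Subgroup.mul_mem_iff_of_index_two h2]
            exact iff_of_false (fun h => hx (by simpa using C.inv_mem h)) hy
          rcases hkey _ hidx (((Commute.refl x).inv_right).mul_right hc) with e | e
          · exact Or.inr (Or.inr (Or.inl (inv_mul_eq_one.1 e).symm))
          · exact Or.inr (Or.inr (Or.inr (eq_mul_of_inv_mul_eq e)))
      · rintro (rfl | rfl | rfl | rfl)
        · exact Commute.one_right x
        · exact hzc x
        · exact Commute.refl _
        · exact (Commute.refl x).mul_right (hzc x)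
    show ({y | Commute x y} : Finset G).card = 4
    rw [hset]
    have e1 : x * z ∉ C := fun h => hx (by simpa using C.mul_mem h (C.inv_mem hz))
    have e2 : x * z ≠ x := fun h => hz1 (mul_eq_left.1 h)
    rw [Finset.card_insert_of_notMem, Finset.card_insert_of_notMem, Finset.card_insert_of_notMem,
      Finset.card_singleton]
    · simp [Ne.symm e2]
    · simp only [Finset.mem_insert, Finset.mem_singleton, not_or]
      exact ⟨Ne.symm hxz, fun h => e1 (h ▸ hz)⟩
    · simp only [Finset.mem_insert, Finset.mem_singleton, not_or]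
      exact ⟨Ne.symm hz1, Ne.symm hx1, fun h => e1 (h ▸ C.one_mem)⟩
  have h1z : ({1, z} : Finset G) ⊆ ({x | x ∈ C} : Finset G) := by
    intro x hx
    simp only [Finset.mem_insert, Finset.mem_singleton] at hx
    rcases hx with rfl | rfl <;> simp [C.one_mem, hz]
  rw [← Finset.sum_sdiff (Finset.subset_univ ({x | x ∈ C} : Finset G)), ← Finset.sum_sdiff h1z,
    Finset.sum_congr rfl (fun x hx => hout x (by simpa using hx)),
    Finset.sum_congr rfl (fun x hx => hCcnt x (by simpa using (Finset.mem_sdiff.1 hx).1)
      (fun e => (Finset.mem_sdiff.1 hx).2 (by simp [e])) (fun e => (Finset.mem_sdiff.1 hx).2 (by simp [e]))),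
    Finset.sum_congr rfl (fun x hx => hcentral x (by simpa using hx)), Finset.sum_const, Finset.sum_const,
    Finset.sum_const, smul_eq_mul, smul_eq_mul, smul_eq_mul, Finset.card_pair hz1.symm,
    Finset.card_sdiff_of_subset h1z, Finset.card_sdiff_of_subset (Finset.subset_univ _), hCf,
    Finset.card_pair hz1.symm, Finset.card_univ, ← Nat.card_eq_fintype_card, hG] at hsum
  obtain ⟨m, hm⟩ : ∃ m, n = m + 2 := ⟨n - 2, by
    have := Finset.card_le_card h1z
    rw [Finset.card_pair hz1.symm, hCf] at this
    omega⟩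
  rw [hm, Nat.add_sub_cancel, show 2 * (m + 2) - (m + 2) = m + 2 by omega] at hsum
  rw [hm]
  exact (Nat.eq_of_mul_eq_mul_right (show 0 < m + 2 by omega) (by linarith)).symm

variable {F : Type*} [Field F] [Fintype F]

local notation "L" => Matrix.SpecialLinearGroup (Fin 2) F
local notation "M2" => Matrix (Fin 2) (Fin 2) F

variable {g : Matrix.SpecialLinearGroup (Fin 2) F}

theorem outside_sq (hg : tr g ^ 2 ≠ 4) {x : L} (hx : x ∈ Subgroup.normalizer (cent g : Set L))
    (hx' : x ∉ cent g) : x * x = -1 :=
  inverter_sq hg ((normalizer_cases hg hx).resolve_left hx')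

theorem outside_inverts (hg : tr g ^ 2 ≠ 4) {x : L} (hx : x ∈ Subgroup.normalizer (cent g : Set L))
    (hx' : x ∉ cent g) {a : L} (ha : a ∈ cent g) : x * a * x⁻¹ = a⁻¹ :=
  inverts hg ((normalizer_cases hg hx).resolve_left hx') ha

theorem card_conjClasses_normalizer (hodd : Fintype.card F % 2 = 1) (hg : tr g ^ 2 ≠ 4) :
    2 * Nat.card (ConjClasses (Subgroup.normalizer (cent g : Set L))) = Nat.card (cent g) + 6 := by
  set N := Subgroup.normalizer (cent g : Set L)
  have hle : cent g ≤ N := Subgroup.le_normalizer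
  have hcard : Nat.card ((cent g).subgroupOf N) = Nat.card (cent g) :=
    Nat.card_congr (Subgroup.subgroupOfEquivOfLe hle).toEquiv
  have hne : (-1 : L) ≠ 1 := CfsgLib.PSL2Two.neg_one_ne_one hodd
  rw [← hcard]
  refine two_mul_card_conjClasses (z := ⟨-1, hle (neg_one_mem_cent g)⟩) ?_ ?_ ?_ ?_ ?_ ?_ ?_ ?_ ?_
  · rw [hcard]; exact card_normalizer hg
  · exact Subgroup.mem_subgroupOf.2 (neg_one_mem_cent g)
  · exact fun h => hne (congrArg Subtype.val h)
  · exact fun x => Subtype.ext (by simp)
  · exact fun a ha b hb => Subtype.ext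
      (cent_comm (ne_scalar hg) (Subgroup.mem_subgroupOf.1 ha) (Subgroup.mem_subgroupOf.1 hb))
  · intro c hc h
    have hm := Subgroup.mem_subgroupOf.1 hc
    have h' : (⟨c.1, hm⟩ : cent g) * ⟨c.1, hm⟩ = 1 := by
      apply Subtype.ext
      show c.1 * c.1 = 1
      exact congrArg Subtype.val h
    have h2 := congrArg (phi hg) h'
    rw [map_mul, map_one] at h2
    rcases mul_self_eq_one_iff.1 h2 with e | e
    · exact Or.inl (Subtype.ext (congrArg (fun a : cent g => a.1) (phi_injective hg (e.trans (map_one _).symm))))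
    · refine Or.inr (Subtype.ext (congrArg (fun a : cent g => a.1) (phi_injective hg (a₁ := ⟨c.1, hm⟩) (a₂ := ⟨-1, neg_one_mem_cent g⟩) ?_)))
      rw [e, phi_coord hg (x := -1) (y := 0) (by simp)]
      simp
  · exact Subtype.ext (by simp)
  · exact fun x hx c hc => Subtype.ext (outside_inverts hg x.2 (fun h => hx (Subgroup.mem_subgroupOf.2 h))
      (Subgroup.mem_subgroupOf.1 hc))
  · exact fun x hx => Subtype.ext (outside_sq hg x.2 fun h => hx (Subgroup.mem_subgroupOf.2 h))

theorem centralizer_cent (hg : tr g ^ 2 ≠ 4) : Subgroup.centralizer (cent g : Set L) = cent g := by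
  ext a
  rw [Subgroup.mem_centralizer_iff]
  exact ⟨fun h => mem_cent.2 (h g (self_mem_cent g)), fun h b hb => cent_comm (ne_scalar hg) hb h⟩

end CfsgLib.SL2Torus
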