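import Mathlib
import Cfsg.Agent.Lib.SL2.Elements
import Cfsg.Agent.Lib.SL2.TorusNormalizer
import Cfsg.Agent.Lib.CyclicPartitionIdent

/-! Tori of `PSL₂` and its subgroups of order prime to the characteristic. -/

set_option autoImplicit false
set_option linter.style.haveILetI false

namespace CfsgLib.SL2Torus

open Matrix CfsgLib.Dickson
open CfsgLib.PSL2Klein (π π_surj π_eq π_eq_one)

variable {F : Type*} [Field F] [Fintype F]

local notation "L" => Matrix.SpecialLinearGroup (Fin 2) F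
local notation "PL" => Matrix.ProjectiveSpecialLinearGroup (Fin 2) F
local notation "M2" => Matrix (Fin 2) (Fin 2) F

/-- the maximal tori of `PSL₂` -/
def IsTorus (T : Subgroup PL) : Prop := ∃ g : L, tr g ^ 2 ≠ 4 ∧ T = (cent g).map π

/-- the elements lying in a torus -/
def IsSemi (x : PL) : Prop := ∃ g : L, π g = x ∧ tr g ^ 2 ≠ 4

theorem comap_map_cent (g : L) : ((cent g).map π).comap (π (F := F)) = cent g :=
  Subgroup.comap_map_eq_self (by rw [ker_π]; exact center_le_of_neg_one_mem (neg_one_mem_cent g))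

theorem cent_neg (g : L) : cent (-g) = cent g := by
  ext x; simp [mem_cent]

theorem torus_comm {T : Subgroup PL} (hT : IsTorus T) {a b : PL} (ha : a ∈ T) (hb : b ∈ T) : a * b = b * a := by
  obtain ⟨g, hg, rfl⟩ := hT
  obtain ⟨a', ha', rfl⟩ := ha
  obtain ⟨b', hb', rfl⟩ := hb
  rw [← map_mul, ← map_mul, cent_comm (ne_scalar hg) ha' hb']

theorem torus_cyclic {T : Subgroup PL} (hT : IsTorus T) : IsCyclic T := by
  obtain ⟨g, hg, rfl⟩ := hT
  haveI := cent_isCyclic hg
  exact isCyclic_of_surjective _ ((π (F := F)).subgroupMap_surjective (cent g))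

theorem torus_card {T : Subgroup PL} (hT : IsTorus T) :
    Nat.gcd 2 (Fintype.card F - 1) * Nat.card T = Fintype.card F - 1 ∨
      Nat.gcd 2 (Fintype.card F - 1) * Nat.card T = Fintype.card F + 1 := by
  obtain ⟨g, hg, rfl⟩ := hT
  rw [card_map_π (neg_one_mem_cent g)]
  exact card_cent hg

theorem torus_conj {T : Subgroup PL} (hT : IsTorus T) (y : PL) : IsTorus (T.map (MulAut.conj y).toMonoidHom) := by
  obtain ⟨g, hg, rfl⟩ := hT
  obtain ⟨c, rfl⟩ := π_surj y
  refine ⟨c * g * c⁻¹, by rwa [tr_conj], ?_⟩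
  ext x
  constructor
  · rintro ⟨_, ⟨a, ha, rfl⟩, rfl⟩
    refine ⟨c * a * c⁻¹, mem_cent.2 ?_, by simp⟩
    calc c * g * c⁻¹ * (c * a * c⁻¹) = c * (g * a) * c⁻¹ := by group
      _ = c * (a * g) * c⁻¹ := by rw [mem_cent.1 ha]
      _ = c * a * c⁻¹ * (c * g * c⁻¹) := by group
  · rintro ⟨a, ha, rfl⟩
    refine ⟨π (c⁻¹ * a * c), ⟨_, mem_cent.2 ?_, rfl⟩, by simp [mul_assoc]⟩
    calc g * (c⁻¹ * a * c) = c⁻¹ * (c * g * c⁻¹ * a) * c := by group
      _ = c⁻¹ * (a * (c * g * c⁻¹)) * c := by rw [mem_cent.1 ha]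
      _ = c⁻¹ * a * c * g := by group

theorem torus_eq {T T' : Subgroup PL} (hT : IsTorus T) (hT' : IsTorus T') {x : PL} (hx : x ∈ T) (hx' : x ∈ T')
    (hx1 : x ≠ 1) : T = T' := by
  obtain ⟨g, hg, rfl⟩ := hT
  obtain ⟨g', hg', rfl⟩ := hT'
  obtain ⟨a, ha, rfl⟩ := hx
  obtain ⟨a', ha', h⟩ := hx'
  have hns : ¬ ∃ c : F, (a : M2) = c • (1 : M2) := fun e => hx1 (mk_scalar e)
  have ha'' : a ∈ cent g' := by
    rcases (π_eq _ _).1 h with e | e
    · exact e ▸ ha'
    · have := (cent g').mul_mem (neg_one_mem_cent g') ha'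
      rwa [e, neg_one_mul, neg_neg] at this
  rw [← cent_eq (ne_scalar hg) ha hns, ← cent_eq (ne_scalar hg') ha'' hns]

theorem exists_torus {x : PL} (hx : IsSemi x) : ∃ T : Subgroup PL, IsTorus T ∧ x ∈ T := by
  obtain ⟨g, rfl, hg⟩ := hx
  exact ⟨_, ⟨g, hg, rfl⟩, g, self_mem_cent g, rfl⟩

theorem normalizer_torus {g : L} :
    Subgroup.normalizer (((cent g).map π : Subgroup PL) : Set PL) = (Subgroup.normalizer (cent g : Set L)).map π := by
  apply Subgroup.comap_injective π_surj
  rw [Subgroup.comap_normalizer_eq_of_surjective _ π_surj, comap_map_cent,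
    Subgroup.comap_map_eq_self (by
      rw [ker_π]; exact center_le_of_neg_one_mem (Subgroup.le_normalizer (neg_one_mem_cent g)))]

theorem torus_normalizer_card {T : Subgroup PL} (hT : IsTorus T) :
    Nat.card (Subgroup.normalizer (T : Set PL)) = 2 * Nat.card T := by
  obtain ⟨g, hg, rfl⟩ := hT
  have hd : 0 < Nat.gcd 2 (Fintype.card F - 1) := Nat.gcd_pos_of_pos_left _ (by norm_num)
  refine Nat.eq_of_mul_eq_mul_left hd ?_
  rw [normalizer_torus, card_map_π (Subgroup.le_normalizer (neg_one_mem_cent g)), card_normalizer hg, mul_left_comm,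
    card_map_π (neg_one_mem_cent g)]

theorem torus_outside {T : Subgroup PL} (hT : IsTorus T) {h : PL} (hh : h ∈ Subgroup.normalizer (T : Set PL))
    (hn : h ∉ T) : h * h = 1 ∧ ∀ a ∈ T, h * a * h⁻¹ = a⁻¹ := by
  obtain ⟨g, hg, rfl⟩ := hT
  rw [normalizer_torus] at hh
  obtain ⟨b, hb, rfl⟩ := hh
  have hb' : b ∉ cent g := fun e => hn ⟨b, e, rfl⟩
  refine ⟨by rw [← map_mul, π_eq_one]; exact Or.inr (outside_sq hg hb hb'), ?_⟩
  rintro _ ⟨a, ha, rfl⟩
  rw [← map_inv, ← map_inv, ← map_mul, ← map_mul, outside_inverts hg hb hb' ha]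

/-- The structure of subgroups all of whose elements are semisimple. -/
theorem coprime_subgroup (H : Subgroup PL) (hH : ∀ x ∈ H, x ≠ 1 → IsSemi x) :
    (IsCyclic H ∧ (H = ⊥ ∨ ∃ T, IsTorus T ∧ H ≤ T)) ∨
    (∃ T : Subgroup PL, IsTorus T ∧ H ≤ Subgroup.normalizer (T : Set PL) ∧ ∃ n, n ∣ Nat.card T ∧ 2 ≤ n ∧ Nat.card H = 2 * n ∧
      Nonempty (H ≃* DihedralGroup n)) ∨
    Nonempty (H ≃* alternatingGroup (Fin 4)) ∨ Nonempty (H ≃* Equiv.Perm (Fin 4)) ∨
      Nonempty (H ≃* alternatingGroup (Fin 5)) := by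
  classical
  have hex : ∀ x : H, x ≠ 1 → ∃ T : Subgroup PL, IsTorus T ∧ (x : PL) ∈ T := fun x hx =>
    exists_torus (hH x x.2 (fun e => hx (Subtype.ext e)))
  let A : H → Subgroup H := fun x => if hx : x ≠ 1 then (hex x hx).choose.subgroupOf H else ⊥
  have hA : ∀ x : H, x ≠ 1 → ∀ T : Subgroup PL, IsTorus T → (x : PL) ∈ T → A x = T.subgroupOf H := by
    intro x hx T hT hxT
    obtain ⟨h1, h2⟩ := (hex x hx).choose_spec
    simp only [A, dif_pos hx]
    rw [torus_eq h1 hT h2 hxT (fun e => hx (Subtype.ext e))]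
  have hmapA : ∀ (h : H) (T : Subgroup PL),
      (T.subgroupOf H).map (MulAut.conj h).toMonoidHom = (T.map (MulAut.conj (h : PL)).toMonoidHom).subgroupOf H := by
    intro h T
    ext y
    rw [Subgroup.mem_map_equiv, Subgroup.mem_subgroupOf, Subgroup.mem_subgroupOf, Subgroup.mem_map_equiv]
    exact Iff.rfl
  let D : CfsgLib.CyclicPartition.Data H :=
    { A := A
      mem := fun x hx => by
        obtain ⟨T, hT, hxT⟩ := hex x hx
        rw [hA x hx T hT hxT]; exact Subgroup.mem_subgroupOf.2 hxT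
      eq := fun x y hx hy hyx => by
        obtain ⟨T, hT, hxT⟩ := hex x hx
        rw [hA x hx T hT hxT] at hyx ⊢
        rw [hA y hy T hT (Subgroup.mem_subgroupOf.1 hyx)]
      cyc := fun x hx => by
        obtain ⟨T, hT, hxT⟩ := hex x hx
        rw [hA x hx T hT hxT]
        haveI := torus_cyclic hT
        exact isCyclic_of_injective ((H.subtype.comp (T.subgroupOf H).subtype).codRestrict T fun y => y.2)
          (fun a b h => Subtype.ext (Subtype.ext (congrArg (fun z : T => z.1) h)))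
      conj := fun h x hx => by
        obtain ⟨T, hT, hxT⟩ := hex x hx
        rw [hA x hx T hT hxT, hmapA, hA _ (fun e => hx (conj_eq_one_iff.1 e)) _ (torus_conj hT (h : PL))
          ⟨x, hxT, rfl⟩]
      two := fun x hx => by
        obtain ⟨T, hT, hxT⟩ := hex x hx
        rw [hA x hx T hT hxT]
        set N := Subgroup.normalizer ((T.subgroupOf H : Subgroup H) : Set H)
        have hle : N ≤ (Subgroup.normalizer (T : Set PL)).subgroupOf H := fun n hn => by
          have hn' := Subgroup.mem_normalizer_iff_map_conj_eq.1 hn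
          change (T.subgroupOf H).map (MulAut.conj n).toMonoidHom = T.subgroupOf H at hn'
          rw [hmapA] at hn'
          refine Subgroup.mem_subgroupOf.2 (Subgroup.mem_normalizer_iff_map_conj_eq.2 ?_)
          refine torus_eq (torus_conj hT _) hT (x := (n : PL) * x * (n : PL)⁻¹) ⟨x, hxT, rfl⟩ ?_
            (fun e => hx (Subtype.ext (conj_eq_one_iff.1 e)))
          have : n * x * n⁻¹ ∈ T.subgroupOf H := by
            rw [← hn']; exact Subgroup.mem_subgroupOf.2 ⟨x, hxT, rfl⟩
          exact Subgroup.mem_subgroupOf.1 this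
        have h2 : T.relIndex (Subgroup.normalizer (T : Set PL)) = 2 := by
          have h := Subgroup.relIndex_mul_relIndex ⊥ T _ bot_le (Subgroup.le_normalizer (H := T))
          rw [Subgroup.relIndex_bot_left, Subgroup.relIndex_bot_left, torus_normalizer_card hT] at h
          exact Nat.eq_of_mul_eq_mul_left Nat.card_pos (h.trans (mul_comm _ _))
        have hAN : T.subgroupOf H ≤ N := Subgroup.le_normalizer
        have h3 : (T.subgroupOf H).relIndex N ≤ 2 := by
          have h4 : (T.subgroupOf H).relIndex ((Subgroup.normalizer (T : Set PL)).subgroupOf H) ≤ 2 := by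
            rw [← Subgroup.inf_subgroupOf_right (Subgroup.normalizer (T : Set PL)) H, Subgroup.relIndex_subgroupOf inf_le_right]
            refine le_trans (Subgroup.relIndex_le_of_le_right inf_le_left ?_) (le_of_eq h2)
            rw [h2]; norm_num
          exact le_trans (Subgroup.relIndex_le_of_le_right hle (by
            have := Subgroup.index_ne_zero_of_finite (H := (T.subgroupOf H).subgroupOf ((Subgroup.normalizer (T : Set PL)).subgroupOf H))
            exact this)) h4
        have h5 := Subgroup.relIndex_mul_relIndex ⊥ (T.subgroupOf H) N bot_le hAN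
        rw [Subgroup.relIndex_bot_left, Subgroup.relIndex_bot_left] at h5
        have h6 : (T.subgroupOf H).relIndex N ≠ 0 := Subgroup.index_ne_zero_of_finite
        obtain h7 | h7 : (T.subgroupOf H).relIndex N = 1 ∨ (T.subgroupOf H).relIndex N = 2 := by omega
        · left; rw [← h5, h7, mul_one]
        · right; rw [← h5, h7, mul_comm]
      inv := fun x hx h hh hn => by
        obtain ⟨T, hT, hxT⟩ := hex x hx
        rw [hA x hx T hT hxT] at hh hn ⊢
        have hh' : (h : PL) ∈ Subgroup.normalizer (T : Set PL) := by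
          have hn' := Subgroup.mem_normalizer_iff_map_conj_eq.1 hh
          change (T.subgroupOf H).map (MulAut.conj h).toMonoidHom = T.subgroupOf H at hn'
          rw [hmapA] at hn'
          refine Subgroup.mem_normalizer_iff_map_conj_eq.2 ?_
          refine torus_eq (torus_conj hT _) hT (x := (h : PL) * x * (h : PL)⁻¹) ⟨x, hxT, rfl⟩ ?_
            (fun e => hx (Subtype.ext (conj_eq_one_iff.1 e)))
          have : h * x * h⁻¹ ∈ T.subgroupOf H := by
            rw [← hn']; exact Subgroup.mem_subgroupOf.2 ⟨x, hxT, rfl⟩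
          exact Subgroup.mem_subgroupOf.1 this
        obtain ⟨h1, h2⟩ := torus_outside hT hh' (fun e => hn (Subgroup.mem_subgroupOf.2 e))
        exact ⟨Subtype.ext h1, fun a ha => Subtype.ext (h2 a (Subgroup.mem_subgroupOf.1 ha))⟩ }
  rcases D.classification with hc | ⟨n, hn, hiso, x, hx, hN, hcA⟩ | h | h | h
  · refine Or.inl ⟨hc, ?_⟩
    by_cases hb : H = ⊥
    · exact Or.inl hb
    obtain ⟨g, hg⟩ := IsCyclic.exists_generator (α := H)
    have hg1 : g ≠ 1 := fun e => hb ((Subgroup.eq_bot_iff_forall _).2 fun y hy => by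
      obtain ⟨i, hi⟩ := Subgroup.mem_zpowers_iff.1 (hg ⟨y, hy⟩)
      rw [e, _root_.one_zpow] at hi
      exact congrArg Subtype.val hi.symm)
    obtain ⟨T, hT, hgT⟩ := hex g hg1
    refine Or.inr ⟨T, hT, fun y hy => ?_⟩
    obtain ⟨i, hi⟩ := Subgroup.mem_zpowers_iff.1 (hg ⟨y, hy⟩)
    have : y = (g : PL) ^ i := by rw [← Subgroup.coe_zpow, hi]
    rw [this]; exact T.zpow_mem hgT i
  · obtain ⟨T, hT, hxT⟩ := hex x hx
    have hAx : D.A x = T.subgroupOf H := hA x hx T hT hxT
    refine Or.inr (Or.inl ⟨T, hT, fun y hy => ?_, n, ?_, ?_, hn, hiso⟩)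
    · have hy' : (⟨y, hy⟩ : H) ∈ D.N x := by rw [hN]; trivial
      rw [CfsgLib.CyclicPartition.Data.N, hAx] at hy'
      have hn' := Subgroup.mem_normalizer_iff_map_conj_eq.1 hy'
      change (T.subgroupOf H).map (MulAut.conj (⟨y, hy⟩ : H)).toMonoidHom = T.subgroupOf H at hn'
      rw [hmapA] at hn'
      refine Subgroup.mem_normalizer_iff_map_conj_eq.2 ?_
      refine torus_eq (torus_conj hT _) hT (x := y * x * y⁻¹) ⟨x, hxT, rfl⟩ ?_
        (fun e => hx (Subtype.ext (conj_eq_one_iff.1 e)))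
      have : (⟨y, hy⟩ : H) * x * (⟨y, hy⟩ : H)⁻¹ ∈ T.subgroupOf H := by
        rw [← hn']; exact Subgroup.mem_subgroupOf.2 ⟨x, hxT, rfl⟩
      exact Subgroup.mem_subgroupOf.1 this
    · rw [← hcA, hAx]
      exact Subgroup.card_dvd_of_injective ((H.subtype.comp (T.subgroupOf H).subtype).codRestrict T fun y => y.2)
        (fun a b h => Subtype.ext (Subtype.ext (congrArg (fun z : T => z.1) h)))
    · rw [← hcA]
      haveI : Nontrivial (D.A x) := ⟨⟨⟨x, D.mem x hx⟩, 1, fun e => hx (congrArg Subtype.val e)⟩⟩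
      exact Finite.one_lt_card
  · exact Or.inr (Or.inr (Or.inl h))
  · exact Or.inr (Or.inr (Or.inr (Or.inl h)))
  · exact Or.inr (Or.inr (Or.inr (Or.inr h)))

end CfsgLib.SL2Torus
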