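import Mathlib
import Cfsg.Agent.Lib.SL2.ProjTorus

/-! The unipotent subgroup of `PSL₂` and its normaliser. -/

set_option autoImplicit false
set_option linter.style.haveILetI false

namespace CfsgLib.SL2Dickson

open Matrix CfsgLib.SL2Torus
open CfsgLib.PSL2Klein (π π_surj π_eq π_eq_one)
open CfsgLib.PSL2Two (mul_entry ext2 entries)

variable {F : Type*} [Field F] [Fintype F]

local notation "L" => Matrix.SpecialLinearGroup (Fin 2) F
local notation "PL" => Matrix.ProjectiveSpecialLinearGroup (Fin 2) F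
local notation "M2" => Matrix (Fin 2) (Fin 2) F

omit [Fintype F] in
theorem u00 (b : F) : (u b : L).1 0 0 = 1 := rfl
omit [Fintype F] in
theorem u01 (b : F) : (u b : L).1 0 1 = b := rfl
omit [Fintype F] in
theorem u10 (b : F) : (u b : L).1 1 0 = 0 := rfl
omit [Fintype F] in
theorem u11 (b : F) : (u b : L).1 1 1 = 1 := rfl
omit [Fintype F] in
theorem l00 (b : F) : (l b : L).1 0 0 = 1 := rfl
omit [Fintype F] in
theorem l01 (b : F) : (l b : L).1 0 1 = 0 := rfl
omit [Fintype F] in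
theorem l10 (b : F) : (l b : L).1 1 0 = b := rfl
omit [Fintype F] in
theorem l11 (b : F) : (l b : L).1 1 1 = 1 := rfl

/-- upper unipotent elements of `PSL₂` -/
def up (b : F) : PL := π (u b)

/-- lower unipotent elements of `PSL₂` -/
def lo (b : F) : PL := π (l b)

theorem up_add (a b : F) : up a * up b = up (a + b) := by rw [up, up, up, ← map_mul, u_add]

theorem lo_add (a b : F) : lo a * lo b = lo (a + b) := by rw [lo, lo, lo, ← map_mul, l_add]

theorem up_zero : (up (0 : F) : PL) = 1 := by rw [up, u_zero, map_one]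

theorem lo_zero : (lo (0 : F) : PL) = 1 := by rw [lo, l_zero, map_one]

theorem up_inv (a : F) : (up a : PL)⁻¹ = up (-a) :=
  inv_eq_of_mul_eq_one_right (by rw [up_add, add_neg_cancel, up_zero])

theorem lo_inv (a : F) : (lo a : PL)⁻¹ = lo (-a) :=
  inv_eq_of_mul_eq_one_right (by rw [lo_add, add_neg_cancel, lo_zero])

theorem up_eq_one {a : F} : (up a : PL) = 1 ↔ a = 0 := by
  refine ⟨fun h => ?_, fun h => h ▸ up_zero⟩
  rcases (π_eq_one _).1 h with h | h
  · simpa [u] using congrArg (fun x : L => x.1 0 1) h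
  · simpa [u] using congrArg (fun x : L => x.1 0 1) h

theorem up_injective : Function.Injective (up : F → PL) := fun a b h => by
  have : up (a - b) = (1 : PL) := by rw [sub_eq_add_neg, ← up_add, ← up_inv, h, mul_inv_cancel]
  exact sub_eq_zero.1 (up_eq_one.1 this)

theorem lo_eq_one {a : F} : (lo a : PL) = 1 ↔ a = 0 := by
  refine ⟨fun h => ?_, fun h => h ▸ lo_zero⟩
  rcases (π_eq_one _).1 h with h | h
  · simpa [l] using congrArg (fun x : L => x.1 1 0) h
  · simpa [l] using congrArg (fun x : L => x.1 1 0) h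

theorem lo_injective : Function.Injective (lo : F → PL) := fun a b h => by
  have : lo (a - b) = (1 : PL) := by rw [sub_eq_add_neg, ← lo_add, ← lo_inv, h, mul_inv_cancel]
  exact sub_eq_zero.1 (lo_eq_one.1 this)

variable (F) in
/-- the upper unipotent subgroup -/
def U : Subgroup (Matrix.ProjectiveSpecialLinearGroup (Fin 2) F) where
  carrier := {x | ∃ b, up b = x}
  one_mem' := ⟨0, up_zero⟩
  mul_mem' := by rintro _ _ ⟨a, rfl⟩ ⟨b, rfl⟩; exact ⟨a + b, (up_add a b).symm⟩
  inv_mem' := by rintro _ ⟨a, rfl⟩; exact ⟨-a, (up_inv a).symm⟩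

theorem mem_U {x : PL} : x ∈ U F ↔ ∃ b, up b = x := Iff.rfl

theorem up_mem (b : F) : (up b : PL) ∈ U F := ⟨b, rfl⟩

variable (F) in
theorem card_U : Nat.card (U F) = Fintype.card F := by
  rw [← Nat.card_eq_fintype_card]
  refine (Nat.card_congr (Equiv.ofBijective (fun b : F => (⟨up b, up_mem b⟩ : U F)) ⟨?_, ?_⟩)).symm
  · exact fun a b h => up_injective (congrArg Subtype.val h)
  · rintro ⟨_, b, rfl⟩; exact ⟨b, rfl⟩

theorem U_comm {x y : PL} (hx : x ∈ U F) (hy : y ∈ U F) : x * y = y * x := by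
  obtain ⟨a, rfl⟩ := hx
  obtain ⟨b, rfl⟩ := hy
  rw [up_add, up_add, add_comm]

theorem U_isPGroup (p : ℕ) [Fact p.Prime] [CharP F p] : IsPGroup p (U F) := by
  rintro ⟨_, b, rfl⟩
  exact ⟨1, Subtype.ext (by simpa [up] using π_u_pow_char p b)⟩

theorem sq_of_upper {g : L} (h : g.1 1 0 = 0) : g.1 0 0 * g.1 1 1 = 1 := by
  have e := entries g
  rwa [h, mul_zero, sub_zero] at e

theorem ne_zero_of_upper {g : L} (h : g.1 1 0 = 0) : g.1 0 0 ≠ 0 :=
  left_ne_zero_of_mul_eq_one (sq_of_upper h)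

variable (F) in
/-- the Borel subgroup -/
def Bor : Subgroup (Matrix.ProjectiveSpecialLinearGroup (Fin 2) F) where
  carrier := {x | ∃ g : Matrix.SpecialLinearGroup (Fin 2) F, π g = x ∧ g.1 1 0 = 0}
  one_mem' := ⟨1, map_one _, by simp⟩
  mul_mem' := by
    rintro _ _ ⟨g, rfl, hg⟩ ⟨h, rfl, hh⟩
    exact ⟨g * h, map_mul _ _ _, by rw [mul_entry, hg, hh]; ring⟩
  inv_mem' := by
    rintro _ ⟨g, rfl, hg⟩
    exact ⟨g⁻¹, map_inv _ _, by rw [CfsgLib.PSL2Klein.inv10, hg, neg_zero]⟩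

theorem mem_Bor {g : L} : π g ∈ Bor F ↔ g.1 1 0 = 0 := by
  refine ⟨?_, fun h => ⟨g, rfl, h⟩⟩
  rintro ⟨h, he, hh⟩
  rcases (π_eq _ _).1 he with rfl | rfl
  · exact hh
  · simpa using hh

theorem conj_up {g : L} (h : g.1 1 0 = 0) (b : F) : π g * up b * (π g)⁻¹ = up (g.1 0 0 * g.1 0 0 * b) := by
  have e := sq_of_upper h
  rw [mul_inv_eq_iff_eq_mul, up, up, ← map_mul, ← map_mul]
  congr 1
  refine ext2 ?_ ?_ ?_ ?_ <;> simp only [mul_entry] <;> simp [u, h]
  linear_combination (-(g.1 0 0 * b)) * e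

theorem up_mem_Bor (b : F) : (up b : PL) ∈ Bor F := ⟨u b, rfl, by simp [u]⟩

variable (F) in
theorem U_le_Bor : U F ≤ Bor F := by
  rintro _ ⟨b, rfl⟩; exact up_mem_Bor b

theorem Bor_normalizes {x y : PL} (hx : x ∈ Bor F) (hy : y ∈ U F) : x * y * x⁻¹ ∈ U F := by
  obtain ⟨g, rfl, hg⟩ := hx
  obtain ⟨b, rfl⟩ := hy
  exact ⟨_, (conj_up hg b).symm⟩

/-- `U` is a TI subgroup with normaliser `Bor` -/
theorem TI {x y : PL} (hy : y ∈ U F) (hy1 : y ≠ 1) (h : x * y * x⁻¹ ∈ U F) : x ∈ Bor F := by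
  obtain ⟨g, rfl⟩ := π_surj x
  obtain ⟨b, rfl⟩ := hy
  obtain ⟨c, hc⟩ := h
  have hb : b ≠ 0 := fun e => hy1 (by rw [e, up_zero])
  rw [eq_comm, mul_inv_eq_iff_eq_mul, up, up, ← map_mul, ← map_mul, π_eq] at hc
  refine mem_Bor.2 ?_
  rcases hc with e | e
  · have := congrArg (fun z : L => z.1 1 1) e
    simp only [mul_entry, u00, u01, u10, u11] at this
    have h2 : b * g.1 1 0 = 0 := by linear_combination this
    exact (mul_eq_zero.1 h2).resolve_left hb
  · have h11 := congrArg (fun z : L => z.1 1 1) e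
    have h10 := congrArg (fun z : L => z.1 1 0) e
    simp only [Matrix.SpecialLinearGroup.coe_neg, Matrix.neg_apply, mul_entry, u00, u01, u10, u11] at h11 h10
    by_cases h2 : (2 : F) = 0
    · have h2' : b * g.1 1 0 = 0 := by linear_combination h11 - g.1 1 1 * h2
      exact (mul_eq_zero.1 h2').resolve_left hb
    · have h3 : (2 : F) * g.1 1 0 = 0 := by linear_combination h10
      exact (mul_eq_zero.1 h3).resolve_left h2

theorem normalizer_U : Subgroup.normalizer (U F : Set PL) = Bor F := by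
  ext x
  refine ⟨fun hx => ?_, fun hx => ?_⟩
  · have h1 : (up (1 : F) : PL) ≠ 1 := fun e => one_ne_zero (up_eq_one.1 e)
    exact TI (up_mem 1) h1 ((Subgroup.mem_normalizer_iff.1 hx _).1 (up_mem 1))
  · refine Subgroup.mem_normalizer_iff.2 fun y => ⟨fun hy => Bor_normalizes hx hy, fun hy => ?_⟩
    simpa [mul_assoc] using Bor_normalizes (inv_mem hx) hy

/-- Semisimple elements have order prime to the characteristic. -/
theorem torus_coprime (p : ℕ) [hp : Fact p.Prime] [CharP F p] {T : Subgroup PL} (hT : IsTorus T) :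
    ¬ p ∣ Nat.card T := by
  intro h
  obtain ⟨n, hn, hcard⟩ := FiniteField.card F p
  have hq : p ∣ Fintype.card F := hcard ▸ dvd_pow_self p n.ne_zero
  have h2 := hp.out.two_le
  have h1 : 1 ≤ Fintype.card F := Fintype.card_pos
  rcases torus_card hT with e | e
  · have hd : p ∣ Fintype.card F - 1 := e ▸ h.mul_left _
    have := Nat.dvd_sub hq hd
    rw [show Fintype.card F - (Fintype.card F - 1) = 1 by omega, Nat.dvd_one] at this
    omega
  · have hd : p ∣ Fintype.card F + 1 := e ▸ h.mul_left _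
    have := Nat.dvd_sub hd hq
    rw [show Fintype.card F + 1 - Fintype.card F = 1 by omega, Nat.dvd_one] at this
    omega

theorem not_semi_of_pow (p : ℕ) [hp : Fact p.Prime] [CharP F p] {x : PL} (hx : x ^ p = 1) (hx1 : x ≠ 1) :
    ¬ IsSemi x := by
  intro hs
  obtain ⟨T, hT, hxT⟩ := exists_torus hs
  apply torus_coprime p hT
  rw [← orderOf_eq_prime hx hx1, ← Subgroup.orderOf_mk x hxT]
  exact orderOf_dvd_natCard _

theorem exists_conj_mem_U {x : PL} (hx : x ≠ 1) (hs : ¬ IsSemi x) : ∃ y : PL, y⁻¹ * x * y ∈ U F := by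
  rcases trichotomy x with h | ⟨g, hg, ht⟩ | ⟨g, rfl, hsc, ht⟩
  · exact absurd h hx
  · exact absurd ⟨g, hg, ht⟩ hs
  · obtain ⟨y, b, -, h⟩ := π_u_of_unip hsc ht
    exact ⟨y, b, h.symm⟩

end CfsgLib.SL2Dickson
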