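import Mathlib
import Cfsg.Agent.Lib.SL2.Proj

/-! The class number of `SL₂` over a finite field. -/

set_option autoImplicit false
set_option linter.style.haveILetI false

namespace CfsgLib.SL2Torus

open Matrix CfsgLib.Dickson

variable {F : Type*} [Field F] [Fintype F]

local notation "L" => Matrix.SpecialLinearGroup (Fin 2) F
local notation "M2" => Matrix (Fin 2) (Fin 2) F

theorem card_trace_unip {e : F} (he : e * e = 1) :
    Nat.card {x : L // tr x = 2 * e} = Fintype.card F ^ 2 := by
  classical
  let f : {x : L // tr x = 2 * e} → {p : F × F × F // p.1 * p.1 + p.2.1 * p.2.2 = 0} := fun x =>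
    ⟨((x.1 : M2) 0 0 - e, (x.1 : M2) 0 1, (x.1 : M2) 1 0), by
      have hd : (x.1 : M2).det = 1 := x.1.2
      rw [Matrix.det_fin_two] at hd
      have ht := x.2
      rw [tr, Matrix.trace_fin_two] at ht
      linear_combination (x.1 : M2) 0 0 * ht - hd + he⟩
  have hf : Function.Bijective f := by
    constructor
    · rintro ⟨x, hx⟩ ⟨y, hy⟩ h
      simp only [f, Subtype.mk.injEq, Prod.mk.injEq, sub_left_inj] at h
      obtain ⟨h1, h2, h3⟩ := h
      refine Subtype.ext (CfsgLib.PSL2Two.ext2 h1 h2 h3 ?_)
      rw [tr, Matrix.trace_fin_two] at hx hy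
      linear_combination hx - hy - h1
    · rintro ⟨⟨s, b, c⟩, h⟩
      refine ⟨⟨⟨!![s + e, b; c, e - s], ?_⟩, ?_⟩, ?_⟩
      · rw [Matrix.det_fin_two_of]; linear_combination he - h
      · show (!![s + e, b; c, e - s] : M2).trace = 2 * e
        rw [Matrix.trace_fin_two_of]; ring
      · simp [f]
  let k : (F × {b : F // b ≠ 0}) ⊕ F → {p : F × F × F // p.1 * p.1 + p.2.1 * p.2.2 = 0} := Sum.elim
    (fun p => ⟨(p.1, p.2.1, -(p.1 * p.1) / p.2.1), by have := p.2.2; field_simp; ring⟩)
    (fun c => ⟨(0, 0, c), by simp⟩)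
  have hk : Function.Bijective k := by
    constructor
    · rintro (⟨s, b, hb⟩ | c) (⟨s', b', hb'⟩ | c') h <;> simp [k] at h ⊢
      · exact ⟨h.1, h.2.1⟩
      · exact absurd h.2.1 hb
      · exact absurd h.2.1.symm hb'
      · exact h
    · rintro ⟨⟨s, b, c⟩, h⟩
      simp only at h
      by_cases hb : b = 0
      · refine ⟨Sum.inr c, ?_⟩
        subst hb
        have hs : s = 0 := mul_self_eq_zero.1 (by linear_combination h)
        simp [k, hs]
      · refine ⟨Sum.inl (s, ⟨b, hb⟩), ?_⟩
        simp [k]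
        field_simp
        linear_combination -h
  rw [Nat.card_congr (Equiv.ofBijective f hf), ← Nat.card_congr (Equiv.ofBijective k hk), Nat.card_sum, Nat.card_prod,
    Nat.card_eq_fintype_card, Nat.card_eq_fintype_card, Fintype.card_subtype_compl, Fintype.card_subtype_eq]
  obtain ⟨j, hj⟩ : ∃ j, Fintype.card F = j + 1 := ⟨Fintype.card F - 1, by have := Fintype.one_lt_card (α := F); omega⟩
  rw [hj, Nat.add_sub_cancel]
  ring

theorem card_trace_semisimple {t : F} (ht : t ^ 2 ≠ 4) :
    Nat.card {x : L // tr x = t} * Nat.card (cent (comp t)) = Nat.card L := by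
  have horb : MulAction.orbit (ConjAct L) (comp t) = {x : L | tr x = t} := by
    ext x
    rw [ConjAct.mem_orbit_conjAct, Set.mem_ofPred_eq]
    constructor
    · intro h
      obtain ⟨c, hc⟩ := isConj_iff.1 h.symm
      rw [← hc, tr_conj, tr_comp]
    · intro h
      exact (h ▸ isConj_comp (g := x) (h ▸ ht))
  have hidx : (cent (comp t)).index = ({x : L | tr x = t}).ncard := by
    rw [cent, Subgroup.centralizer_eq_comap_stabilizer]
    exact (Subgroup.index_comap_of_surjective _ (ConjAct.toConjAct (G := L)).surjective).trans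
      ((MulAction.index_stabilizer _ _).trans (by rw [horb]))
  rw [show Nat.card {x : L // tr x = t} = ({x : L | tr x = t}).ncard from Nat.card_coe_set_eq {x : L | tr x = t},
    ← hidx, Subgroup.index_mul_card]

theorem class_number [DecidableEq F] : Nat.card (ConjClasses L) =
    Fintype.card F + if (2 : F) = 0 then 1 else 4 := by
  classical
  haveI : Fintype L := Fintype.ofFinite _
  set q := Fintype.card F with hq
  set d := Nat.gcd 2 (q - 1) with hd
  let cnt : L → ℕ := fun x => Nat.card (cent x)
  have hsum : ∑ x, cnt x = Nat.card (ConjClasses L) * Nat.card L := by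
    rw [← card_comm_eq_card_conjClasses_mul_card, ← Nat.card_sigma]
    refine Nat.card_congr
      { toFun := fun p => ⟨(p.1, p.2.1), (mem_cent.1 p.2.2 : _)⟩
        invFun := fun p => ⟨p.1.1, p.1.2, mem_cent.2 p.2⟩
        left_inv := fun p => rfl
        right_inv := fun p => rfl }
  rw [← Finset.sum_fiberwise Finset.univ tr cnt] at hsum
  have hsemi : ∀ t : F, t ^ 2 ≠ 4 → ∑ x ∈ Finset.univ.filter (fun x => tr x = t), cnt x = Nat.card L := by
    intro t ht
    rw [Finset.sum_congr rfl (g := fun _ => Nat.card (cent (comp t))) ?_, Finset.sum_const, smul_eq_mul,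
      ← card_trace_semisimple ht, Nat.card_eq_fintype_card (α := {x : L // tr x = t}), Fintype.card_subtype]
    intro x hx
    rw [Finset.mem_filter] at hx
    obtain ⟨c, hc⟩ := isConj_iff.1 (isConj_comp (g := x) (hx.2 ▸ ht))
    rw [hx.2] at hc
    show Nat.card (cent x) = _
    have e : cent (comp t) = (cent x).map (MulAut.conj c).toMonoidHom := by
      ext y
      rw [Subgroup.mem_map_equiv, mem_cent, mem_cent, MulAut.conj_symm_apply, ← hc]
      constructor <;> intro h
      · calc x * (c⁻¹ * y * c) = c⁻¹ * (c * x * c⁻¹ * y) * c := by group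
          _ = c⁻¹ * (y * (c * x * c⁻¹)) * c := by rw [h]
          _ = c⁻¹ * y * c * x := by group
      · calc c * x * c⁻¹ * y = c * (x * (c⁻¹ * y * c)) * c⁻¹ := by group
          _ = c * (c⁻¹ * y * c * x) * c⁻¹ := by rw [h]
          _ = y * (c * x * c⁻¹) := by group
    rw [e, Subgroup.card_map_of_injective (MulAut.conj c).injective]
  have hunip : ∀ e : F, e * e = 1 →
      ∑ x ∈ Finset.univ.filter (fun x => tr x = 2 * e), cnt x = Nat.card L + (q ^ 2 - 1) * (q * d) := by
    intro e he
    obtain ⟨s, hs, hse⟩ := coe_eps he (1 : L)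
    rw [mul_one] at hse
    have hts : tr s = 2 * e := by
      rw [tr, ← hse, Matrix.SpecialLinearGroup.coe_one, Matrix.trace_smul, Matrix.trace_one]
      simp [mul_comm]
    rw [← Finset.add_sum_erase _ cnt (Finset.mem_filter.2 ⟨Finset.mem_univ s, hts⟩)]
    have hsc : cnt s = Nat.card L := by
      show Nat.card (cent s) = _
      rw [show cent s = ⊤ from eq_top_iff.2 fun y _ => mem_cent.2 (by rcases hs with rfl | rfl <;> simp), Subgroup.card_top]
    rw [hsc, Finset.sum_congr rfl (g := fun _ => q * d) ?_, Finset.sum_const, smul_eq_mul,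
      Finset.card_erase_of_mem (Finset.mem_filter.2 ⟨Finset.mem_univ s, hts⟩)]
    · have h := card_trace_unip he
      rw [Nat.card_eq_fintype_card, Fintype.card_subtype] at h
      rw [h]
    · intro x hx
      rw [Finset.mem_erase, Finset.mem_filter] at hx
      refine card_cent_unip (fun h => hx.1 ?_) (by rw [hx.2.2]; linear_combination 4 * he)
      obtain ⟨c, hc⟩ := h
      have hd' : (x : M2).det = 1 := x.2
      have ht := hx.2.2
      rw [hc, Matrix.det_smul, Matrix.det_one, mul_one, Fintype.card_fin, sq] at hd'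
      rw [tr, hc, Matrix.trace_smul, Matrix.trace_one, Fintype.card_fin, smul_eq_mul] at ht
      push_cast at ht
      refine Subtype.ext ?_
      rw [hc, ← hse, Matrix.SpecialLinearGroup.coe_one]
      by_cases h2 : (2 : F) = 0
      · have hc' : (c - e) * (c - e) = 0 := by linear_combination hd' + he + (-(c * e)) * h2 - 1 * h2 + 2 * h2
        rw [sub_eq_zero.1 (mul_self_eq_zero.1 hc')]
      · rw [mul_left_cancel₀ h2 (show (2 : F) * c = 2 * e by linear_combination ht)]
  have hG : Nat.card L = (q ^ 2 - 1) * q := by rw [card_L_eq, mul_comm]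
  have hpos : 0 < Nat.card L := Nat.card_pos
  have hq2 : 2 ≤ q := Fintype.one_lt_card
  by_cases h2 : (2 : F) = 0
  · rw [if_pos h2]
    have hd1 : d = 1 := gcd_eq_one_of_two h2
    have h20 : ∀ t : F, t ^ 2 = 4 ↔ t = 2 * 1 := fun t => by
      rw [mul_one, h2]
      constructor
      · intro h
        exact (pow_eq_zero_iff two_ne_zero).1 (show t ^ 2 = 0 by linear_combination h + 2 * h2)
      · rintro rfl; linear_combination -2 * h2
    rw [← Finset.add_sum_erase _ _ (Finset.mem_univ ((2 : F) * 1)), hunip 1 (one_mul 1),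
      Finset.sum_congr rfl (fun t ht => hsemi t (fun h => (Finset.mem_erase.1 ht).1 ((h20 t).1 h))), Finset.sum_const,
      smul_eq_mul, Finset.card_erase_of_mem (Finset.mem_univ _), Finset.card_univ, hd1, mul_one, ← hG, ← hq] at hsum
    refine Nat.eq_of_mul_eq_mul_right hpos (hsum.symm.trans ?_)
    obtain ⟨j, hj⟩ : ∃ j, q = j + 1 := ⟨q - 1, by omega⟩
    rw [hj, Nat.add_sub_cancel]; ring
  · rw [if_neg h2]
    have hd2 : d = 2 := gcd_eq_two_of_two_ne h2
    have hne : (2 : F) * 1 ≠ 2 * (-1) := fun h => h2 (mul_self_eq_zero.1 (by linear_combination h))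
    have h24 : ∀ t : F, t ≠ 2 * 1 → t ≠ 2 * (-1) → t ^ 2 ≠ 4 := fun t h1 h1' h => by
      rcases mul_eq_zero.1 (show (t - 2) * (t + 2) = 0 by linear_combination h) with e | e
      · exact h1 (by linear_combination e)
      · exact h1' (by linear_combination e)
    rw [← Finset.add_sum_erase _ _ (Finset.mem_univ ((2 : F) * 1)), hunip 1 (one_mul 1),
      ← Finset.add_sum_erase _ _ (Finset.mem_erase.2 ⟨hne.symm, Finset.mem_univ ((2 : F) * (-1))⟩),
      hunip (-1) (by ring),
      Finset.sum_congr rfl (fun t ht => hsemi t (h24 t (Finset.mem_erase.1 (Finset.mem_erase.1 ht).2).1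
        (Finset.mem_erase.1 ht).1)), Finset.sum_const, smul_eq_mul,
      Finset.card_erase_of_mem (Finset.mem_erase.2 ⟨hne.symm, Finset.mem_univ _⟩),
      Finset.card_erase_of_mem (Finset.mem_univ _), Finset.card_univ, hd2, ← mul_assoc, ← hG, ← hq] at hsum
    refine Nat.eq_of_mul_eq_mul_right hpos (hsum.symm.trans ?_)
    obtain ⟨j, hj⟩ : ∃ j, q = j + 2 := ⟨q - 2, by omega⟩
    rw [hj, show j + 2 - 1 - 1 = j by omega]; ring

end CfsgLib.SL2Torus
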