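import Mathlib

/-! Counting the conjugates of a TI subgroup. -/

set_option autoImplicit false
set_option linter.style.haveILetI false

namespace CfsgLib.TICount

open Classical

variable {G : Type*} [Group G] [Fintype G]

/-- the nontrivial elements conjugate into `A` -/
noncomputable def cls (A : Subgroup G) : Finset G := {x | x ≠ 1 ∧ ∃ h, h⁻¹ * x * h ∈ A}

theorem mem_cls {A : Subgroup G} {x : G} : x ∈ cls A ↔ x ≠ 1 ∧ ∃ h, h⁻¹ * x * h ∈ A := by
  simp [cls]

theorem card_cls {A K : Subgroup G} (hnorm : ∀ k ∈ K, ∀ a ∈ A, k * a * k⁻¹ ∈ A)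
    (hTI : ∀ h, ∀ a ∈ A, a ≠ 1 → h * a * h⁻¹ ∈ A → h ∈ K) :
    (cls A).card = K.index * (Nat.card A - 1) := by
  classical
  rw [Subgroup.index_eq_card, ← Nat.card_eq_finsetCard]
  have h1 : Nat.card {a : A // a ≠ 1} = Nat.card A - 1 := by
    rw [Nat.card_eq_fintype_card, Fintype.card_subtype_compl, Fintype.card_subtype_eq, Nat.card_eq_fintype_card]
  rw [← h1, ← Nat.card_prod]
  have hne : ∀ a : {a : A // a ≠ 1}, ((a.1 : A) : G) ≠ 1 := fun a e => a.2 (Subtype.ext e)
  symm
  refine Nat.card_congr (Equiv.ofBijective (fun z : (G ⧸ K) × {a : A // a ≠ 1} =>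
    (⟨z.1.out * z.2.1 * z.1.out⁻¹, mem_cls.2 ⟨fun e => hne z.2 (conj_eq_one_iff.1 e), z.1.out,
      by simp [mul_assoc]⟩⟩ : ↥(cls A))) ⟨?_, ?_⟩)
  · rintro ⟨q, a⟩ ⟨s, b⟩ h
    have h' : q.out * a.1 * q.out⁻¹ = s.out * b.1 * s.out⁻¹ := congrArg Subtype.val h
    have h2 : (s.out⁻¹ * q.out) * a.1 * (s.out⁻¹ * q.out)⁻¹ = b.1 := by
      calc _ = s.out⁻¹ * (q.out * a.1 * q.out⁻¹) * s.out := by group
        _ = _ := by rw [h']; group
    have hK := hTI _ _ a.1.2 (hne a) (h2 ▸ b.1.2)
    obtain rfl : s = q := by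
      have := QuotientGroup.eq.2 hK
      rwa [QuotientGroup.out_eq', QuotientGroup.out_eq'] at this
    exact Prod.ext rfl (Subtype.ext (Subtype.ext (mul_left_cancel (mul_right_cancel h'))))
  · rintro ⟨x, hx⟩
    obtain ⟨hx1, h, hh⟩ := mem_cls.1 hx
    obtain ⟨k, hk⟩ := QuotientGroup.mk_out_eq_mul K h
    have ha : (k : G)⁻¹ * (h⁻¹ * x * h) * (k : G) ∈ A := by
      simpa using hnorm _ (inv_mem k.2) _ hh
    refine ⟨(QuotientGroup.mk h, ⟨⟨_, ha⟩, fun e => hx1 ?_⟩), Subtype.ext ?_⟩
    · have e' : (k : G)⁻¹ * (h⁻¹ * x * h) * (k : G) = 1 := congrArg Subtype.val e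
      calc x = h * k * ((k : G)⁻¹ * (h⁻¹ * x * h) * (k : G)) * (h * k)⁻¹ := by group
        _ = 1 := by rw [e']; group
    · show (QuotientGroup.mk h : G ⧸ K).out * _ * (QuotientGroup.mk h : G ⧸ K).out⁻¹ = x
      rw [hk]; group

theorem cls_subset_of_normal {A N : Subgroup G} [N.Normal] (hA : (Nat.card A).Prime) {x : G} (hx : x ∈ cls A)
    (hxN : x ∈ N) : ∀ y ∈ cls A, y ∈ N := by
  obtain ⟨hx1, h, hh⟩ := mem_cls.1 hx
  have hle : A ≤ N := by
    haveI : Fact (Nat.card A).Prime := ⟨hA⟩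
    intro a ha
    have hne : (⟨_, hh⟩ : A) ≠ 1 := fun e => hx1 (by
      have e' : h⁻¹ * x * h = 1 := congrArg Subtype.val e
      calc x = h * (h⁻¹ * x * h) * h⁻¹ := by group
        _ = 1 := by rw [e']; group)
    have := mem_zpowers_of_prime_card (G := A) rfl (g := ⟨_, hh⟩) (g' := ⟨a, ha⟩) hne
    obtain ⟨i, hi⟩ := Subgroup.mem_zpowers_iff.1 this
    have e : a = (h⁻¹ * x * h) ^ i := (congrArg Subtype.val hi).symm.trans (by simp)
    rw [e]
    exact N.zpow_mem (by simpa using Subgroup.Normal.conj_mem ‹N.Normal› x hxN h⁻¹) i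
  intro y hy
  obtain ⟨-, k, hk⟩ := mem_cls.1 hy
  have := Subgroup.Normal.conj_mem ‹N.Normal› _ (hle hk) k
  simpa [mul_assoc] using this

/-- A group of order 60 covered by conjugates of subgroups of orders 3, 2, 5 is simple. -/
theorem isSimple_of_cls {A B C : Subgroup G} (hG : Nat.card G = 60) (hA : Nat.card A = 3) (hB : Nat.card B = 2)
    (hC : Nat.card C = 5) (hcA : (cls A).card = 20) (hcB : (cls B).card = 15) (hcC : (cls C).card = 24)
    (hcov : ∀ x, x ≠ 1 → x ∈ cls A ∨ x ∈ cls B ∨ x ∈ cls C) : IsSimpleGroup G := by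
  classical
  haveI : Nontrivial G := Finite.one_lt_card_iff_nontrivial.1 (by omega)
  constructor
  intro N hN
  let M : Finset G := {x | x ∈ N}
  have hM : M.card = Nat.card N := by rw [Nat.card_eq_fintype_card, Fintype.card_subtype]
  have hd : M.card ∣ 60 := by rw [hM, ← hG]; exact N.card_subgroup_dvd_card
  have huniv : Finset.univ = {(1 : G)} ∪ (cls A ∪ (cls B ∪ cls C)) := by
    ext x
    simp only [Finset.mem_univ, Finset.mem_union, Finset.mem_singleton, true_iff]
    exact or_iff_not_imp_left.2 (hcov x)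
  have h1 : (1 : G) ∉ cls A ∪ (cls B ∪ cls C) := by simp [mem_cls]
  have hc : 60 = 1 + (cls A ∪ (cls B ∪ cls C)).card := by
    have e := congrArg Finset.card huniv
    rwa [Finset.card_univ, ← Nat.card_eq_fintype_card, hG, Finset.card_union_of_disjoint
      (Finset.disjoint_singleton_left.2 h1), Finset.card_singleton] at e
  have hd1 : Disjoint (cls A) (cls B ∪ cls C) ∧ Disjoint (cls B) (cls C) := by
    have e2 := Finset.card_union_le (cls A) (cls B ∪ cls C)
    have e3 := Finset.card_union_le (cls B) (cls C)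
    constructor <;> rw [← Finset.card_union_eq_card_add_card] <;> omega
  have hpart : ∀ D : Subgroup G, (Nat.card D).Prime → (cls D ∩ M).card = 0 ∨ (cls D ∩ M).card = (cls D).card := by
    intro D hD
    by_cases h : (cls D ∩ M).Nonempty
    · obtain ⟨x, hx⟩ := h
      rw [Finset.mem_inter] at hx
      haveI := hN
      have hsub : cls D ⊆ M := fun y hy => Finset.mem_filter.2 ⟨Finset.mem_univ _,
        cls_subset_of_normal hD hx.1 (Finset.mem_filter.1 hx.2).2 y hy⟩
      exact Or.inr (by rw [Finset.inter_eq_left.2 hsub])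
    · exact Or.inl (by rw [Finset.not_nonempty_iff_eq_empty.1 h]; rfl)
  have hMc : M.card = 1 + ((cls A ∩ M).card + ((cls B ∩ M).card + (cls C ∩ M).card)) := by
    conv_lhs => rw [← Finset.univ_inter M, huniv]
    rw [Finset.union_inter_distrib_right, Finset.card_union_of_disjoint, Finset.union_inter_distrib_right,
      Finset.card_union_of_disjoint, Finset.union_inter_distrib_right, Finset.card_union_of_disjoint]
    · rw [Finset.singleton_inter_of_mem (Finset.mem_filter.2 ⟨Finset.mem_univ _, N.one_mem⟩), Finset.card_singleton]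
    · exact hd1.2.mono Finset.inter_subset_left Finset.inter_subset_left
    · exact hd1.1.mono Finset.inter_subset_left Finset.inter_subset_left
    · exact (Finset.disjoint_singleton_left.2 h1).mono Finset.inter_subset_left Finset.inter_subset_left
  have pa := hpart A (hA ▸ (by norm_num))
  have pb := hpart B (hB ▸ (by norm_num))
  have pc := hpart C (hC ▸ (by norm_num))
  rw [hcA] at pa; rw [hcB] at pb; rw [hcC] at pc
  have hfin : M.card = 1 ∨ M.card = 60 := by
    rcases pa with a | a <;> rcases pb with b | b <;> rcases pc with c | c <;> rw [a, b, c] at hMc <;>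
      rw [hMc] at hd ⊢ <;> revert hd <;> norm_num
  rcases hfin with h | h
  · exact Or.inl (Subgroup.eq_bot_of_card_eq N (by rw [← hM, h]))
  · exact Or.inr (Subgroup.eq_top_of_card_eq N (by rw [← hM, h, hG]))

end CfsgLib.TICount
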