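import Mathlib
import Cfsg.Agent.Lib.SL2.Borel
import Cfsg.Agent.Lib.SL2.TICount
import Cfsg.Agent.Lib.Dickson.Main
import Cfsg.Agent.S0494

/-! The class equation of a subgroup of `PSL₂` with several Sylow `p`-subgroups. -/

set_option autoImplicit false
set_option linter.style.haveILetI false

namespace CfsgLib.SL2Dickson

open Matrix CfsgLib.SL2Torus CfsgLib.TICount
open CfsgLib.PSL2Klein (π π_surj π_eq π_eq_one)
open CfsgLib.PSL2Two (mul_entry ext2 entries)
open Classical

variable {F : Type*} [Field F] [Fintype F]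

local notation "L" => Matrix.SpecialLinearGroup (Fin 2) F
local notation "PL" => Matrix.ProjectiveSpecialLinearGroup (Fin 2) F
local notation "M2" => Matrix (Fin 2) (Fin 2) F

theorem sq_unique {g h : L} (e : π g = π h) : g.1 0 0 * g.1 0 0 = h.1 0 0 * h.1 0 0 := by
  rcases (π_eq _ _).1 e with rfl | rfl <;> simp

/-- the square of the upper diagonal entry -/
noncomputable def δ : Bor F →* Fˣ where
  toFun x := Units.mk0 (x.2.choose.1 0 0 * x.2.choose.1 0 0)
    (mul_ne_zero (ne_zero_of_upper x.2.choose_spec.2) (ne_zero_of_upper x.2.choose_spec.2))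
  map_one' := Units.ext <| by
    have h := sq_unique (g := (1 : Bor F).2.choose) (h := 1) (by rw [(1 : Bor F).2.choose_spec.1, map_one]; rfl)
    simpa using h
  map_mul' x y := Units.ext <| by
    have h := sq_unique (g := (x * y).2.choose) (h := x.2.choose * y.2.choose)
      (by rw [(x * y).2.choose_spec.1, map_mul, x.2.choose_spec.1, y.2.choose_spec.1]; rfl)
    rw [mul_entry, y.2.choose_spec.2, mul_zero, add_zero] at h
    simp only [Units.val_mk0, Units.val_mul, h]
    ring

theorem δ_eq (x : Bor F) {g : L} (hg : π g = x.1) : ((δ x : Fˣ) : F) = g.1 0 0 * g.1 0 0 :=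
  sq_unique (x.2.choose_spec.1.trans hg.symm)

theorem δ_eq_one {x : Bor F} : δ x = 1 ↔ (x : PL) ∈ U F := by
  constructor
  · intro h
    obtain ⟨g, hg, hu⟩ := x.2
    have e : g.1 0 0 * g.1 0 0 = 1 := by rw [← δ_eq x hg, h]; rfl
    have e2 := sq_of_upper hu
    have h11 : g.1 1 1 = g.1 0 0 := mul_left_cancel₀ (ne_zero_of_upper hu) (e2.trans e.symm)
    rcases mul_self_eq_one_iff.1 e with h1 | h1
    · exact ⟨g.1 0 1, by rw [← hg, up]; exact congrArg π (ext2 (by rw [u00, h1]) (u01 _) (by rw [u10, hu])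
        (by rw [u11, h11, h1]))⟩
    · refine ⟨-g.1 0 1, ?_⟩
      rw [← hg, up, π_eq]
      refine Or.inr (ext2 ?_ ?_ ?_ ?_) <;>
        simp only [Matrix.SpecialLinearGroup.coe_neg, Matrix.neg_apply, u00, u01, u10, u11, hu, h11, h1, neg_neg, neg_zero]
  · rintro ⟨b, hb⟩
    exact Units.ext (by rw [δ_eq x hb, u00]; simp)

/-! ### tori -/

theorem semi_of_mem_torus {T : Subgroup PL} (hT : IsTorus T) {x : PL} (hx : x ∈ T) (hx1 : x ≠ 1) : IsSemi x := by
  by_contra hs
  obtain ⟨n, hp, hcard⟩ := FiniteField.card F (ringChar F)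
  haveI := Fact.mk hp
  obtain ⟨y, hy⟩ := exists_conj_mem_U hx1 hs
  have h1 : x ^ ringChar F = 1 := by
    obtain ⟨b, hb⟩ := hy
    rw [show x = y * up b * y⁻¹ by rw [hb]; group, conj_pow, up, π_u_pow_char, mul_one, mul_inv_cancel]
  apply torus_coprime (ringChar F) hT
  rw [← orderOf_eq_prime h1 hx1, ← Subgroup.orderOf_mk x hx]
  exact orderOf_dvd_natCard _

theorem torus_le_Bor {g : L} (hg : g.1 1 0 = 0) (hne : g.1 0 0 * g.1 0 0 ≠ 1) :
    tr g ^ 2 ≠ 4 ∧ (cent g).map π ≤ Bor F := by
  have e := sq_of_upper hg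
  have hd : g.1 0 0 - g.1 1 1 ≠ 0 := fun h => hne (by linear_combination e + g.1 0 0 * h)
  refine ⟨fun h => hd ?_, ?_⟩
  · rw [tr, Matrix.trace_fin_two] at h
    exact mul_self_eq_zero.1 (by linear_combination h - 4 * e)
  · rintro _ ⟨a, ha, rfl⟩
    have h := congrArg (fun z : L => z.1 1 0) (mem_cent.1 ha)
    simp only [mul_entry, hg] at h
    have : a.1 1 0 * (g.1 0 0 - g.1 1 1) = 0 := by linear_combination -h
    exact mem_Bor.2 ((mul_eq_zero.1 this).resolve_right hd)

variable (H : Subgroup (Matrix.ProjectiveSpecialLinearGroup (Fin 2) F))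

/-- torus data inside `H` -/
theorem torus_class {T : Subgroup PL} (hT : IsTorus T) :
    (cls (T.subgroupOf H)).card =
        ((Subgroup.normalizer (T : Set PL)).subgroupOf H).index * (Nat.card (T.subgroupOf H) - 1) ∧
      ∃ e, (e = 1 ∨ e = 2) ∧
        ((Subgroup.normalizer (T : Set PL)).subgroupOf H).index * (Nat.card (T.subgroupOf H) * e) = Nat.card H := by
  set K := (Subgroup.normalizer (T : Set PL)).subgroupOf H with hK
  set A := T.subgroupOf H with hA
  refine ⟨card_cls (K := K) (fun k hk a ha => ?_) (fun h a ha ha1 hh => ?_), ?_⟩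
  · exact Subgroup.mem_subgroupOf.2 ((Subgroup.mem_normalizer_iff.1 (Subgroup.mem_subgroupOf.1 hk) _).1
      (Subgroup.mem_subgroupOf.1 ha))
  · refine Subgroup.mem_subgroupOf.2 (Subgroup.mem_normalizer_iff_map_conj_eq.2 ?_)
    exact torus_eq (torus_conj hT _) hT (x := (h : PL) * a * (h : PL)⁻¹)
      ⟨(a : PL), Subgroup.mem_subgroupOf.1 ha, rfl⟩ (Subgroup.mem_subgroupOf.1 hh)
      (fun e => ha1 (Subtype.ext (conj_eq_one_iff.1 e)))
  · have hAK : A ≤ K := fun a ha => Subgroup.mem_subgroupOf.2 (Subgroup.le_normalizer (Subgroup.mem_subgroupOf.1 ha))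
    have h2 : T.relIndex (Subgroup.normalizer (T : Set PL)) = 2 := by
      have h := Subgroup.relIndex_mul_relIndex ⊥ T _ bot_le (Subgroup.le_normalizer (H := T))
      rw [Subgroup.relIndex_bot_left, Subgroup.relIndex_bot_left, torus_normalizer_card hT] at h
      exact Nat.eq_of_mul_eq_mul_left Nat.card_pos (h.trans (mul_comm _ _))
    have h3 : A.relIndex K ≤ 2 := by
      rw [hA, hK, ← Subgroup.inf_subgroupOf_right (Subgroup.normalizer (T : Set PL)) H,
        Subgroup.relIndex_subgroupOf inf_le_right]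
      refine le_trans (Subgroup.relIndex_le_of_le_right inf_le_left ?_) (le_of_eq h2)
      rw [h2]; norm_num
    have h4 : A.relIndex K ≠ 0 := Subgroup.index_ne_zero_of_finite
    refine ⟨A.relIndex K, by omega, ?_⟩
    have h5 := Subgroup.relIndex_mul_relIndex ⊥ A K bot_le hAK
    rw [Subgroup.relIndex_bot_left, Subgroup.relIndex_bot_left] at h5
    rw [h5, Subgroup.index_mul_card]

/-- two torus classes meeting are equal -/
theorem torus_cls_eq {T T' : Subgroup PL} (hT : IsTorus T) (hT' : IsTorus T') {z : H}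
    (hz : z ∈ cls (T.subgroupOf H)) (hz' : z ∈ cls (T'.subgroupOf H)) :
    cls (T.subgroupOf H) = cls (T'.subgroupOf H) := by
  obtain ⟨hz1, h, hh⟩ := mem_cls.1 hz
  obtain ⟨-, k, hk⟩ := mem_cls.1 hz'
  have e : T.map (MulAut.conj (h : PL)).toMonoidHom = T'.map (MulAut.conj (k : PL)).toMonoidHom :=
    torus_eq (torus_conj hT _) (torus_conj hT' _) (x := (z : PL))
      ⟨_, Subgroup.mem_subgroupOf.1 hh, by simp [mul_assoc]⟩ ⟨_, Subgroup.mem_subgroupOf.1 hk, by simp [mul_assoc]⟩
      (fun e => hz1 (Subtype.ext e))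
  have key : ∀ x : PL, (h : PL)⁻¹ * x * h ∈ T ↔ (k : PL)⁻¹ * x * k ∈ T' := fun x => by
    have h2 := Subgroup.ext_iff.1 e x
    rw [Subgroup.mem_map_equiv, Subgroup.mem_map_equiv] at h2
    simpa [mul_assoc] using h2
  ext w
  simp only [mem_cls, Subgroup.mem_subgroupOf]
  constructor
  · rintro ⟨hw, s, hs⟩
    refine ⟨hw, s * h⁻¹ * k, ?_⟩
    have := (key ((h : PL) * ((s : PL)⁻¹ * w * s) * (h : PL)⁻¹)).1 (by simpa [mul_assoc] using hs)
    simpa [mul_assoc] using this
  · rintro ⟨hw, s, hs⟩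
    refine ⟨hw, s * k⁻¹ * h, ?_⟩
    have := (key ((k : PL) * ((s : PL)⁻¹ * w * s) * (k : PL)⁻¹)).2 (by simpa [mul_assoc] using hs)
    simpa [mul_assoc] using this

/-- a set stable under a subgroup of units -/
theorem dvd_card_stable {G : Type*} [CommGroup G] [Finite G] (D : Subgroup G) (s : Set G)
    (hs : ∀ d ∈ D, ∀ x ∈ s, d * x ∈ s) : Nat.card D ∣ Nat.card s := by
  have h : s = (QuotientGroup.mk : G → G ⧸ D) ⁻¹' ((QuotientGroup.mk : G → G ⧸ D) '' s) := by
    ext x
    refine ⟨fun hx => ⟨x, hx, rfl⟩, ?_⟩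
    rintro ⟨y, hy, hxy⟩
    have := hs _ (QuotientGroup.eq.1 hxy) y hy
    rwa [mul_comm y⁻¹ x, mul_assoc, inv_mul_cancel, mul_one] at this
  rw [h, QuotientGroup.card_preimage_mk]
  exact dvd_mul_right _ _

theorem inv_sq_mem_Bor (h : PL) (hh : h ∉ Bor F) {x : PL} (hx : x ∈ U F) (hx1 : x ≠ 1) :
    h⁻¹ * x * h ∉ Bor F := by
  intro hb
  have hs : ¬ IsSemi x := by
    obtain ⟨n, hp, hcard⟩ := FiniteField.card F (ringChar F)
    haveI := Fact.mk hp
    obtain ⟨b, rfl⟩ := hx
    exact not_semi_of_pow (ringChar F) (π_u_pow_char _ b) hx1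
  have hU : h⁻¹ * x * h ∈ U F := by
    obtain ⟨g, hg, hu⟩ := hb
    have h1 : (⟨_, g, hg, hu⟩ : Bor F).1 = h⁻¹ * x * h := rfl
    rw [← h1]
    refine δ_eq_one.1 (Units.ext ?_)
    rw [δ_eq _ hg]
    by_contra hne
    obtain ⟨ht, -⟩ := torus_le_Bor hu hne
    refine hs ?_
    obtain ⟨y, rfl⟩ := π_surj h
    refine ⟨y * g * y⁻¹, ?_, by rwa [tr_conj]⟩
    rw [map_mul, map_mul, map_inv, hg]; group
  exact hh (inv_mem_iff.1 (TI hx hx1 (by simpa using hU)))

/-- the outcome of the class equation -/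
theorem count (hV : H ⊓ U F ≠ ⊥) (hB : ¬ H ≤ Bor F) :
    (Nat.card ((U F).subgroupOf H) = 2 ∧ ∃ T : Subgroup PL, ∃ m, IsTorus T ∧ H ≤ Subgroup.normalizer (T : Set PL) ∧
        2 ≤ m ∧ m ∣ Nat.card T ∧ Nat.card H = 2 * m ∧ Nat.card (T.subgroupOf H) = m) ∨
      ((Bor F).subgroupOf H).index = Nat.card ((U F).subgroupOf H) + 1 ∨
      (Nat.card ((U F).subgroupOf H) = 3 ∧ Nonempty (H ≃* alternatingGroup (Fin 5))) := by
  classical
  obtain ⟨f, hp, hcard⟩ := FiniteField.card F (ringChar F)
  haveI := Fact.mk hp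
  set p := ringChar F with hpdef
  set Vs := (U F).subgroupOf H with hVs
  set Bs := (Bor F).subgroupOf H with hBs
  set r := Nat.card Vs with hr
  set n := Bs.index with hn
  set d := Vs.relIndex Bs with hd
  have hVB : Vs ≤ Bs := fun x hx => U_le_Bor F hx
  have hmemV : ∀ {x : H}, x ∈ Vs ↔ (x : PL) ∈ U F := fun {x} => Subgroup.mem_subgroupOf
  have hmemB : ∀ {x : H}, x ∈ Bs ↔ (x : PL) ∈ Bor F := fun {x} => Subgroup.mem_subgroupOf
  have hg : Nat.card H = n * r * d := by
    have h5 := Subgroup.relIndex_mul_relIndex ⊥ Vs Bs bot_le hVB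
    rw [Subgroup.relIndex_bot_left, Subgroup.relIndex_bot_left] at h5
    rw [mul_assoc, h5, hn, Subgroup.index_mul_card]
  have hr2 : 2 ≤ r := by
    obtain ⟨x, hx, hx1⟩ := (H ⊓ U F).bot_or_exists_ne_one.resolve_left hV
    haveI : Nontrivial Vs := ⟨⟨⟨⟨x, hx.1⟩, hx.2⟩, 1, fun e =>
      hx1 (congrArg (fun z : Vs => (z.1.1 : PL)) e)⟩⟩
    exact Finite.one_lt_card
  have hn1 : n ≠ 1 := fun e => hB (Subgroup.subgroupOf_eq_top.1 (Subgroup.index_eq_one.1 e))
  have hn0 : n ≠ 0 := Subgroup.index_ne_zero_of_finite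
  -- free action of `Vs` on the other cosets
  have hmod : ∃ k, n = 1 + r * k := by
    have hb := MulAction.sum_card_fixedBy_eq_card_orbits_mul_card_group Vs (H ⧸ Bs)
    have hfix : ∀ v : Vs, v ≠ 1 → Fintype.card (MulAction.fixedBy (H ⧸ Bs) v) = 1 := by
      intro v hv
      rw [Fintype.card_eq_one_iff]
      refine ⟨⟨((1 : H) : H ⧸ Bs), ?_⟩, ?_⟩
      · show ((v.1 * 1 : H) : H ⧸ Bs) = ((1 : H) : H ⧸ Bs)
        refine QuotientGroup.eq.2 ?_
        simpa using Bs.inv_mem (hVB v.2)
      · rintro ⟨q, hq⟩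
        obtain ⟨h, rfl⟩ := QuotientGroup.mk_surjective q
        apply Subtype.ext
        change ((v.1 * h : H) : H ⧸ Bs) = (h : H ⧸ Bs) at hq
        by_contra hne
        have hh : (h : PL) ∉ Bor F := fun hh => hne (QuotientGroup.eq.2 (by simpa using Bs.inv_mem (hmemB.2 hh)))
        have h2 := hmemB.1 (QuotientGroup.eq.1 hq)
        refine inv_sq_mem_Bor (h : PL) hh (hmemV.1 v.2) (fun e => hv (Subtype.ext (Subtype.ext e))) ?_
        have := inv_mem h2
        simpa [mul_assoc] using this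
    rw [← Finset.add_sum_erase _ _ (Finset.mem_univ (1 : Vs)),
      Finset.sum_congr rfl (fun v hv => hfix v (Finset.ne_of_mem_erase hv)), Finset.sum_const, smul_eq_mul, mul_one,
      Finset.card_erase_of_mem (Finset.mem_univ _), Finset.card_univ, ← Nat.card_eq_fintype_card] at hb
    have h1 : Fintype.card (MulAction.fixedBy (H ⧸ Bs) (1 : Vs)) = n := by
      rw [hn, Subgroup.index_eq_card, Nat.card_eq_fintype_card]
      exact Fintype.card_congr (Equiv.subtypeUnivEquiv (fun x => one_smul _ x))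
    simp only [← Nat.card_eq_fintype_card] at hb h1
    rw [h1] at hb
    generalize Nat.card (Quotient (MulAction.orbitRel Vs (H ⧸ Bs))) = o at hb
    refine ⟨o - 1, ?_⟩
    rw [← hr] at hb
    rcases o with _ | o
    · simp at hb; omega
    · rw [Nat.add_mul, one_mul] at hb
      simp only [Nat.add_sub_cancel]
      rw [mul_comm r o]; omega
  obtain ⟨k, hk⟩ := hmod
  -- the unipotent classes
  set Un := cls Vs with hUn
  have hUncard : Un.card = n * (r - 1) := card_cls
    (fun b hb v hv => hmemV.2 (Bor_normalizes (hmemB.1 hb) (hmemV.1 hv)))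
    (fun h v hv hv1 hh => hmemB.2 (TI (hmemV.1 hv) (fun e => hv1 (Subtype.ext e)) (hmemV.1 hh)))
  have hVp : IsPGroup p Vs := (U_isPGroup p).comap_of_injective H.subtype H.subtype_injective
  have hns : ∀ x : H, x ∈ Un → ¬ IsSemi (x : PL) := by
    intro x hx
    obtain ⟨hx1, h, hh⟩ := mem_cls.1 hx
    refine not_semi_of_pow p ?_ (fun e => hx1 (Subtype.ext e))
    obtain ⟨b, hb⟩ := hmemV.1 hh
    have hb' : up b = (h : PL)⁻¹ * x * h := by simpa using hb
    rw [show (x : PL) = h * up b * (h : PL)⁻¹ by rw [hb']; group, conj_pow, up, π_u_pow_char, mul_one, mul_inv_cancel]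
  have hV0 : ∀ S : Subgroup H, IsPGroup p S → Vs ≤ S → S = Vs := by
    intro S hS hle
    by_contra hne
    haveI := hS.isNilpotent
    have hlt : Vs.subgroupOf S < ⊤ := lt_top_iff_ne_top.2 fun e => hne (le_antisymm (Subgroup.subgroupOf_eq_top.1 e) hle)
    obtain ⟨s, hs, hs'⟩ := SetLike.exists_of_lt
      ((Group.normalizerCondition_of_isNilpotent (G := S)) _ hlt)
    apply hs'
    rw [Subgroup.mem_subgroupOf, hmemV]
    obtain ⟨v, hv, hv1⟩ : ∃ v ∈ Vs, v ≠ 1 := Vs.bot_or_exists_ne_one.resolve_left fun e => by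
      rw [hr, e, Subgroup.card_bot] at hr2; omega
    have hsB : ((s : H) : PL) ∈ Bor F := by
      refine TI (hmemV.1 hv) (fun e => hv1 (Subtype.ext e)) ?_
      have := (Subgroup.mem_normalizer_iff.1 hs ⟨v, hle hv⟩).1 (Subgroup.mem_subgroupOf.2 hv)
      exact hmemV.1 (Subgroup.mem_subgroupOf.1 this)
    obtain ⟨i, hi⟩ := hS s
    obtain ⟨g, hg', hu⟩ := hsB
    by_contra hU
    have hne1 : g.1 0 0 * g.1 0 0 ≠ 1 := fun e => hU ((δ_eq_one (x := ⟨((s : H) : PL), g, hg', hu⟩)).1
      (Units.ext ((δ_eq _ hg').trans e)))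
    obtain ⟨T, hT, hsT⟩ := exists_torus (x := ((s : H) : PL)) ⟨g, hg', (torus_le_Bor hu hne1).1⟩
    have hne2 : ((s : H) : PL) ≠ 1 := fun e => hU (e ▸ (U F).one_mem)
    obtain ⟨j, -, hj⟩ := (Nat.dvd_prime_pow hp).1 (orderOf_dvd_of_pow_eq_one (x := ((s : H) : PL))
      (by have := congrArg (fun z : S => ((z : H) : PL)) hi; simpa using this))
    rcases j with _ | j
    · exact hne2 (orderOf_eq_one_iff.1 (by rw [hj, pow_zero]))
    · apply torus_coprime p hT
      refine dvd_trans (dvd_trans (dvd_pow_self p j.succ_ne_zero) (dvd_of_eq hj.symm)) ?_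
      rw [← Subgroup.orderOf_mk _ hsT]
      exact orderOf_dvd_natCard _
  let P : Sylow p H := ⟨Vs, hVp, fun {S} hS hle => hV0 S hS hle⟩
  have hun : ∀ x : H, x ≠ 1 → ¬ IsSemi (x : PL) → x ∈ Un := by
    intro x hx hs
    obtain ⟨y, b, hb⟩ := exists_conj_mem_U (fun e => hx (Subtype.ext e)) hs
    have hxp : x ^ p = 1 := Subtype.ext (by
      rw [SubgroupClass.coe_pow, show (x : PL) = y * up b * y⁻¹ by rw [hb]; group, conj_pow, up, π_u_pow_char,
        mul_one, mul_inv_cancel]; rfl)
    obtain ⟨Q, hQ⟩ := IsPGroup.exists_le_sylow (p := p) (P := Subgroup.zpowers x)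
      (IsPGroup.of_card (n := 1) (by rw [Nat.card_zpowers, orderOf_eq_prime hxp hx, pow_one]))
    obtain ⟨h, rfl⟩ := MulAction.exists_smul_eq H P Q
    refine mem_cls.2 ⟨hx, h, ?_⟩
    have := hQ (Subgroup.mem_zpowers x)
    rw [Sylow.coe_subgroup_smul, Subgroup.mem_pointwise_smul_iff_inv_smul_mem] at this
    simpa using this
  -- the semisimple elements
  let R : Finset H := Finset.univ.filter fun x => x ≠ 1 ∧ x ∉ Un
  have hR : R.card + 1 + n * (r - 1) = Nat.card H := by
    rw [← hUncard, Nat.card_eq_fintype_card, ← Finset.card_univ]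
    symm
    have h1 : (Finset.univ : Finset H) = R ∪ {1} ∪ Un := by
      ext x; simp only [R, Finset.mem_univ, Finset.mem_union, Finset.mem_filter, Finset.mem_singleton, true_and, true_iff]
      tauto
    refine (congrArg Finset.card h1).trans ?_
    rw [Finset.card_union_of_disjoint, Finset.card_union_of_disjoint, Finset.card_singleton]
    · exact Finset.disjoint_singleton_right.2 (by simp [R])
    · rw [Finset.disjoint_union_left]
      exact ⟨Finset.disjoint_left.2 fun x hx => (Finset.mem_filter.1 hx).2.2,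
        Finset.disjoint_singleton_left.2 fun h => (mem_cls.1 h).1 rfl⟩
  have hsR : ∀ T, IsTorus T → cls (T.subgroupOf H) ⊆ R := by
    intro T hT z hz
    refine Finset.mem_filter.2 ⟨Finset.mem_univ _, (mem_cls.1 hz).1, fun hu => hns z hu ?_⟩
    obtain ⟨hz1, h, hh⟩ := mem_cls.1 hz
    exact semi_of_mem_torus (torus_conj hT (h : PL)) ⟨_, Subgroup.mem_subgroupOf.1 hh, by simp [mul_assoc]⟩
      (fun e => hz1 (Subtype.ext e))
  -- a class through a given element
  have pick : ∀ y ∈ R, ∃ T : Subgroup PL, ∃ c e i, IsTorus T ∧ y ∈ cls (T.subgroupOf H) ∧ 2 ≤ c ∧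
      (e = 1 ∨ e = 2) ∧ i * (c * e) = Nat.card H ∧ (cls (T.subgroupOf H)).card = i * (c - 1) ∧
      c = Nat.card (T.subgroupOf H) ∧ i = ((Subgroup.normalizer (T : Set PL)).subgroupOf H).index := by
    intro y hy
    obtain ⟨-, hy1, hy2⟩ := Finset.mem_filter.1 hy
    obtain ⟨T, hT, hyT⟩ := exists_torus (by by_contra hs; exact hy2 (hun y hy1 hs) : IsSemi (y : PL))
    obtain ⟨h1, e, he, h2⟩ := torus_class H hT
    refine ⟨T, _, e, _, hT, mem_cls.2 ⟨hy1, 1, ?_⟩, ?_, he, h2, h1, rfl, rfl⟩
    · simpa using Subgroup.mem_subgroupOf.2 hyT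
    · haveI : Nontrivial (T.subgroupOf H) := ⟨⟨⟨y, hyT⟩, 1, fun e => hy1 (congrArg Subtype.val e)⟩⟩
      exact Finite.one_lt_card
  have quarter : ∀ {c e i S : ℕ}, 2 ≤ c → (e = 1 ∨ e = 2) → i * (c * e) = Nat.card H → S = i * (c - 1) →
      Nat.card H ≤ 4 * S := by
    intro c e i S hc he h hS
    rw [← h, hS]
    calc i * (c * e) ≤ i * (4 * (c - 1)) := Nat.mul_le_mul_left _ (by rcases he with rfl | rfl <;> omega)
      _ = 4 * (i * (c - 1)) := by ring
  have disj : ∀ {T T'}, IsTorus T → IsTorus T' → ∀ {z}, z ∈ cls (T'.subgroupOf H) →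
      z ∉ cls (T.subgroupOf H) → Disjoint (cls (T.subgroupOf H)) (cls (T'.subgroupOf H)) := by
    intro T T' hT hT' z hz hz'
    exact Finset.disjoint_left.2 fun w hw hw' => hz' (torus_cls_eq H hT hT' hw hw' ▸ hz)
  have hd0 : d ≠ 0 := fun e => by
    have := (Nat.card_pos (α := H)).ne'
    rw [hg, e, mul_zero] at this
    exact this rfl
  obtain ⟨r', hr'⟩ : ∃ r', r = r' + 2 := ⟨r - 2, by omega⟩
  obtain ⟨n', hn'⟩ : ∃ n', n = n' + 2 := ⟨n - 2, by omega⟩
  rw [show r - 1 = r' + 1 by omega] at hR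
  rw [hg] at hR
  by_cases hd1 : d = 1
  · -- no elements of order prime to `p` in the Borel subgroup
    rw [hd1, mul_one, hr'] at hR
    have hR' : R.card + 1 = n := by
      have : n * (r' + 2) = n * (r' + 1) + n := by ring
      omega
    obtain ⟨y, hy⟩ := Finset.card_pos.1 (by omega : 0 < R.card)
    obtain ⟨T, c, e, i, hT, hyT, hc, he, hci, hS, hcA, hiK⟩ := pick y hy
    have hq := quarter hc he hci hS
    rw [hg, hd1, mul_one] at hq hci
    have hSle := Finset.card_le_card (hsR T hT)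
    have hSR : (cls (T.subgroupOf H)).card = R.card := by
      by_contra hne
      obtain ⟨y', hy', hy''⟩ := Finset.exists_of_ssubset (s₁ := cls (T.subgroupOf H)) (s₂ := R)
        ((hsR T hT).ssubset_of_ne fun e => hne (by rw [e]))
      obtain ⟨T', c', e', i', hT', hyT', hc', he', hci', hS', -, -⟩ := pick y' hy'
      have hq' := quarter hc' he' hci' hS'
      rw [hg, hd1, mul_one] at hq'
      have := Finset.card_le_card (Finset.union_subset (hsR T hT) (hsR T' hT'))
      rw [Finset.card_union_of_disjoint (disj hT hT' hyT' hy'')] at this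
      have := Nat.mul_le_mul_left n hr2
      omega
    rw [hS] at hSR
    obtain ⟨c', rfl⟩ : ∃ c', c = c' + 2 := ⟨c - 2, by omega⟩
    rw [show c' + 2 - 1 = c' + 1 by omega] at hSR
    have hq' : n * r ≤ 4 * (i * (c' + 1)) := by rwa [hS] at hq
    have hr3 : r < 4 := by
      by_contra h
      have := Nat.mul_le_mul_left n (not_lt.1 h)
      omega
    rcases he with rfl | rfl
    · exfalso
      have e1 : i * ((c' + 2) * 1) = i * (c' + 1) + i := by ring
      obtain rfl | rfl : r' = 0 ∨ r' = 1 := by omega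
      · rw [hr', e1] at hci
        have : i = n + 1 := by omega
        subst this
        have := Nat.mul_le_mul_left (n + 1) (Nat.le_add_left 1 c')
        omega
      · rw [hr', e1] at hci
        have : i = 2 * n + 1 := by omega
        subst this
        have := Nat.mul_le_mul_left (2 * n + 1) (Nat.le_add_left 1 c')
        omega
    · have e1 : i * ((c' + 2) * 2) = 2 * (i * (c' + 1)) + 2 * i := by ring
      obtain rfl | rfl : r' = 0 ∨ r' = 1 := by omega
      · left
        rw [hr', e1] at hci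
        have hi1 : i = 1 := by omega
        refine ⟨hr', T, c' + 2, hT, Subgroup.subgroupOf_eq_top.1 (Subgroup.index_eq_one.1 (hiK ▸ hi1)), by omega, ?_, ?_,
          hcA.symm⟩
        · rw [hcA]
          exact Subgroup.card_dvd_of_injective ((H.subtype.comp (T.subgroupOf H).subtype).codRestrict T fun y => y.2)
            (fun a b h => Subtype.ext (Subtype.ext (congrArg (fun z : T => z.1) h)))
        · rw [hg, hd1, mul_one, hr']
          rw [hi1] at hSR
          omega
      · right; left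
        rw [hr', e1] at hci
        show n = r + 1
        have h2i : 2 * i = n + 2 := by omega
        have : c' = 0 := by
          by_contra hc0
          have := Nat.mul_le_mul_left i (show 2 ≤ c' + 1 by omega)
          omega
        subst this
        omega
  · -- a torus in the Borel subgroup
    let θ : Bs →* Fˣ := δ.comp ((H.subtype.comp Bs.subtype).codRestrict (Bor F) fun x => hmemB.1 x.2)
    have hθval : ∀ x : Bs, θ x = δ ⟨((x : H) : PL), hmemB.1 x.2⟩ := fun x => rfl
    have hker : θ.ker = Vs.subgroupOf Bs := by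
      ext x
      rw [MonoidHom.mem_ker, Subgroup.mem_subgroupOf, hmemV, hθval, δ_eq_one]
    have hD : Nat.card θ.range = d := by
      rw [← Subgroup.index_ker, hker]; rfl
    haveI : IsCyclic θ.range := Subgroup.isCyclic _
    obtain ⟨⟨c0, b, hb⟩, hgen⟩ := IsCyclic.exists_generator (α := θ.range)
    have hc0 : c0 ≠ 1 := by
      rintro rfl
      apply hd1
      rw [← hD, Subgroup.card_eq_one, Subgroup.eq_bot_iff_forall]
      intro z hz
      obtain ⟨j, hj⟩ := Subgroup.mem_zpowers_iff.1 (hgen ⟨z, hz⟩)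
      have := congrArg Subtype.val hj
      simpa using this.symm
    obtain ⟨g, hgb, hgu⟩ := hmemB.1 b.2
    have hne : g.1 0 0 * g.1 0 0 ≠ 1 := fun e => hc0 (by
      rw [← hb, hθval]; exact Units.ext ((δ_eq _ hgb).trans e))
    obtain ⟨htr, hTle⟩ := torus_le_Bor hgu hne
    set T0 : Subgroup PL := (cent g).map π with hT0def
    have hT0 : IsTorus T0 := ⟨g, htr, rfl⟩
    have hAd : Nat.card (T0.subgroupOf H) = d := by
      set A := T0.subgroupOf H with hA
      have hAB : A ≤ Bs := fun a ha => hmemB.2 (hTle (Subgroup.mem_subgroupOf.1 ha))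
      let ψ : A →* θ.range := (θ.comp (Subgroup.inclusion hAB)).codRestrict _ fun a => ⟨_, rfl⟩
      have hψi : Function.Injective ψ := (injective_iff_map_eq_one ψ).2 fun a ha => by
        have : θ (Subgroup.inclusion hAB a) = 1 := congrArg Subtype.val ha
        rw [hθval, δ_eq_one] at this
        by_contra hne1
        have hne2 : ((a : H) : PL) ≠ 1 := fun e => hne1 (Subtype.ext (Subtype.ext e))
        obtain ⟨b', hb'⟩ := this
        have hb2 : up b' = ((a : H) : PL) := hb'
        exact not_semi_of_pow p (by rw [← hb2, up, π_u_pow_char]) hne2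
          (semi_of_mem_torus hT0 (Subgroup.mem_subgroupOf.1 a.2) hne2)
      have hψs : Function.Surjective ψ := fun z => by
        obtain ⟨j, hj⟩ := Subgroup.mem_zpowers_iff.1 (hgen z)
        have hbA : (b : H) ∈ A := Subgroup.mem_subgroupOf.2 ⟨g, self_mem_cent g, hgb⟩
        refine ⟨⟨b, hbA⟩ ^ j, ?_⟩
        rw [map_zpow, ← hj]
        congr 1
        exact Subtype.ext hb
      rw [Nat.card_congr (Equiv.ofBijective ψ ⟨hψi, hψs⟩), hD]
    -- `d` divides `r - 1`
    have hdvd : d ∣ r - 1 := by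
      let s : Set Fˣ := {a | up (a : F) ∈ H}
      have h1 := dvd_card_stable θ.range s (by
        rintro _ ⟨x, rfl⟩ a (ha : up (a : F) ∈ H)
        obtain ⟨gx, hgx, hux⟩ := hmemB.1 x.2
        show up ((θ x * a : Fˣ) : F) ∈ H
        rw [Units.val_mul, hθval, δ_eq _ hgx, ← conj_up hux, hgx]
        exact H.mul_mem (H.mul_mem x.1.2 ha) (H.inv_mem x.1.2))
      have h2 : Nat.card s = r - 1 := by
        have h1' : Nat.card {v : Vs // v ≠ 1} = r - 1 := by
          rw [Nat.card_eq_fintype_card, Fintype.card_subtype_compl, Fintype.card_subtype_eq, hr, Nat.card_eq_fintype_card]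
        rw [← h1']
        refine Nat.card_congr (Equiv.ofBijective (fun a : s => (⟨⟨⟨up (a.1 : F), a.2⟩, hmemV.2 (up_mem _)⟩, fun e =>
          a.1.ne_zero (up_eq_one.1 (congrArg (fun z : Vs => ((z : H) : PL)) e))⟩ : {v : Vs // v ≠ 1})) ⟨?_, ?_⟩)
        · intro a b h
          exact Subtype.ext (Units.ext (up_injective (congrArg (fun z : {v : Vs // v ≠ 1} => ((z.1 : H) : PL)) h)))
        · rintro ⟨v, hv⟩
          obtain ⟨a, ha⟩ := hmemV.1 v.2
          have ha0 : a ≠ 0 := fun e => hv (Subtype.ext (Subtype.ext (by rw [← ha, e, up_zero]; rfl)))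
          exact ⟨⟨Units.mk0 a ha0, show up a ∈ H by rw [ha]; exact v.1.2⟩, Subtype.ext (Subtype.ext (Subtype.ext ha))⟩
      rw [hD, h2] at h1
      exact h1
    have hr3 : 3 ≤ r := by
      by_contra h
      have := Nat.le_of_dvd (by omega) hdvd
      omega
    obtain ⟨hS0, e0, he0, hi0⟩ := torus_class H hT0
    rw [hAd] at hS0 hi0
    rw [hg] at hi0
    generalize hi0' : ((Subgroup.normalizer (T0 : Set PL)).subgroupOf H).index = i0 at hS0 hi0
    obtain ⟨d', hd'⟩ : ∃ d', d = d' + 2 := ⟨d - 2, by omega⟩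
    rw [hd', show d' + 2 - 1 = d' + 1 by omega] at hS0
    have hi1 : i0 * e0 = n * r := Nat.eq_of_mul_eq_mul_right (show 0 < d by omega) (by rw [← hi0]; ring)
    rw [hd'] at hR
    set S0 := cls (T0.subgroupOf H) with hS0def
    have hnrd : n * r * (d' + 2) = n * r * (d' + 1) + n * r := by ring
    have hnr : n * r = n * (r' + 1) + n := by rw [hr']; ring
    have hnr3 : n * 3 ≤ n * r := Nat.mul_le_mul_left n hr3
    have hnrd2 : n * r * 2 ≤ n * r * (d' + 2) := Nat.mul_le_mul_left _ (by omega)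
    have hSle := Finset.card_le_card (hsR T0 hT0)
    by_cases hall : S0 = R
    · exfalso
      rw [← hall, hS0] at hR
      rcases he0 with rfl | rfl
      · rw [mul_one] at hi1; rw [hi1] at hR; omega
      · have : 2 * (i0 * (d' + 1)) = n * r * (d' + 1) := by rw [← hi1]; ring
        omega
    obtain ⟨y, hy, hy'⟩ := Finset.exists_of_ssubset ((hsR T0 hT0).ssubset_of_ne hall)
    obtain ⟨T, c, e, i, hT, hyT, hc, he, hci, hS, hcA, hiK⟩ := pick y hy
    have hq := quarter hc he hci hS
    rw [hg, hd'] at hq hci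
    have hdisj := disj hT0 hT hyT hy'
    have hsub := Finset.union_subset (hsR T0 hT0) (hsR T hT)
    have hSle2 := Finset.card_le_card hsub
    rw [Finset.card_union_of_disjoint hdisj, hS0] at hSle2
    rcases he0 with rfl | rfl
    · exfalso
      rw [mul_one] at hi1; rw [hi1] at hSle2
      omega
    have hi2 : 2 * (i0 * (d' + 1)) = n * r * (d' + 1) := by rw [← hi1]; ring
    have hall2 : S0 ∪ cls (T.subgroupOf H) = R := by
      by_contra hne2
      obtain ⟨y', hy1, hy2⟩ := Finset.exists_of_ssubset (hsub.ssubset_of_ne hne2)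
      obtain ⟨T', c', e', i', hT', hyT', hc', he', hci', hS', -, -⟩ := pick y' hy1
      have hq' := quarter hc' he' hci' hS'
      rw [hg, hd'] at hq'
      rw [Finset.mem_union, not_or] at hy2
      have := Finset.card_le_card (Finset.union_subset hsub (hsR T' hT'))
      rw [Finset.card_union_of_disjoint (Finset.disjoint_union_left.2
          ⟨disj hT0 hT' hyT' hy2.1, disj hT hT' hyT' hy2.2⟩), Finset.card_union_of_disjoint hdisj, hS0] at this
      omega
    rw [← hall2, Finset.card_union_of_disjoint hdisj, hS0, hS] at hR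
    obtain ⟨dc, rfl⟩ : ∃ dc, c = dc + 2 := ⟨c - 2, by omega⟩
    rw [show dc + 2 - 1 = dc + 1 by omega] at hR
    rcases he with rfl | rfl
    · exfalso
      have e1 : i * ((dc + 2) * 1) = i * (dc + 1) + i := by ring
      rw [e1] at hci
      have := Nat.mul_le_mul_left i (show 1 ≤ dc + 1 by omega)
      omega
    obtain ⟨q', hq''⟩ : ∃ q', r = q' + 3 := ⟨r - 3, by omega⟩
    have heq : (dc + 2) * (n * (q' + 1) + 2) = n * (q' + 3) * (d' + 2) := by
      have e1 : i * ((dc + 2) * 2) = 2 * (i * (dc + 1)) + 2 * i := by ring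
      have e2 : n * r = n * (q' + 1) + 2 * n := by rw [hq'']; ring
      have h2i : n * (q' + 1) + 2 = 2 * i := by omega
      rw [h2i, ← hq'', ← hci]; ring
    obtain ⟨m, hm⟩ := hdvd
    rcases CfsgLib.Dickson.classEq_arith q' k d' dc n m (by rw [← hq'']; exact hk) heq (by omega)
      (by rw [hd', hq''] at hm; rw [mul_assoc, ← hm]; omega) with rfl | ⟨rfl, rfl, rfl, rfl⟩
    · right; left
      show n = r + 1
      omega
    · right; right
      have h10 : n = 10 := by omega
      have hr3' : r = 3 := by omega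
      have h60 : Nat.card H = 60 := by rw [hg, h10, hr3', hd']
      rw [h10, hr3'] at hci hi1
      haveI := isSimple_of_cls (G := H) (A := Vs) (B := T0.subgroupOf H) (C := T.subgroupOf H) h60 hr3'
        (by rw [hAd, hd']) hcA.symm (by rw [hUncard, h10, hr3']) (by rw [hS0]; omega) (by rw [hS]; omega)
        (fun x hx => by
          by_cases hxu : x ∈ Un
          · exact Or.inl hxu
          · have : x ∈ R := Finset.mem_filter.2 ⟨Finset.mem_univ _, hx, hxu⟩
            rw [← hall2, Finset.mem_union] at this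
            exact Or.inr this)
      exact ⟨hr3', Cfsg.Agent.S0494.result h60⟩

end CfsgLib.SL2Dickson
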