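import Mathlib
import Cfsg.Agent.Lib.SL2.Borel
import Cfsg.Agent.Lib.Linear.Card

/-! Subfield subgroups of `PSL₂`. -/

set_option autoImplicit false
set_option linter.style.haveILetI false

namespace CfsgLib.SL2Dickson

open Matrix CfsgLib.SL2Torus
open CfsgLib.PSL2Klein (π π_surj π_eq π_eq_one)
open CfsgLib.PSL2Two (mul_entry ext2 entries)
open Classical

variable {F : Type*} [Field F] [Fintype F]

local notation "L" => Matrix.SpecialLinearGroup (Fin 2) F
local notation "PL" => Matrix.ProjectiveSpecialLinearGroup (Fin 2) F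
local notation "M2" => Matrix (Fin 2) (Fin 2) F

theorem map_entry {K : Type*} [Field K] (ι : K →+* F) (g : Matrix.SpecialLinearGroup (Fin 2) K) (i j : Fin 2) :
    (Matrix.SpecialLinearGroup.map ι g : L).1 i j = ι (g.1 i j) := rfl

/-- the image of `SL₂(K)` -/
def pslSub (K : Subfield F) : Subgroup PL :=
  ((π (F := F)).comp (Matrix.SpecialLinearGroup.map K.subtype)).range

/-- the projectively `K`-rational elements -/
def pglSub (K : Subfield F) : Subgroup PL where
  carrier := {x | ∃ g : L, π g = x ∧ ∃ s : F, s ≠ 0 ∧ ∀ i j, s * g.1 i j ∈ K}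
  one_mem' := ⟨1, map_one _, 1, one_ne_zero, fun i j => by
    rw [one_mul, Matrix.SpecialLinearGroup.coe_one, Matrix.one_apply]
    split <;> simp [K.one_mem, K.zero_mem]⟩
  mul_mem' := by
    rintro _ _ ⟨g, rfl, s, hs, hg⟩ ⟨h, rfl, t, ht, hh⟩
    refine ⟨g * h, map_mul _ _ _, s * t, mul_ne_zero hs ht, fun i j => ?_⟩
    rw [show s * t * (g * h).1 i j = s * g.1 i 0 * (t * h.1 0 j) + s * g.1 i 1 * (t * h.1 1 j) by
      rw [mul_entry]; ring]
    exact add_mem (mul_mem (hg _ _) (hh _ _)) (mul_mem (hg _ _) (hh _ _))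
  inv_mem' := by
    rintro _ ⟨g, rfl, s, hs, hg⟩
    refine ⟨g⁻¹, map_inv _ _, s, hs, fun i j => ?_⟩
    fin_cases i <;> fin_cases j
    · simpa [CfsgLib.PSL2Klein.inv00] using hg 1 1
    · simpa [CfsgLib.PSL2Klein.inv01] using neg_mem (hg 0 1)
    · simpa [CfsgLib.PSL2Klein.inv10] using neg_mem (hg 1 0)
    · simpa [CfsgLib.PSL2Klein.inv11] using hg 0 0

theorem pslSub_le_pglSub (K : Subfield F) : pslSub K ≤ pglSub K := by
  rintro _ ⟨g, rfl⟩
  exact ⟨_, rfl, 1, one_ne_zero, fun i j => by rw [one_mul, map_entry]; exact (g.1 i j).2⟩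

theorem pslSub_mono {K K' : Subfield F} (h : K ≤ K') : pslSub K ≤ pslSub K' := by
  rintro _ ⟨g, rfl⟩
  exact ⟨Matrix.SpecialLinearGroup.map (Subfield.inclusion h) g, congrArg π (ext2 rfl rfl rfl rfl)⟩

theorem pglSub_mono {K K' : Subfield F} (h : K ≤ K') : pglSub K ≤ pglSub K' := by
  rintro _ ⟨g, rfl, s, hs, hg⟩
  exact ⟨g, rfl, s, hs, fun i j => h (hg i j)⟩

theorem map_psl_ker {K : Type*} [Field K] (ι : K →+* F) :
    ((π (F := F)).comp (Matrix.SpecialLinearGroup.map (n := Fin 2) ι)).ker =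
      Subgroup.center (Matrix.SpecialLinearGroup (Fin 2) K) := by
  haveI : Fintype K := Fintype.ofInjective _ ι.injective
  ext g
  rw [MonoidHom.mem_ker, MonoidHom.comp_apply, π_eq_one]
  constructor
  · intro h
    have key : ∀ i j, g.1 i j = (1 : Matrix (Fin 2) (Fin 2) K) i j ∨ g.1 i j = -(1 : Matrix (Fin 2) (Fin 2) K) i j := by
      intro i j
      rcases h with h | h
      · refine Or.inl (ι.injective ?_)
        rw [← map_entry, h, Matrix.SpecialLinearGroup.coe_one, Matrix.one_apply, Matrix.one_apply]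
        split <;> simp
      · refine Or.inr (ι.injective ?_)
        rw [← map_entry, h, Matrix.SpecialLinearGroup.coe_neg, Matrix.neg_apply, Matrix.SpecialLinearGroup.coe_one,
          Matrix.one_apply, Matrix.one_apply]
        split <;> simp
    rcases h with h | h
    · have : g = 1 := ext2 (ι.injective (by rw [← map_entry, h]; simp)) (ι.injective (by rw [← map_entry, h]; simp))
        (ι.injective (by rw [← map_entry, h]; simp)) (ι.injective (by rw [← map_entry, h]; simp))
      rw [this]; exact one_mem _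
    · have : g = -1 := ext2 (ι.injective (by rw [← map_entry, h]; simp)) (ι.injective (by rw [← map_entry, h]; simp))
        (ι.injective (by rw [← map_entry, h]; simp)) (ι.injective (by rw [← map_entry, h]; simp))
      rw [this, Subgroup.mem_center_iff]
      intro x; rw [mul_neg_one, neg_one_mul]
  · intro hg
    obtain ⟨c, hc, hc'⟩ := Matrix.SpecialLinearGroup.mem_center_iff.1 hg
    have hc2 : c * c = 1 := by simpa [sq] using hc
    have e : ∀ i j, g.1 i j = if i = j then c else 0 := fun i j => by rw [← hc']; simp [Matrix.diagonal_apply]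
    rcases mul_self_eq_one_iff.1 hc2 with rfl | rfl
    · left; refine ext2 ?_ ?_ ?_ ?_ <;> simp [map_entry, e]
    · right; refine ext2 ?_ ?_ ?_ ?_ <;> simp [map_entry, e]

/-- `PSL₂(K')` for any field isomorphic to `K` -/
theorem pslSub_equiv {K : Subfield F} {K' : Type*} [Field K'] (e : K' ≃+* K) :
    Nonempty (pslSub K ≃* Matrix.ProjectiveSpecialLinearGroup (Fin 2) K') := by
  let f : Matrix.SpecialLinearGroup (Fin 2) K' →* PL :=
    (π (F := F)).comp (Matrix.SpecialLinearGroup.map (K.subtype.comp e.toRingHom))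
  have hrange : f.range = pslSub K := by
    ext x
    constructor
    · rintro ⟨g, rfl⟩
      exact ⟨Matrix.SpecialLinearGroup.map e.toRingHom g, congrArg π (ext2 rfl rfl rfl rfl)⟩
    · rintro ⟨g, rfl⟩
      refine ⟨Matrix.SpecialLinearGroup.map e.symm.toRingHom g, congrArg π (ext2 ?_ ?_ ?_ ?_)⟩ <;>
      · simp only [map_entry]
        exact congrArg Subtype.val (e.apply_symm_apply _)
  exact ⟨((MulEquiv.subgroupCongr hrange).symm.trans (QuotientGroup.quotientKerEquivRange f).symm).trans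
    (QuotientGroup.quotientMulEquivOfEq (map_psl_ker _))⟩

theorem card_pslSub (K : Subfield F) :
    Nat.gcd 2 (Nat.card K - 1) * Nat.card (pslSub K) = Nat.card K * (Nat.card K ^ 2 - 1) := by
  obtain ⟨e⟩ := pslSub_equiv (RingEquiv.refl K)
  rw [Nat.card_congr e.toEquiv, Nat.card_eq_fintype_card (α := K), card_PL_mul, card_L_eq]

theorem det_rat_ne {K : Subfield F} {M : Matrix (Fin 2) (Fin 2) K} (g : L) {s : F} (hs : s ≠ 0)
    (hM : ∀ i j, ((M i j : K) : F) = s * g.1 i j) : M.det ≠ 0 := by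
  intro h
  have h0 : ((M.det : K) : F) = 0 := by rw [h]; rfl
  rw [Matrix.det_fin_two] at h0
  push_cast at h0
  rw [hM, hM, hM, hM] at h0
  exact hs (mul_self_eq_zero.1 (by linear_combination h0 - s * s * entries g))

theorem mul_scalar_entry {K : Type*} [Field K] (M : GL (Fin 2) K) (c : Kˣ) (i j : Fin 2) :
    (M * Matrix.GeneralLinearGroup.scalar (Fin 2) c).1 i j = M.1 i j * (c : K) := by
  rw [Units.val_mul]
  show ((M.1 : Matrix (Fin 2) (Fin 2) K) * (Matrix.diagonal (fun _ => (c : K)) : Matrix (Fin 2) (Fin 2) K)) i j = _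
  rw [Matrix.mul_diagonal]

/-- a rational representative -/
noncomputable def repr (K : Subfield F) (x : pglSub K) : GL (Fin 2) K :=
  Matrix.GeneralLinearGroup.mkOfDetNeZero
    (fun i j => (⟨x.2.choose_spec.2.choose * x.2.choose.1 i j, x.2.choose_spec.2.choose_spec.2 i j⟩ : K))
    (det_rat_ne x.2.choose x.2.choose_spec.2.choose_spec.1 (fun _ _ => rfl))

theorem repr_spec (K : Subfield F) (x : pglSub K) :
    ∃ g : L, π g = (x : PL) ∧ ∃ s : F, s ≠ 0 ∧ ∀ i j, (((repr K x).1 i j : K) : F) = s * g.1 i j :=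
  ⟨_, x.2.choose_spec.1, _, x.2.choose_spec.2.choose_spec.1, fun _ _ => rfl⟩

theorem mk_eq_of_smul {K : Subfield F} {M N : GL (Fin 2) K} {c : F} (hc : c ≠ 0)
    (h : ∀ i j, ((N.1 i j : K) : F) = c * ((M.1 i j : K) : F)) :
    Matrix.ProjGenLinGroup.mk M = Matrix.ProjGenLinGroup.mk N := by
  obtain ⟨i, j, hij⟩ : ∃ i j, ((M.1 i j : K) : F) ≠ 0 := by
    by_contra h0
    push Not at h0
    have : M.1.det = 0 := by
      have e : M.1 = 0 := by ext i j; simpa using h0 i j
      rw [e]; simp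
    exact (Matrix.GeneralLinearGroup.det M).ne_zero this
  have hcK : c ∈ K := by
    rw [show c = ((N.1 i j : K) : F) / ((M.1 i j : K) : F) by rw [h]; field_simp]
    exact div_mem (N.1 i j).2 (M.1 i j).2
  refine Matrix.ProjGenLinGroup.mk_eq_mk_iff.2 ⟨Units.mk0 ⟨c, hcK⟩ (fun e => hc (congrArg Subtype.val e)), ?_⟩
  apply Units.ext
  apply Matrix.ext
  intro k l
  apply Subtype.ext
  rw [h, mul_scalar_entry]
  simp [mul_comm]

/-- the map to `PGL₂(K)` -/
noncomputable def toPGL (K : Subfield F) : pglSub K →* Matrix.ProjGenLinGroup (Fin 2) K :=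
  MonoidHom.mk' (fun x => Matrix.ProjGenLinGroup.mk (repr K x)) (fun x y => by
    rw [← map_mul]
    obtain ⟨g, hg, s, hs, hgs⟩ := repr_spec K x
    obtain ⟨h, hh, t, ht, hht⟩ := repr_spec K y
    obtain ⟨k, hk, v, hv, hkv⟩ := repr_spec K (x * y)
    have e : π k = π (g * h) := by rw [map_mul, hg, hh, hk]; rfl
    obtain ⟨σ, hσ, hσ'⟩ : ∃ σ : F, σ ≠ 0 ∧ ∀ i j, (g * h).1 i j = σ * k.1 i j := by
      rcases (π_eq _ _).1 e.symm with e | e
      · exact ⟨1, one_ne_zero, fun i j => by rw [e, one_mul]⟩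
      · exact ⟨-1, neg_ne_zero.2 one_ne_zero, fun i j => by rw [e]; simp⟩
    refine mk_eq_of_smul (c := s * t * σ / v) (by positivity) (fun i j => ?_)
    have := hσ' i j
    rw [mul_entry] at this
    rw [Units.val_mul, Matrix.mul_apply, Fin.sum_univ_two]
    push_cast
    rw [hgs, hgs, hht, hht, hkv]
    field_simp
    linear_combination this)

theorem toPGL_injective (K : Subfield F) : Function.Injective (toPGL K) := by
  intro x y e
  obtain ⟨g, hg, s, hs, hgs⟩ := repr_spec K x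
  obtain ⟨h, hh, t, ht, hht⟩ := repr_spec K y
  obtain ⟨c, hc⟩ := Matrix.ProjGenLinGroup.mk_eq_mk_iff.1 e
  apply Subtype.ext
  rw [← hg, ← hh, π_eq]
  have hc' : ∀ i j, t * h.1 i j = ((c : K) : F) * (s * g.1 i j) := fun i j => by
    rw [← hht, ← hgs, ← hc, mul_scalar_entry]
    push_cast; ring
  set m : F := ((c : K) : F) * s / t with hm
  have h' : ∀ i j, h.1 i j = m * g.1 i j := fun i j => by
    rw [hm]; field_simp; linear_combination hc' i j
  have hm1 : m * m = 1 := by
    have e1 := entries h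
    rw [h', h', h', h'] at e1
    linear_combination e1 - m * m * entries g
  rcases mul_self_eq_one_iff.1 hm1 with e1 | e1
  · left; refine ext2 ?_ ?_ ?_ ?_ <;> rw [h', e1, one_mul]
  · right
    refine ext2 ?_ ?_ ?_ ?_ <;> rw [Matrix.SpecialLinearGroup.coe_neg, Matrix.neg_apply, h', e1] <;> ring

theorem card_pglSub_dvd (K : Subfield F) : Nat.card (pglSub K) ∣ Nat.card K * (Nat.card K ^ 2 - 1) := by
  have h := Subgroup.card_dvd_of_injective _ (toPGL_injective K)
  rwa [CfsgLib.Linear.Card.card_PGL, card_L_eq, ← Nat.card_eq_fintype_card] at h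

theorem pglSub_full {K : Subfield F} (h : Nat.card (pglSub K) = Nat.card K * (Nat.card K ^ 2 - 1)) :
    Function.Bijective (toPGL K) ∧ ∀ k ∈ K, IsSquare k := by
  have hbij : Function.Bijective (toPGL K) := by
    haveI : Finite (Matrix.ProjGenLinGroup (Fin 2) K) := Finite.of_surjective _ Matrix.ProjGenLinGroup.mk_surjective
    refine (toPGL_injective K).bijective_of_nat_card_le ?_
    rw [CfsgLib.Linear.Card.card_PGL, card_L_eq, h, ← Nat.card_eq_fintype_card]
  refine ⟨hbij, fun k hk => ?_⟩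
  by_cases hk0 : k = 0
  · exact ⟨0, by rw [hk0, mul_zero]⟩
  have hkK : (⟨k, hk⟩ : K) ≠ 0 := fun e => hk0 (congrArg Subtype.val e)
  obtain ⟨x, hx⟩ := hbij.2 (Matrix.ProjGenLinGroup.mk (Matrix.GeneralLinearGroup.mkOfDetNeZero
    !![(⟨k, hk⟩ : K), 0; 0, 1] (by simpa [Matrix.det_fin_two] using hkK)))
  obtain ⟨g, hg, s, hs, hgs⟩ := repr_spec K x
  obtain ⟨c, hc⟩ := Matrix.ProjGenLinGroup.mk_eq_mk_iff.1 hx
  have hc' : ∀ i j, ((!![(⟨k, hk⟩ : K), 0; 0, 1] i j : K) : F) = ((c : K) : F) * (s * g.1 i j) := fun i j => by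
    rw [← hgs]
    have := congrArg (fun z : GL (Fin 2) K => ((z.1 i j : K) : F)) hc
    simp only [mul_scalar_entry] at this
    push_cast at this
    rw [mul_comm]
    exact this.symm
  refine ⟨((c : K) : F) * s, ?_⟩
  have h00 : k = ((c : K) : F) * (s * g.1 0 0) := by simpa using hc' 0 0
  have h11 : (1 : F) = ((c : K) : F) * (s * g.1 1 1) := by simpa using hc' 1 1
  have h01 : (0 : F) = ((c : K) : F) * (s * g.1 0 1) := by simpa using hc' 0 1
  linear_combination h00 + ((c : K) : F) * (s * g.1 0 0) * h11 + (((c : K) : F) * s) * (((c : K) : F) * s) * entries g -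
    ((c : K) : F) * s * g.1 1 0 * h01

theorem pglSub_equiv {K : Subfield F} (h : Nat.card (pglSub K) = Nat.card K * (Nat.card K ^ 2 - 1))
    {K' : Type*} [Field K'] (e : K' ≃+* K) : Nonempty (pglSub K ≃* Matrix.ProjGenLinGroup (Fin 2) K') := by
  haveI : Fintype K' := Fintype.ofEquiv K e.symm.toEquiv
  let f : GL (Fin 2) K →* GL (Fin 2) K' := Matrix.GeneralLinearGroup.map e.symm.toRingHom
  have h1 : Function.Bijective (Matrix.ProjGenLinGroup.map (n := Fin 2) e.symm.toRingHom) := by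
    constructor
    · intro a b hab
      obtain ⟨a, rfl⟩ := Matrix.ProjGenLinGroup.mk_surjective a
      obtain ⟨b, rfl⟩ := Matrix.ProjGenLinGroup.mk_surjective b
      obtain ⟨c, hc⟩ := Matrix.ProjGenLinGroup.mk_eq_mk_iff.1 hab
      refine Matrix.ProjGenLinGroup.mk_eq_mk_iff.2 ⟨Units.map e.toRingHom.toMonoidHom c, ?_⟩
      apply Units.ext
      ext i j : 1
      have := congrArg (fun z : GL (Fin 2) K' => e (z.1 i j)) hc
      simp only [mul_scalar_entry] at this ⊢
      simpa using this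
    · intro b
      obtain ⟨b, rfl⟩ := Matrix.ProjGenLinGroup.mk_surjective b
      refine ⟨Matrix.ProjGenLinGroup.mk (Matrix.GeneralLinearGroup.map e.toRingHom b), ?_⟩
      refine congrArg Matrix.ProjGenLinGroup.mk (Units.ext ?_)
      ext i j : 1
      simp
  exact ⟨(MulEquiv.ofBijective _ (pglSub_full h).1).trans (MulEquiv.ofBijective _ h1)⟩

/-! ### the diagonal automorphisms -/

/-- conjugation of `SL₂` by `diag(c,1)` -/
def scaleFun (c : Fˣ) (g : L) : L :=
  ⟨!![g.1 0 0, (c : F) * g.1 0 1; ((c⁻¹ : Fˣ) : F) * g.1 1 0, g.1 1 1], by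
    rw [Matrix.det_fin_two_of, show (c : F) * g.1 0 1 * (((c⁻¹ : Fˣ) : F) * g.1 1 0) =
      ((c : F) * ((c⁻¹ : Fˣ) : F)) * (g.1 0 1 * g.1 1 0) by ring, Units.mul_inv, one_mul]
    exact entries g⟩

theorem scaleFun00 (c : Fˣ) (g : L) : (scaleFun c g).1 0 0 = g.1 0 0 := rfl
theorem scaleFun01 (c : Fˣ) (g : L) : (scaleFun c g).1 0 1 = (c : F) * g.1 0 1 := rfl
theorem scaleFun10 (c : Fˣ) (g : L) : (scaleFun c g).1 1 0 = ((c⁻¹ : Fˣ) : F) * g.1 1 0 := rfl
theorem scaleFun11 (c : Fˣ) (g : L) : (scaleFun c g).1 1 1 = g.1 1 1 := rfl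

/-- conjugation of `SL₂` by `diag(c,1)`, as an automorphism -/
def scaleL (c : Fˣ) : L ≃* L where
  toFun := scaleFun c
  invFun := scaleFun c⁻¹
  left_inv g := by
    refine ext2 ?_ ?_ ?_ ?_ <;> simp only [scaleFun00, scaleFun01, scaleFun10, scaleFun11, inv_inv, Units.inv_mul_cancel_left, Units.mul_inv_cancel_left]
  right_inv g := by
    refine ext2 ?_ ?_ ?_ ?_ <;> simp only [scaleFun00, scaleFun01, scaleFun10, scaleFun11, inv_inv, Units.inv_mul_cancel_left, Units.mul_inv_cancel_left]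
  map_mul' g h := by
    have hc : ((c : F)) * ((c⁻¹ : Fˣ) : F) = 1 := c.mul_inv
    refine ext2 ?_ ?_ ?_ ?_ <;> simp only [mul_entry, scaleFun00, scaleFun01, scaleFun10, scaleFun11]
    · linear_combination (-(g.1 0 1 * h.1 1 0)) * hc
    · ring
    · ring
    · linear_combination (-(g.1 1 0 * h.1 0 1)) * hc

/-- the induced automorphism of `PSL₂` -/
def scale (c : Fˣ) : PL ≃* PL :=
  QuotientGroup.congr _ _ (scaleL c) (Subgroup.characteristic_iff_map_eq.1 inferInstance (scaleL c))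

theorem scale_π (c : Fˣ) (g : L) : scale c (π g) = π (scaleL c g) := rfl

theorem scale_up (c : Fˣ) (b : F) : scale c (up b : PL) = up ((c : F) * b) := by
  rw [up, up, scale_π]
  exact congrArg π (ext2 (by simp [scaleL, scaleFun00, u00]) (by simp [scaleL, scaleFun01, u01]) (by simp [scaleL, scaleFun10, u10]) (by simp [scaleL, scaleFun11, u11]))

theorem scale_mem_Bor (c : Fˣ) {x : PL} : scale c x ∈ Bor F ↔ x ∈ Bor F := by
  obtain ⟨g, rfl⟩ := π_surj x
  rw [scale_π, mem_Bor, mem_Bor]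
  simp [scaleL, scaleFun10]

end CfsgLib.SL2Dickson
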