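import Mathlib
import Cfsg.Agent.Lib.SL2.DicksonCount
import Cfsg.Agent.Lib.SL2.SubfieldGroup

/-! The case `n = r + 1` of Dickson's theorem: the subgroup is defined over a subfield. -/

set_option autoImplicit false
set_option linter.style.haveILetI false

namespace CfsgLib.SL2Dickson

open Matrix CfsgLib.SL2Torus CfsgLib.TICount
open CfsgLib.PSL2Klein (π π_surj π_eq π_eq_one)
open CfsgLib.PSL2Two (mul_entry ext2 entries)
open Classical

variable {F : Type*} [Field F] [Fintype F]

local notation "L" => Matrix.SpecialLinearGroup (Fin 2) F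
local notation "PL" => Matrix.ProjectiveSpecialLinearGroup (Fin 2) F
local notation "M2" => Matrix (Fin 2) (Fin 2) F

/-- an additive subgroup containing `1` and closed under inverses is a subfield -/
theorem hua (A : AddSubgroup F) (h1 : (1 : F) ∈ A) (hinv : ∀ a ∈ A, a⁻¹ ∈ A) :
    ∃ K : Subfield F, ∀ x, x ∈ K ↔ x ∈ A := by
  have hsq : ∀ a ∈ A, ∀ b ∈ A, a * a * b ∈ A := by
    intro a ha b hb
    by_cases ha0 : a = 0
    · rw [ha0]; simpa using A.zero_mem
    by_cases hb0 : b = 0
    · rw [hb0]; simpa using A.zero_mem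
    by_cases hab : a * b = 1
    · rw [mul_assoc, hab, mul_one]; exact ha
    · have hne : 1 - b * a ≠ 0 := fun e => hab (by linear_combination -e)
      have hne2 : b⁻¹ - a ≠ 0 := by
        intro e
        have e2 : b * (b⁻¹ - a) = 0 := by rw [e, mul_zero]
        rw [mul_sub, mul_inv_cancel₀ hb0] at e2
        exact hne e2
      have hm := A.sub_mem ha (hinv _ (A.add_mem (hinv a ha) (hinv _ (A.sub_mem (hinv b hb) ha))))
      have e : a - (a⁻¹ + (b⁻¹ - a)⁻¹)⁻¹ = a * a * b := by
        have hs : (a⁻¹ + (b⁻¹ - a)⁻¹) * (a - a * a * b) = 1 := by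
          field_simp
          ring
        rw [inv_eq_of_mul_eq_one_right hs]; ring
      rwa [e] at hm
  have hsq1 : ∀ a ∈ A, a * a ∈ A := fun a ha => by simpa using hsq a ha 1 h1
  have hmul : ∀ a ∈ A, ∀ b ∈ A, a * b ∈ A := by
    intro a ha b hb
    by_cases h2 : (2 : F) = 0
    · obtain ⟨c, hc⟩ := (Finite.injective_iff_surjective (f := fun x : A => (⟨x.1 * x.1, hsq1 _ x.2⟩ : A))).1
        (fun x y hxy => Subtype.ext (by
          have e : x.1 * x.1 = y.1 * y.1 := congrArg Subtype.val hxy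
          rcases mul_self_eq_mul_self_iff.1 e with e | e
          · exact e
          · linear_combination e - y.1 * h2)) ⟨a, ha⟩
      have hc' : c.1 * c.1 = a := congrArg Subtype.val hc
      rw [← hc']
      exact hsq c.1 c.2 b hb
    · have hab2 : 2 * (a * b) ∈ A := by
        have := A.sub_mem (A.sub_mem (hsq1 _ (A.add_mem ha hb)) (hsq1 _ ha)) (hsq1 _ hb)
        rwa [show (a + b) * (a + b) - a * a - b * b = 2 * (a * b) by ring] at this
      obtain ⟨f, hp, hcard⟩ := FiniteField.card F (ringChar F)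
      haveI := Fact.mk hp
      have hodd : ringChar F % 2 = 1 := by
        rcases hp.eq_two_or_odd with h | h
        · exact absurd (by simpa [h] using (CharP.cast_eq_zero F (ringChar F))) h2
        · exact h
      have := A.nsmul_mem hab2 ((ringChar F + 1) / 2)
      rwa [nsmul_eq_mul, ← mul_assoc, show (((ringChar F + 1) / 2 : ℕ) : F) * 2 = 1 by
        rw [show (2 : F) = ((2 : ℕ) : F) by norm_num, ← Nat.cast_mul, Nat.div_mul_cancel (by omega), Nat.cast_add,
          CharP.cast_eq_zero, zero_add, Nat.cast_one], one_mul] at this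
  refine ⟨{ carrier := A
            mul_mem' := fun {a b} ha hb => hmul a ha b hb
            one_mem' := h1
            add_mem' := fun {a b} ha hb => A.add_mem ha hb
            zero_mem' := A.zero_mem
            neg_mem' := fun {a} ha => A.neg_mem ha
            inv_mem' := hinv }, fun x => Iff.rfl⟩

/-- the conjugate of `up a` by an element with vanishing first entry -/
theorem conj_up_lo {g : L} (h : g.1 0 0 = 0) (a : F) :
    π g * up a * (π g)⁻¹ = lo (-(g.1 1 0 * g.1 1 0 * a)) := by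
  rw [mul_inv_eq_iff_eq_mul, up, lo, ← map_mul, ← map_mul]
  congr 1
  have e := entries g
  refine ext2 ?_ ?_ ?_ ?_ <;> simp only [mul_entry, u00, u01, u10, u11, l00, l01, l10, l11, h] <;> try ring
  rw [h] at e
  linear_combination -g.1 1 0 * a * e

theorem sl2_mem_of {K : Subfield F} {H : Subgroup PL} (hu : ∀ a ∈ K, (up a : PL) ∈ H)
    (hl : ∀ a ∈ K, (lo a : PL) ∈ H) : pslSub K ≤ H := by
  rintro _ ⟨g, rfl⟩
  have key : ∀ g : Matrix.SpecialLinearGroup (Fin 2) K, g.1 1 0 ≠ 0 →
      π (Matrix.SpecialLinearGroup.map K.subtype g) ∈ H := by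
    intro g hc
    set c : F := ((g.1 1 0 : K) : F) with hcdef
    have hc0 : c ≠ 0 := fun e => hc (Subtype.ext e)
    set a : F := ((g.1 0 0 : K) : F) with hadef
    set d : F := ((g.1 1 1 : K) : F) with hddef
    have hs : (a - 1) / c ∈ K := div_mem (sub_mem (g.1 0 0).2 K.one_mem) (g.1 1 0).2
    have ht : (d - 1) / c ∈ K := div_mem (sub_mem (g.1 1 1).2 K.one_mem) (g.1 1 0).2
    have e : (Matrix.SpecialLinearGroup.map K.subtype g : L) = u ((a - 1) / c) * l c * u ((d - 1) / c) := by
      have hdet := entries (Matrix.SpecialLinearGroup.map K.subtype g : L)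
      simp only [map_entry, Subfield.coe_subtype] at hdet
      refine ext2 ?_ ?_ ?_ ?_ <;>
        simp only [mul_entry, u00, u01, u10, u11, l00, l01, l10, l11, map_entry, Subfield.coe_subtype] <;>
        field_simp
      · ring
      · linear_combination -hdet
      · ring
      · ring
    rw [e, map_mul, map_mul]
    exact H.mul_mem (H.mul_mem (hu _ hs) (hl _ (g.1 1 0).2)) (hu _ ht)
  show π (Matrix.SpecialLinearGroup.map K.subtype g) ∈ H
  by_cases hc : g.1 1 0 = 0
  · have hd : g.1 1 1 ≠ 0 := by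
      intro hd
      have := g.2
      rw [Matrix.det_fin_two, hc, hd] at this
      simp at this
    let l1 : Matrix.SpecialLinearGroup (Fin 2) K := ⟨!![1, 0; 1, 1], by simp [Matrix.det_fin_two]⟩
    have h1 := key (g * l1) (by
      rw [Matrix.SpecialLinearGroup.coe_mul, Matrix.mul_apply, Fin.sum_univ_two]
      simpa [l1, hc] using hd)
    rw [map_mul, map_mul] at h1
    have h2 : π (Matrix.SpecialLinearGroup.map K.subtype l1) ∈ H := by
      rw [show (Matrix.SpecialLinearGroup.map K.subtype l1 : L) = l 1 from ext2 (by rw [map_entry, l00]; rfl)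
        (by rw [map_entry, l01]; rfl) (by rw [map_entry, l10]; rfl) (by rw [map_entry, l11]; rfl)]
      exact hl 1 K.one_mem
    exact (H.mul_mem_cancel_right h2).1 h1
  · exact key g hc

variable (H : Subgroup (Matrix.ProjectiveSpecialLinearGroup (Fin 2) F))

/-- the field case -/
theorem field_case (h1 : (up (1 : F) : Matrix.ProjectiveSpecialLinearGroup (Fin 2) F) ∈ H)
    {g₀ : Matrix.SpecialLinearGroup (Fin 2) F} (hg₀ : π g₀ ∈ H) (h00 : g₀.1 0 0 = 0)
    (hn : ((Bor F).subgroupOf H).index = Nat.card ((U F).subgroupOf H) + 1) :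
    ∃ K : Subfield F, H = pslSub K ∨ (H = pglSub K ∧ Nat.card K % 2 = 1 ∧
      Nat.card (pglSub K) = Nat.card K * (Nat.card K ^ 2 - 1)) := by
  have h10 : g₀.1 1 0 ≠ 0 := fun e => by
    have := entries g₀
    rw [h00, e] at this; simp at this
  let A : AddSubgroup F :=
    { carrier := {a | (up a : PL) ∈ H}
      add_mem' := fun {a b} ha hb => by show up (a + b) ∈ H; rw [← up_add]; exact H.mul_mem ha hb
      zero_mem' := by show (up (0 : F) : PL) ∈ H; rw [up_zero]; exact H.one_mem
      neg_mem' := fun {a} ha => by show (up (-a) : PL) ∈ H; rw [← up_inv]; exact H.inv_mem ha }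
  have hA : ∀ {a : F}, a ∈ A ↔ (up a : PL) ∈ H := fun {a} => Iff.rfl
  set r := Nat.card ((U F).subgroupOf H) with hr
  have hrA : Nat.card A = r := by
    refine Nat.card_congr (Equiv.ofBijective (fun a : A => (⟨⟨up a.1, a.2⟩,
      Subgroup.mem_subgroupOf.2 (up_mem a.1)⟩ : (U F).subgroupOf H)) ⟨?_, ?_⟩)
    · intro a b h
      exact Subtype.ext (up_injective (congrArg (fun z : (U F).subgroupOf H => ((z : H) : PL)) h))
    · rintro ⟨⟨x, hx⟩, hxU⟩
      obtain ⟨a, ha⟩ := Subgroup.mem_subgroupOf.1 hxU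
      exact ⟨⟨a, hA.2 (ha ▸ hx)⟩, Subtype.ext (Subtype.ext ha)⟩
  set Bs := (Bor F).subgroupOf H with hBs
  -- the point of an element outside the Borel subgroup
  have hg₀B : π g₀ ∉ Bor F := fun h => h10 (mem_Bor.1 h)
  have hpt : ∀ g : L, π g ∈ H → g.1 1 0 ≠ 0 → g.1 0 0 / g.1 1 0 ∈ A := by
    intro g hg hg10
    let φ : A → {q : H ⧸ Bs // q ≠ ((1 : H) : H ⧸ Bs)} := fun a =>
      ⟨((⟨up a.1 * π g₀, H.mul_mem a.2 hg₀⟩ : H) : H ⧸ Bs), fun e => by
        have h2 := Subgroup.mem_subgroupOf.1 (QuotientGroup.eq.1 e.symm)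
        have h3 : up a.1 * π g₀ ∈ Bor F := by simpa using h2
        exact hg₀B (((Bor F).mul_mem_cancel_left (up_mem_Bor a.1)).1 h3)⟩
    have hφi : Function.Injective φ := by
      intro a b e
      have h2 := Subgroup.mem_subgroupOf.1 (QuotientGroup.eq.1 (congrArg Subtype.val e))
      have h3 : (π g₀)⁻¹ * up (-a.1 + b.1) * π g₀ ∈ Bor F := by
        rw [← up_add, ← up_inv]
        simpa [mul_assoc] using h2
      by_contra hne
      refine inv_sq_mem_Bor (π g₀) hg₀B (up_mem _) (fun e' => hne ?_) h3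
      exact Subtype.ext (by linear_combination -(up_eq_one.1 e'))
    have hφs : Function.Surjective φ := by
      refine (hφi.bijective_of_nat_card_le ?_).2
      rw [Nat.card_eq_fintype_card, Fintype.card_subtype_compl, Fintype.card_subtype_eq, hrA,
        ← Nat.card_eq_fintype_card, ← Subgroup.index_eq_card, hn]
      simp
    obtain ⟨a, ha⟩ := hφs ⟨((⟨π g, hg⟩ : H) : H ⧸ Bs), fun e => hg10 (by
      have h2 := Subgroup.mem_subgroupOf.1 (QuotientGroup.eq.1 e.symm)
      exact mem_Bor.1 (by simpa using h2))⟩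
    have h2 := Subgroup.mem_subgroupOf.1 (QuotientGroup.eq.1 (congrArg Subtype.val ha))
    obtain ⟨β, hβ, hβu⟩ := h2
    have hg' : π (u a.1 * g₀ * β) = π g := by
      rw [map_mul, map_mul, hβ]
      show up a.1 * π g₀ * ((up a.1 * π g₀)⁻¹ * π g) = π g
      group
    have e00 : (u a.1 * g₀ * β).1 0 0 = a.1 * g₀.1 1 0 * β.1 0 0 := by
      simp only [mul_entry, u00, u01, hβu, h00]; ring
    have e10 : (u a.1 * g₀ * β).1 1 0 = g₀.1 1 0 * β.1 0 0 := by
      simp only [mul_entry, u10, u11, hβu]; ring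
    have hb0 := mul_ne_zero h10 (ne_zero_of_upper hβu)
    have : g.1 0 0 / g.1 1 0 = a.1 := by
      rcases (π_eq _ _).1 hg' with e | e
      · rw [← e, e00, e10, div_eq_iff hb0]; ring
      · have : g = -(u a.1 * g₀ * β) := by rw [e, neg_neg]
        rw [this, Matrix.SpecialLinearGroup.coe_neg, Matrix.neg_apply, Matrix.neg_apply, e00, e10, neg_div_neg_eq,
          div_eq_iff hb0]
        ring
    rw [this]; exact a.2
  have hlo : ∀ c : F, (lo c : PL) ∈ H → c⁻¹ ∈ A := by
    intro c hc
    by_cases hc0 : c = 0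
    · rw [hc0, _root_.inv_zero]; exact A.zero_mem
    · have := hpt (l c) hc (by rw [l10]; exact hc0)
      rwa [l00, l10, one_div] at this
  have hconj : ∀ {g : L}, π g ∈ H → g.1 0 0 = 0 → ∀ a ∈ A, (lo (-(g.1 1 0 * g.1 1 0 * a)) : PL) ∈ H :=
    fun {g} hg h a ha => by rw [← conj_up_lo h]; exact H.mul_mem (H.mul_mem hg ha) (H.inv_mem hg)
  have hl1 : (lo (1 : F) : PL) ∈ H := by
    set c : F := -(g₀.1 1 0 * g₀.1 1 0) with hc
    have hc0 : c ≠ 0 := neg_ne_zero.2 (mul_ne_zero h10 h10)
    have h2 : c⁻¹ ∈ A := by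
      have := hlo _ (hconj hg₀ h00 1 (hA.2 h1))
      rwa [mul_one, ← hc] at this
    have h3 := hconj hg₀ h00 _ h2
    rwa [← neg_mul, ← hc, mul_inv_cancel₀ hc0] at h3
  set w : L := u 1 * l (-1) * u 1 with hw
  have hwH : π w ∈ H := by
    rw [hw, map_mul, map_mul]
    refine H.mul_mem (H.mul_mem h1 ?_) h1
    show lo (-1) ∈ H
    rw [← lo_inv]; exact H.inv_mem hl1
  have w00 : w.1 0 0 = 0 := by simp only [hw, mul_entry, u00, u01, u10, u11, l00, l01, l10, l11]; ring
  have w01 : w.1 0 1 = 1 := by simp only [hw, mul_entry, u00, u01, u10, u11, l00, l01, l10, l11]; ring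
  have w10 : w.1 1 0 = -1 := by simp only [hw, mul_entry, u00, u01, u10, u11, l00, l01, l10, l11]; ring
  have w11 : w.1 1 1 = 0 := by simp only [hw, mul_entry, u00, u01, u10, u11, l00, l01, l10, l11]; ring
  have hlA : ∀ a ∈ A, (lo a : PL) ∈ H := fun a ha => by
    have := hconj hwH w00 _ (A.neg_mem ha)
    rwa [w10, show -((-1 : F) * -1 * -a) = a by ring] at this
  obtain ⟨K, hK⟩ := hua A (hA.2 h1) (fun a ha => hlo a (hlA a ha))
  have hle : pslSub K ≤ H := sl2_mem_of (fun a ha => (hK a).1 ha) (fun a ha => hlA a ((hK a).1 ha))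
  have hKcard : Nat.card K = r := by rw [← hrA]; exact Nat.card_congr (Equiv.subtypeEquivRight hK)
  have hupK : ∀ a ∈ K, (up a : PL) ∈ pglSub K := fun a ha => ⟨u a, rfl, 1, one_ne_zero, fun i j => by
    rw [one_mul]; fin_cases i <;> fin_cases j
    · exact (u00 a).symm ▸ K.one_mem
    · exact (u01 a).symm ▸ ha
    · exact (u10 a).symm ▸ K.zero_mem
    · exact (u11 a).symm ▸ K.one_mem⟩
  have hwK : π w ∈ pglSub K := ⟨w, rfl, 1, one_ne_zero, fun i j => by
    rw [one_mul]; fin_cases i <;> fin_cases j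
    · exact w00.symm ▸ K.zero_mem
    · exact w01.symm ▸ K.one_mem
    · exact w10.symm ▸ neg_mem K.one_mem
    · exact w11.symm ▸ K.zero_mem⟩
  have hBor : ∀ x ∈ H, x ∈ Bor F → x ∈ pglSub K := by
    rintro _ hx ⟨g, rfl, hu⟩
    have ha := ne_zero_of_upper hu
    have e := sq_of_upper hu
    refine ⟨g, rfl, g.1 0 0, ha, fun i j => ?_⟩
    have k00 : g.1 0 0 * g.1 0 0 ∈ K := by
      refine (hK _).2 (hA.2 ?_)
      rw [← mul_one (g.1 0 0 * g.1 0 0), ← conj_up hu]
      exact H.mul_mem (H.mul_mem hx h1) (H.inv_mem hx)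
    have k01 : g.1 0 0 * g.1 0 1 ∈ K := by
      have hp := hpt (g * w) (by rw [map_mul]; exact H.mul_mem hx hwH) (by
        rw [mul_entry, w00, w10, hu]; simpa using (right_ne_zero_of_mul_eq_one e))
      simp only [mul_entry, w00, w10, hu] at hp
      refine (hK _).2 ?_
      convert hp using 1
      have h11 : g.1 1 1 = (g.1 0 0)⁻¹ := (eq_inv_of_mul_eq_one_right e)
      rw [h11]; field_simp; ring
    fin_cases i <;> fin_cases j
    · exact k00
    · exact k01
    · show g.1 0 0 * g.1 1 0 ∈ K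
      rw [hu, mul_zero]; exact K.zero_mem
    · show g.1 0 0 * g.1 1 1 ∈ K
      rw [e]; exact K.one_mem
  have hHpgl : H ≤ pglSub K := by
    intro x hx
    obtain ⟨g, rfl⟩ := π_surj x
    by_cases h : g.1 1 0 = 0
    · exact hBor _ hx (mem_Bor.2 h)
    · have hs := hpt g hx h
      set s := g.1 0 0 / g.1 1 0 with hsdef
      have hb : π (w⁻¹ * u (-s) * g) ∈ H := by
        rw [map_mul, map_mul, map_inv]
        exact H.mul_mem (H.mul_mem (H.inv_mem hwH) (hA.1 (A.neg_mem hs))) hx
      have hb' : π (w⁻¹ * u (-s) * g) ∈ Bor F := by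
        refine mem_Bor.2 ?_
        simp only [mul_entry, CfsgLib.PSL2Klein.inv10, CfsgLib.PSL2Klein.inv11, u00, u01, u10, u11, w00, w10, hsdef]
        field_simp; ring
      have := mul_mem (mul_mem (hupK s ((hK s).2 hs)) hwK) (hBor _ hb hb')
      rwa [up, ← map_mul, ← map_mul,
        show u s * w * (w⁻¹ * u (-s) * g) = (u s * u (-s)) * g by group, u_add, add_neg_cancel, u_zero, one_mul] at this
  refine ⟨K, ?_⟩
  have c1 := card_pslSub K
  have c2 := card_pglSub_dvd K
  have c3 := Subgroup.card_dvd_of_le hle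
  have c4 := Subgroup.card_dvd_of_le hHpgl
  set k := Nat.card K * (Nat.card K ^ 2 - 1) with hk
  have hk0 : 0 < k := by
    have : 2 ≤ Nat.card K := Finite.one_lt_card
    have h4 : 4 ≤ Nat.card K ^ 2 := by nlinarith
    exact Nat.mul_pos (by omega) (by omega)
  have hdvd : Nat.card H ∣ k := c4.trans c2
  obtain ⟨e, he⟩ := c3
  rcases Nat.le_one_iff_eq_zero_or_eq_one.1 (show Nat.gcd 2 (Nat.card K - 1) - 1 ≤ 1 by
      have := Nat.le_of_dvd two_pos (Nat.gcd_dvd_left 2 (Nat.card K - 1)); omega) with hg | hg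
  · left
    have hg1 : Nat.gcd 2 (Nat.card K - 1) = 1 := by
      have := Nat.gcd_pos_of_pos_left (Nat.card K - 1) two_pos; omega
    rw [hg1, one_mul] at c1
    exact (Subgroup.eq_of_le_of_card_ge hle (c1 ▸ Nat.le_of_dvd hk0 hdvd)).symm
  · have hg2 : Nat.gcd 2 (Nat.card K - 1) = 2 := by omega
    rw [hg2] at c1
    have hle2 := Nat.le_of_dvd hk0 hdvd
    have hpos : 0 < Nat.card (pslSub K) := Nat.card_pos
    have he2 : e ≤ 2 := by
      by_contra h
      have := Nat.mul_le_mul_left (Nat.card (pslSub K)) (show 3 ≤ e by omega)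
      omega
    have hHpos : 0 < Nat.card H := Nat.card_pos
    obtain rfl | rfl : e = 1 ∨ e = 2 := by
      rcases e with _ | _ | _ | e <;> simp at * <;> omega
    · left
      exact (Subgroup.eq_of_le_of_card_ge hle (by omega)).symm
    · right
      have hpk : Nat.card (pglSub K) = k := le_antisymm (Nat.le_of_dvd hk0 c2)
        (le_trans (by omega) (Nat.le_of_dvd Nat.card_pos c4))
      refine ⟨Subgroup.eq_of_le_of_card_ge hHpgl (by omega), ?_, hpk⟩
      have := Nat.gcd_dvd_right 2 (Nat.card K - 1)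
      rw [hg2] at this
      have : 2 ≤ Nat.card K := Finite.one_lt_card
      omega

end CfsgLib.SL2Dickson
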