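import Mathlib
import Cfsg.Agent.Lib.SL2.DicksonField

/-! Dickson's theorem on the subgroups of `PSL₂`. -/

set_option autoImplicit false
set_option linter.style.haveILetI false

namespace CfsgLib.SL2Dickson

open Matrix CfsgLib.SL2Torus
open CfsgLib.PSL2Klein (π π_surj π_eq π_eq_one)
open CfsgLib.PSL2Two (mul_entry ext2 entries)
open Classical

variable {F : Type*} [Field F] [Fintype F]

local notation "L" => Matrix.SpecialLinearGroup (Fin 2) F
local notation "PL" => Matrix.ProjectiveSpecialLinearGroup (Fin 2) F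
local notation "M2" => Matrix (Fin 2) (Fin 2) F

/-- cyclic in a torus -/
def CycCase (H : Subgroup PL) : Prop := IsCyclic H ∧ (H = ⊥ ∨ ∃ T : Subgroup PL, IsTorus T ∧ H ≤ T)

/-- dihedral in the normaliser of a torus -/
def DihCase (H : Subgroup PL) : Prop :=
  ∃ T : Subgroup PL, IsTorus T ∧ H ≤ Subgroup.normalizer (T : Set PL) ∧ ∃ n, n ∣ Nat.card T ∧ 2 ≤ n ∧ Nat.card H = 2 * n ∧
    Nonempty (H ≃* DihedralGroup n)

/-- in a conjugate of the Borel subgroup -/
def BorCase (H : Subgroup PL) : Prop :=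
  ∃ y : PL, H ≤ (Bor F).map (MulAut.conj y).toMonoidHom ∧ H ⊓ (U F).map (MulAut.conj y).toMonoidHom ≠ ⊥

/-- defined over a subfield -/
def FieldCase (H : Subgroup PL) : Prop :=
  ∃ (θ : PL ≃* PL) (K : Subfield F), H.map θ.toMonoidHom = pslSub K ∨
    (H.map θ.toMonoidHom = pglSub K ∧ Nat.card K % 2 = 1 ∧
      Nat.card (pglSub K) = Nat.card K * (Nat.card K ^ 2 - 1))

/-- defined over a subfield, up to an explicit diagonal and inner automorphism -/
def FieldCase' (H : Subgroup PL) : Prop :=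
  ∃ (z : PL) (c : Fˣ) (K : Subfield F), H.map ((MulAut.conj z).trans (scale c)).toMonoidHom = pslSub K ∨
    (H.map ((MulAut.conj z).trans (scale c)).toMonoidHom = pglSub K ∧ Nat.card K % 2 = 1 ∧
      Nat.card (pglSub K) = Nat.card K * (Nat.card K ^ 2 - 1))

theorem FieldCase'.weaken {H : Subgroup PL} (h : FieldCase' H) : FieldCase H :=
  let ⟨_, _, K, hK⟩ := h
  ⟨_, K, hK⟩

/-- `A₄`, of order prime to the characteristic -/
def A4Case (H : Subgroup PL) : Prop :=
  Nonempty (H ≃* alternatingGroup (Fin 4)) ∧ ∀ x ∈ H, x ≠ 1 → IsSemi x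

/-- `S₄`, of order prime to the characteristic -/
def S4Case (H : Subgroup PL) : Prop :=
  Nonempty (H ≃* Equiv.Perm (Fin 4)) ∧ ∀ x ∈ H, x ≠ 1 → IsSemi x

/-- `A₅`, of order prime to the characteristic or in characteristic three -/
def A5Case (H : Subgroup PL) : Prop :=
  Nonempty (H ≃* alternatingGroup (Fin 5)) ∧ ((∀ x ∈ H, x ≠ 1 → IsSemi x) ∨ ringChar F = 3)

theorem map_U_scale (c : Fˣ) : (U F).map (scale c).toMonoidHom = U F := by
  ext x
  constructor
  · rintro ⟨_, ⟨b, rfl⟩, rfl⟩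
    exact ⟨_, (scale_up c b).symm⟩
  · rintro ⟨b, rfl⟩
    exact ⟨up (((c⁻¹ : Fˣ) : F) * b), up_mem _, by
      show scale c _ = _
      rw [scale_up, Units.mul_inv_cancel_left]⟩

theorem map_Bor_scale (c : Fˣ) : (Bor F).map (scale c).toMonoidHom = Bor F := by
  ext x
  constructor
  · rintro ⟨y, hy, rfl⟩
    exact (scale_mem_Bor c).2 hy
  · intro hx
    obtain ⟨y, rfl⟩ := (scale c).surjective x
    exact ⟨y, (scale_mem_Bor c).1 hx, rfl⟩

theorem card_subgroupOf {G : Type*} [Group G] (A H : Subgroup G) :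
    Nat.card (A.subgroupOf H) = Nat.card ↥(A ⊓ H) := by
  rw [← Subgroup.inf_subgroupOf_right]
  exact Nat.card_congr (Subgroup.subgroupOfEquivOfLe inf_le_right).toEquiv

theorem dihedral_of_torus {H T : Subgroup PL} (hT : IsTorus T) (hle : H ≤ Subgroup.normalizer (T : Set PL)) {m : ℕ}
    (hm : 2 ≤ m) (hcard : Nat.card H = 2 * m) (hA : Nat.card (T.subgroupOf H) = m) :
    Nonempty (H ≃* DihedralGroup m) := by
  haveI := torus_cyclic hT
  haveI : IsCyclic (T.subgroupOf H) := isCyclic_of_injective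
    ((H.subtype.comp (T.subgroupOf H).subtype).codRestrict T fun y => y.2)
    (fun a b h => Subtype.ext (Subtype.ext (congrArg (fun z : T => z.1) h)))
  obtain ⟨r, hr⟩ := IsCyclic.exists_generator (α := T.subgroupOf H)
  have hor : orderOf (r : H) = m := by
    rw [Subgroup.orderOf_coe, orderOf_eq_card_of_forall_mem_zpowers hr, hA]
  obtain ⟨s, hs⟩ : ∃ s : H, (s : PL) ∉ T := by
    by_contra h
    push Not at h
    rw [Subgroup.subgroupOf_eq_top.2 fun x hx => h ⟨x, hx⟩, Subgroup.card_top, hcard] at hA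
    omega
  haveI : NeZero m := ⟨by omega⟩
  obtain ⟨h1, h2⟩ := torus_outside hT (hle s.2) hs
  refine CfsgLib.CyclicPartition.dihedral_iso hor (fun h => hs ?_) (Subtype.ext h1)
    (Subtype.ext (h2 _ (Subgroup.mem_subgroupOf.1 r.2))) hcard
  obtain ⟨i, hi⟩ := Subgroup.mem_zpowers_iff.1 h
  rw [← hi]
  exact Subgroup.mem_subgroupOf.1 ((T.subgroupOf H).zpow_mem r.2 i)

theorem torus_map_back {T : Subgroup PL} (hT : IsTorus T) {H : Subgroup PL} (y : PL)
    (h : H.map (MulAut.conj y).toMonoidHom ≤ Subgroup.normalizer (T : Set PL)) :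
    H ≤ Subgroup.normalizer ((T.map (MulAut.conj y⁻¹).toMonoidHom : Subgroup PL) : Set PL) := by
  intro x hx
  rw [← Subgroup.map_equiv_normalizer_eq]
  exact ⟨y * x * y⁻¹, h ⟨x, hx, rfl⟩, by simp [mul_assoc]⟩

/-- **Dickson's theorem.** -/
theorem dickson_gl (H : Subgroup PL) :
    CycCase H ∨ DihCase H ∨ A4Case H ∨ S4Case H ∨ A5Case H ∨ BorCase H ∨ FieldCase' H := by
  by_cases hs : ∀ x ∈ H, x ≠ 1 → IsSemi x
  · rcases coprime_subgroup H hs with h | h | h | h | h
    · exact Or.inl h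
    · exact Or.inr (Or.inl h)
    · exact Or.inr (Or.inr (Or.inl ⟨h, hs⟩))
    · exact Or.inr (Or.inr (Or.inr (Or.inl ⟨h, hs⟩)))
    · exact Or.inr (Or.inr (Or.inr (Or.inr (Or.inl ⟨h, Or.inl hs⟩))))
  push Not at hs
  obtain ⟨x, hxH, hx1, hxs⟩ := hs
  obtain ⟨y, hy⟩ := exists_conj_mem_U hx1 hxs
  by_cases hB : H ≤ (Bor F).map (MulAut.conj y).toMonoidHom
  · refine Or.inr (Or.inr (Or.inr (Or.inr (Or.inr (Or.inl ⟨y, hB, fun e => hx1 ?_⟩)))))
    rw [Subgroup.eq_bot_iff_forall] at e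
    exact e x ⟨hxH, _, hy, by simp [mul_assoc]⟩
  obtain ⟨h, hhH, hh⟩ := SetLike.not_le_iff_exists.1 hB
  have hh' : y⁻¹ * h * y ∉ Bor F := fun e => hh ⟨_, e, by simp [mul_assoc]⟩
  obtain ⟨g, hg⟩ := π_surj (y⁻¹ * h * y)
  have hg10 : g.1 1 0 ≠ 0 := fun e => hh' (hg ▸ mem_Bor.2 e)
  set z : PL := up (-(g.1 0 0 / g.1 1 0)) * y⁻¹ with hz
  set H2 := H.map (MulAut.conj z).toMonoidHom with hH2
  obtain ⟨a, ha⟩ := hy
  have hV : H2 ⊓ U F ≠ ⊥ := fun e => by
    rw [Subgroup.eq_bot_iff_forall] at e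
    have h1 : z * x * z⁻¹ = up a := by
      have hh : y⁻¹ * x * y = up a := ha.symm
      rw [hz, _root_.mul_inv_rev, inv_inv, up_inv, neg_neg]
      calc up (-(g.1 0 0 / g.1 1 0)) * y⁻¹ * x * (y * up (g.1 0 0 / g.1 1 0))
          = up (-(g.1 0 0 / g.1 1 0)) * (y⁻¹ * x * y) * up (g.1 0 0 / g.1 1 0) := by group
        _ = up a := by rw [hh, up_add, up_add]; congr 1; ring
    have := e (z * x * z⁻¹) ⟨⟨x, hxH, rfl⟩, h1 ▸ up_mem a⟩
    exact hx1 (conj_eq_one_iff.1 this)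
  set g₀ : L := u (-(g.1 0 0 / g.1 1 0)) * g * u (g.1 0 0 / g.1 1 0) with hg₀
  have hg₀H : π g₀ ∈ H2 := ⟨h, hhH, by
    show z * h * z⁻¹ = _
    rw [hz, hg₀, map_mul, map_mul, _root_.mul_inv_rev, inv_inv, hg, up, ← map_inv,
      show (u (-(g.1 0 0 / g.1 1 0)) : L)⁻¹ = u (g.1 0 0 / g.1 1 0) from inv_eq_of_mul_eq_one_right
        (by rw [u_add, neg_add_cancel, u_zero])]
    group⟩
  have h00 : g₀.1 0 0 = 0 := by
    simp only [hg₀, mul_entry, u00, u01, u10, u11]
    field_simp; ring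
  have hB2 : ¬ H2 ≤ Bor F := fun e => by
    have h2 := mem_Bor.1 (e hg₀H)
    have h3 := entries g₀
    rw [h00, h2] at h3
    simp at h3
  have eH : Nonempty (H ≃* H2) := ⟨H.equivMapOfInjective _ (MulAut.conj z).injective⟩
  obtain ⟨eH⟩ := eH
  rcases count H2 hV hB2 with ⟨-, T, m, hT, hle, hm, hmT, hcard, hA⟩ | hn | e
  · refine Or.inr (Or.inl ⟨T.map (MulAut.conj z⁻¹).toMonoidHom, torus_conj hT _, torus_map_back hT z hle, m, ?_, hm,
      (Nat.card_congr eH.toEquiv).trans hcard, ?_⟩)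
    · rwa [Subgroup.card_map_of_injective (MulAut.conj z⁻¹).injective]
    · obtain ⟨e⟩ := dihedral_of_torus hT hle hm hcard hA
      exact ⟨eH.trans e⟩
  · refine Or.inr (Or.inr (Or.inr (Or.inr (Or.inr (Or.inr ?_)))))
    obtain ⟨v, ⟨hvH, b, hb⟩, hv1⟩ := (H2 ⊓ U F).bot_or_exists_ne_one.resolve_left hV
    have hb0 : b ≠ 0 := fun e => hv1 (by rw [← hb, e, up_zero])
    set c : Fˣ := (Units.mk0 b hb0)⁻¹ with hc
    set H3 := H2.map (scale c).toMonoidHom with hH3
    have h1 : (up (1 : F) : PL) ∈ H3 := ⟨v, hvH, by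
      show scale c v = _
      rw [← hb, scale_up]
      congr 1
      simp [hc, inv_mul_cancel₀ hb0]⟩
    have hg3 : π (scaleL c g₀) ∈ H3 := ⟨π g₀, hg₀H, scale_π c g₀⟩
    have hi1 : ((Bor F).subgroupOf H3).index = ((Bor F).subgroupOf H2).index := by
      show (Bor F).relIndex H3 = (Bor F).relIndex H2
      conv_lhs => rw [← map_Bor_scale c]
      exact Subgroup.relIndex_map_map_of_injective _ _ (scale c).injective
    have hi2 : Nat.card ((U F).subgroupOf H3) = Nat.card ((U F).subgroupOf H2) := by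
      rw [card_subgroupOf, card_subgroupOf]
      conv_lhs => rw [← map_U_scale c]
      rw [hH3, ← Subgroup.map_inf (U F) H2 (scale c).toMonoidHom (scale c).injective]
      exact Subgroup.card_map_of_injective (scale c).injective
    obtain ⟨K, hK⟩ := field_case H3 h1 hg3 h00 (by rw [hi1, hi2, hn])
    refine ⟨z, c, K, ?_⟩
    have e3 : H.map ((MulAut.conj z).trans (scale c)).toMonoidHom = H3 := by
      rw [hH3, hH2, Subgroup.map_map]; rfl
    rwa [e3]
  · refine Or.inr (Or.inr (Or.inr (Or.inr (Or.inl ⟨e.2.map eH.trans, Or.inr ?_⟩))))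
    obtain ⟨f, hp, -⟩ := FiniteField.card F (ringChar F)
    haveI := Fact.mk hp
    obtain ⟨k, hk⟩ := IsPGroup.iff_card.1
      ((U_isPGroup (ringChar F) (F := F)).comap_of_injective H2.subtype H2.subtype_injective)
    change Nat.card ((U F).subgroupOf H2) = _ at hk
    rw [e.1] at hk
    exact ((Nat.prime_dvd_prime_iff_eq Nat.prime_three hp).1
      (Nat.prime_three.dvd_of_dvd_pow (dvd_of_eq hk))).symm

/-- Dickson's list -/
theorem dickson (H : Subgroup PL) :
    CycCase H ∨ DihCase H ∨ A4Case H ∨ S4Case H ∨ A5Case H ∨ BorCase H ∨ FieldCase H :=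
  (dickson_gl H).imp_right <| .imp_right <| .imp_right <| .imp_right <| .imp_right <| .imp_right FieldCase'.weaken

end CfsgLib.SL2Dickson
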