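import Mathlib
import Cfsg.Agent.Lib.SL2.Dickson

/-! Auxiliary facts for applying Dickson's theorem. -/

set_option autoImplicit false
set_option linter.style.haveILetI false

namespace CfsgLib.SL2Dickson

open Matrix CfsgLib.SL2Torus
open CfsgLib.PSL2Klein (π π_surj π_eq π_eq_one)
open CfsgLib.PSL2Two (mul_entry ext2 entries)
open Classical

open scoped Pointwise

variable {F : Type*} [Field F] [Fintype F]

local notation "L" => Matrix.SpecialLinearGroup (Fin 2) F
local notation "PL" => Matrix.ProjectiveSpecialLinearGroup (Fin 2) F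

theorem exists_type0 (K : Subfield F) :
    ∃ (K' : Type) (_ : Field K') (_ : Fintype K'), Fintype.card K' = Nat.card K ∧ Nonempty (K' ≃+* K) := by
  haveI := ringChar.charP K
  obtain ⟨n, hp, hc⟩ := FiniteField.card K (ringChar K)
  haveI := Fact.mk hp
  letI := Fintype.ofFinite (GaloisField (ringChar K) n)
  have e1 : Fintype.card (GaloisField (ringChar K) n) = Fintype.card K := by
    rw [← Nat.card_eq_fintype_card, GaloisField.card _ _ n.ne_zero, hc]
  exact ⟨GaloisField (ringChar K) n, inferInstance, inferInstance, by rw [e1, Nat.card_eq_fintype_card],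
    ⟨FiniteField.ringEquivOfCardEq e1⟩⟩

theorem exists_pow_card (K : Subfield F) : ∃ m, 1 ≤ m ∧ Nat.card K ^ m = Fintype.card F := by
  refine ⟨Module.finrank K F, Module.finrank_pos, ?_⟩
  rw [Module.card_eq_pow_finrank (K := K) (V := F), Nat.card_eq_fintype_card]

theorem gcd_pos : 0 < Nat.gcd 2 (Fintype.card F - 1) := Nat.gcd_pos_of_pos_left _ two_pos

variable (F) in
theorem gcd_mul_card : Nat.gcd 2 (Fintype.card F - 1) * Nat.card (Matrix.ProjectiveSpecialLinearGroup (Fin 2) F) =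
    Fintype.card F * (Fintype.card F ^ 2 - 1) := by
  rw [card_PL_mul, card_L_eq]

theorem U_index : Nat.gcd 2 (Fintype.card F - 1) * (U F).index = Fintype.card F ^ 2 - 1 := by
  refine Nat.eq_of_mul_eq_mul_left (Fintype.card_pos (α := F)) ?_
  rw [← gcd_mul_card F, ← (U F).index_mul_card, card_U]
  ring

theorem not_dvd_U_index (p : ℕ) [hp : Fact p.Prime] [CharP F p] : ¬ p ∣ (U F).index := by
  intro h
  obtain ⟨n, hn, hcard⟩ := FiniteField.card F p
  have hq : p ∣ Fintype.card F ^ 2 := dvd_pow (hcard ▸ dvd_pow_self p n.ne_zero) two_ne_zero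
  have h2 : p ∣ Fintype.card F ^ 2 - 1 := U_index (F := F) ▸ h.mul_left _
  have h3 := Nat.dvd_sub hq h2
  have : 1 ≤ Fintype.card F ^ 2 := Nat.one_le_pow _ _ Fintype.card_pos
  rw [show Fintype.card F ^ 2 - (Fintype.card F ^ 2 - 1) = 1 by omega, Nat.dvd_one] at h3
  exact hp.out.one_lt.ne' h3

/-- `U` as a Sylow subgroup -/
noncomputable def U_sylow (p : ℕ) [Fact p.Prime] [CharP F p] : Sylow p PL :=
  (U_isPGroup p).toSylow (not_dvd_U_index p)

theorem coe_U_sylow (p : ℕ) [Fact p.Prime] [CharP F p] : ((U_sylow (F := F) p : Sylow p PL) : Subgroup PL) = U F := rfl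

theorem torus_dvd {T : Subgroup PL} (hT : IsTorus T) :
    Nat.card T = (Fintype.card F - 1) / Nat.gcd 2 (Fintype.card F - 1) ∨
      Nat.card T = (Fintype.card F + 1) / Nat.gcd 2 (Fintype.card F - 1) := by
  rcases torus_card hT with h | h
  · exact Or.inl (Nat.eq_div_of_mul_eq_right gcd_pos.ne' h)
  · exact Or.inr (Nat.eq_div_of_mul_eq_right gcd_pos.ne' h)

/-- the coarse list of Dickson's theorem -/
theorem bor_normalizer (p : ℕ) [Fact p.Prime] [CharP F p] {H : Subgroup PL} (h : BorCase H) :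
    ∃ P : Sylow p PL, H ≤ Subgroup.normalizer ((P : Subgroup PL) : Set PL) := by
  obtain ⟨y, hy, -⟩ := h
  refine ⟨y • U_sylow p, ?_⟩
  rw [Sylow.coe_subgroup_smul, coe_U_sylow,
    show MulAut.conj y • U F = (U F).map (MulAut.conj y).toMonoidHom from rfl,
    ← Subgroup.map_equiv_normalizer_eq, normalizer_U]
  exact hy

theorem field_equiv {H : Subgroup PL} (h : FieldCase H) :
    ∃ (K : Type) (_ : Field K) (_ : Fintype K) (m : ℕ), 1 ≤ m ∧ Fintype.card K ^ m = Fintype.card F ∧
      (Nonempty (H ≃* Matrix.ProjectiveSpecialLinearGroup (Fin 2) K) ∨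
        (Fintype.card K % 2 = 1 ∧ Nonempty (H ≃* Matrix.ProjGenLinGroup (Fin 2) K))) := by
  obtain ⟨θ, K, hK⟩ := h
  obtain ⟨K', i1, i2, hc, ⟨e⟩⟩ := exists_type0 K
  obtain ⟨m, hm, hmq⟩ := exists_pow_card K
  have eH : H ≃* H.map θ.toMonoidHom := H.equivMapOfInjective _ θ.injective
  refine ⟨K', i1, i2, m, hm, hc ▸ hmq, ?_⟩
  rcases hK with hK | ⟨hK, hodd, hcard⟩
  · exact Or.inl ((pslSub_equiv e).map fun f => (eH.trans (MulEquiv.subgroupCongr hK)).trans f)
  · exact Or.inr ⟨hc ▸ hodd, (pglSub_equiv hcard e).map fun f => (eH.trans (MulEquiv.subgroupCongr hK)).trans f⟩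

end CfsgLib.SL2Dickson
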