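import Mathlib
import Cfsg.Agent.Lib.SL2.DicksonTools
import Cfsg.Agent.Lib.PSL2.KleinClasses

/-! Klein four groups of `PSL₂` up to conjugation by `GL₂`, and their normalisers. -/

set_option autoImplicit false
set_option linter.style.haveILetI false

namespace CfsgLib.SL2Dickson

open Matrix CfsgLib.SL2Torus
open CfsgLib.PSL2Klein (π π_surj π_eq π_eq_one anti x₀ four anti_mul_inv rot_mul_anti J00 exists_four four_isKlein K₀ K₀_mem)
open CfsgLib.PSL2Two (mul_entry ext2 entries rot)
open CfsgLib.PSL2Two renaming J → Jq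
open Classical

variable {F : Type*} [Field F] [Fintype F]

local notation "L" => Matrix.SpecialLinearGroup (Fin 2) F
local notation "PL" => Matrix.ProjectiveSpecialLinearGroup (Fin 2) F
local notation "M2" => Matrix (Fin 2) (Fin 2) F

/-- conjugation by an invertible matrix, on a determinant-one matrix -/
def glFun (P : GL (Fin 2) F) (g : L) : L :=
  ⟨(P : M2) * g.1 * ((P⁻¹ : GL (Fin 2) F) : M2), by
    rw [Matrix.det_mul, Matrix.det_mul, g.2, mul_one, ← Matrix.det_mul, Units.mul_inv, Matrix.det_one]⟩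

theorem glFun_coe (P : GL (Fin 2) F) (g : L) : (glFun P g).1 = (P : M2) * g.1 * ((P⁻¹ : GL (Fin 2) F) : M2) := rfl

/-- conjugation by an invertible matrix, on `SL₂` -/
def glConjL (P : GL (Fin 2) F) : L ≃* L where
  toFun := glFun P
  invFun := glFun P⁻¹
  left_inv g := Subtype.ext (by
    rw [glFun_coe, glFun_coe, inv_inv]
    simp only [mul_assoc, Units.inv_mul, mul_one]
    rw [← mul_assoc, Units.inv_mul, one_mul])
  right_inv g := Subtype.ext (by
    rw [glFun_coe, glFun_coe, inv_inv]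
    simp only [mul_assoc, Units.mul_inv, mul_one]
    rw [← mul_assoc, Units.mul_inv, one_mul])
  map_mul' g h := Subtype.ext (by
    rw [Matrix.SpecialLinearGroup.coe_mul, glFun_coe, glFun_coe, glFun_coe, Matrix.SpecialLinearGroup.coe_mul]
    simp only [mul_assoc]
    rw [← mul_assoc ((P⁻¹ : GL (Fin 2) F) : M2) (P : M2), Units.inv_mul, one_mul])

/-- conjugation by an invertible matrix, on `PSL₂` -/
def glConj (P : GL (Fin 2) F) : PL ≃* PL :=
  QuotientGroup.congr _ _ (glConjL P) (Subgroup.characteristic_iff_map_eq.1 inferInstance (glConjL P))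

theorem glConj_π (P : GL (Fin 2) F) (g : L) : glConj P (π g) = π (glFun P g) := rfl

theorem glConj_π_eq (P : GL (Fin 2) F) {g g' : L} (h : (P : M2) * g.1 = g'.1 * (P : M2)) :
    glConj P (π g) = π g' := by
  rw [glConj_π]
  refine congrArg π (Subtype.ext ?_)
  rw [glFun_coe, h, mul_assoc, Units.mul_inv, mul_one]

/-- the standard anticommuting partner of `Jq` -/
def stdH (a b : F) (hab : a ^ 2 + b ^ 2 = -1) : L :=
  ⟨!![a, b; b, -a], by rw [Matrix.det_fin_two_of]; linear_combination -hab⟩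

theorem stdH_anti (a b : F) (hab : a ^ 2 + b ^ 2 = -1) : stdH a b hab ∈ anti F := ⟨rfl, rfl⟩

/-- the standard Klein four group -/
def stdV (a b : F) (hab : a ^ 2 + b ^ 2 = -1) : Subgroup PL := Subgroup.closure {x₀, π (stdH a b hab)}

theorem exists_std (K : Subfield F) (hodd : Fintype.card F % 2 = 1) :
    ∃ a b : F, a ∈ K ∧ b ∈ K ∧ a ^ 2 + b ^ 2 = -1 := by
  have hK : Fintype.card K % 2 = 1 := by
    obtain ⟨m, hm1, hm⟩ := exists_pow_card K
    rw [Nat.card_eq_fintype_card] at hm
    rw [← hm, Nat.pow_mod] at hodd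
    rcases Nat.mod_two_eq_zero_or_one (Fintype.card K) with h | h
    · rw [h] at hodd
      rcases m with _ | m <;> simp at hodd ⊢
      omega
    · exact h
  obtain ⟨a, b, hab⟩ := CfsgLib.PSL2Two.exists_sq_add_sq (F := K) hK (-1)
  exact ⟨a, b, a.2, b.2, by
    have := congrArg (fun z : K => (z : F)) hab
    simpa using this⟩

/-- all Klein four groups are conjugate under `GL₂` -/
theorem klein_transitive_gl (hodd : Fintype.card F % 2 = 1) {a b : F} (hab : a ^ 2 + b ^ 2 = -1) {V : Subgroup PL}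
    (hV : IsKleinFour V) : ∃ (g : PL) (P : GL (Fin 2) F),
      V.map ((MulAut.conj g).trans (glConj P)).toMonoidHom = stdV a b hab := by
  obtain ⟨g, r, hr, hg⟩ := exists_four hodd hV
  set k := r * K₀ hodd with hk
  have hka : k ∈ anti F := rot_mul_anti hr (K₀_mem hodd)
  set h := stdH a b hab with hh
  have hrot : h * k⁻¹ ∈ rot F := anti_mul_inv (stdH_anti a b hab) hka
  clear_value h
  obtain ⟨r', ⟨hr1, hr2⟩, hh'⟩ : ∃ r' ∈ rot F, h = r' * k := ⟨h * k⁻¹, hrot, by group⟩
  clear_value k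
  clear hrot
  obtain ⟨hk1, hk2⟩ := hka
  have e := entries r'
  -- the conjugating matrix
  obtain ⟨P, hPJ, hPk⟩ : ∃ P : GL (Fin 2) F, (P : M2) * (Jq : L).1 = (Jq : L).1 * (P : M2) ∧
      (P : M2) * k.1 = h.1 * (P : M2) := by
    by_cases h0 : (1 + r'.1).det = 0
    · have hdet : (1 + r'.1).det = (1 + r'.1 0 0) * (1 + r'.1 1 1) - r'.1 0 1 * r'.1 1 0 := by
        rw [Matrix.det_fin_two]; simp
      rw [hdet] at h0
      have h00 : r'.1 0 0 = -1 := by
        have h4 : (2 : F) * (1 + r'.1 0 0) = 0 := by linear_combination h0 - e + hr1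
        have := (mul_eq_zero.1 h4).resolve_left (CfsgLib.PSL2Two.two_ne hodd)
        linear_combination this
      have h10 : r'.1 1 0 = 0 := by
        have h2 : r'.1 1 0 * r'.1 1 0 = 0 := by
          rw [hr2, ← hr1, h00] at e; linear_combination e
        exact mul_self_eq_zero.1 h2
      refine ⟨Matrix.GeneralLinearGroup.mkOfDetNeZero (Jq : L).1 (by rw [(Jq : L).2]; exact one_ne_zero), rfl, ?_⟩
      show (Jq : L).1 * k.1 = h.1 * (Jq : L).1
      rw [hh', Matrix.SpecialLinearGroup.coe_mul]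
      ext i j
      fin_cases i <;> fin_cases j <;>
        simp [Matrix.mul_apply, Fin.sum_univ_two, Jq, hk1, hk2, ← hr1, h00, hr2, h10]
    · refine ⟨Matrix.GeneralLinearGroup.mkOfDetNeZero (1 + r'.1) h0, ?_, ?_⟩
      · show (1 + r'.1) * (Jq : L).1 = (Jq : L).1 * (1 + r'.1)
        ext i j
        fin_cases i <;> fin_cases j <;> simp [Matrix.mul_apply, Fin.sum_univ_two, Jq, hr1, hr2] <;> ring
      · show (1 + r'.1) * k.1 = h.1 * (1 + r'.1)
        rw [hh', Matrix.SpecialLinearGroup.coe_mul]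
        ext i j
        fin_cases i <;> fin_cases j <;> simp [Matrix.mul_apply, Fin.sum_univ_two, hk1, hk2, ← hr1, hr2]
        · linear_combination (-(k.1 0 0)) * (by rw [hr2, ← hr1] at e; exact e : r'.1 0 0 * r'.1 0 0 - -r'.1 1 0 * r'.1 1 0 = 1)
        · linear_combination (-(k.1 1 0)) * (by rw [hr2, ← hr1] at e; exact e : r'.1 0 0 * r'.1 0 0 - -r'.1 1 0 * r'.1 1 0 = 1)
        · linear_combination (-(k.1 1 0)) * (by rw [hr2, ← hr1] at e; exact e : r'.1 0 0 * r'.1 0 0 - -r'.1 1 0 * r'.1 1 0 = 1)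
        · linear_combination (k.1 0 0) * (by rw [hr2, ← hr1] at e; exact e : r'.1 0 0 * r'.1 0 0 - -r'.1 1 0 * r'.1 1 0 = 1)
  refine ⟨g, P, ?_⟩
  have : V.map ((MulAut.conj g).trans (glConj P)).toMonoidHom = (V.map (MulAut.conj g).toMonoidHom).map (glConj P).toMonoidHom := by
    rw [Subgroup.map_map]; rfl
  rw [this, hg, four, MonoidHom.map_closure, Set.image_pair, stdV, ← hk, ← hh]
  show Subgroup.closure {glConj P (π Jq), glConj P (π k)} = Subgroup.closure {π Jq, π h}
  rw [glConj_π_eq P hPJ, glConj_π_eq P hPk]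

theorem klein_transitive (hodd : Fintype.card F % 2 = 1) {a b : F} (hab : a ^ 2 + b ^ 2 = -1) {V : Subgroup PL}
    (hV : IsKleinFour V) : ∃ θ : PL ≃* PL, V.map θ.toMonoidHom = stdV a b hab :=
  let ⟨_, _, h⟩ := klein_transitive_gl hodd hab hV
  ⟨_, h⟩

/-- rationality from the images of `Jq` and its partner -/
theorem rational_criterion (hodd : Fintype.card F % 2 = 1) {K : Subfield F} {a b : F} (ha : a ∈ K) (hb : b ∈ K)
    (hab : a ^ 2 + b ^ 2 = -1) {g : L} (hJ : ∀ i j, (g * Jq * g⁻¹).1 i j ∈ K)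
    (hH : ∀ i j, (g * stdH a b hab * g⁻¹).1 i j ∈ K) : π g ∈ pglSub K := by
  set y := g * Jq * g⁻¹ with hy
  set z := g * stdH a b hab * g⁻¹ with hz
  have hyz : ∀ i j, (y * z).1 i j ∈ K := fun i j => by
    rw [mul_entry]; exact add_mem (mul_mem (hJ _ _) (hH _ _)) (mul_mem (hJ _ _) (hH _ _))
  have hw : y * z = g * ((Jq : L) * stdH a b hab) * g⁻¹ := by rw [hy, hz]; group
  rw [hw] at hyz
  have e := entries g
  set A := g.1 0 0; set B := g.1 0 1; set C := g.1 1 0; set D := g.1 1 1
  have J0 : (Jq : L).1 0 0 = 0 ∧ (Jq : L).1 0 1 = -1 ∧ (Jq : L).1 1 0 = 1 ∧ (Jq : L).1 1 1 = 0 := ⟨rfl, rfl, rfl, rfl⟩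
  have H0 : (stdH a b hab).1 0 0 = a ∧ (stdH a b hab).1 0 1 = b ∧ (stdH a b hab).1 1 0 = b ∧ (stdH a b hab).1 1 1 = -a :=
    ⟨rfl, rfl, rfl, rfl⟩
  -- the three images
  have j00 : B * D + A * C ∈ K := by
    have := hJ 0 0
    rwa [show y.1 0 0 = B * D + A * C by
      simp only [hy, mul_entry, J0, CfsgLib.PSL2Klein.inv00, CfsgLib.PSL2Klein.inv10]; ring] at this
  have j01 : A * A + B * B ∈ K := by
    have := neg_mem (hJ 0 1)
    rwa [show -(y.1 0 1) = A * A + B * B by
      simp only [hy, mul_entry, J0, CfsgLib.PSL2Klein.inv01, CfsgLib.PSL2Klein.inv11]; ring] at this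
  have j10 : C * C + D * D ∈ K := by
    have := hJ 1 0
    rwa [show y.1 1 0 = C * C + D * D by
      simp only [hy, mul_entry, J0, CfsgLib.PSL2Klein.inv00, CfsgLib.PSL2Klein.inv10]; ring] at this
  -- images of `diag(1,-1)` and of the swap
  have hcomb : ∀ i j, a * (z.1 i j) - b * ((g * ((Jq : L) * stdH a b hab) * g⁻¹).1 i j) ∈ K ∧
      b * (z.1 i j) + a * ((g * ((Jq : L) * stdH a b hab) * g⁻¹).1 i j) ∈ K := fun i j =>
    ⟨sub_mem (mul_mem ha (hH i j)) (mul_mem hb (hyz i j)), add_mem (mul_mem hb (hH i j)) (mul_mem ha (hyz i j))⟩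
  have d00 : A * D + B * C ∈ K := by
    have := neg_mem (hcomb 0 0).1
    rwa [show -(a * (z.1 0 0) - b * ((g * ((Jq : L) * stdH a b hab) * g⁻¹).1 0 0)) = A * D + B * C by
      simp only [hz, mul_entry, J0, H0, CfsgLib.PSL2Klein.inv00, CfsgLib.PSL2Klein.inv10]
      linear_combination (-(A * D + B * C)) * hab] at this
  have d01 : 2 * (A * B) ∈ K := by
    have := (hcomb 0 1).1
    rwa [show a * (z.1 0 1) - b * ((g * ((Jq : L) * stdH a b hab) * g⁻¹).1 0 1) = 2 * (A * B) by
      simp only [hz, mul_entry, J0, H0, CfsgLib.PSL2Klein.inv01, CfsgLib.PSL2Klein.inv11]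
      linear_combination (-(2 * (A * B))) * hab] at this
  have d10 : 2 * (C * D) ∈ K := by
    have := neg_mem (hcomb 1 0).1
    rwa [show -(a * (z.1 1 0) - b * ((g * ((Jq : L) * stdH a b hab) * g⁻¹).1 1 0)) = 2 * (C * D) by
      simp only [hz, mul_entry, J0, H0, CfsgLib.PSL2Klein.inv00, CfsgLib.PSL2Klein.inv10]
      linear_combination (-(2 * (C * D))) * hab] at this
  have s00 : B * D - A * C ∈ K := by
    have := neg_mem (hcomb 0 0).2
    rwa [show -(b * (z.1 0 0) + a * ((g * ((Jq : L) * stdH a b hab) * g⁻¹).1 0 0)) = B * D - A * C by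
      simp only [hz, mul_entry, J0, H0, CfsgLib.PSL2Klein.inv00, CfsgLib.PSL2Klein.inv10]
      linear_combination (-(B * D - A * C)) * hab] at this
  have s01 : A * A - B * B ∈ K := by
    have := neg_mem (hcomb 0 1).2
    rwa [show -(b * (z.1 0 1) + a * ((g * ((Jq : L) * stdH a b hab) * g⁻¹).1 0 1)) = A * A - B * B by
      simp only [hz, mul_entry, J0, H0, CfsgLib.PSL2Klein.inv01, CfsgLib.PSL2Klein.inv11]
      linear_combination (-(A * A - B * B)) * hab] at this
  have s10 : D * D - C * C ∈ K := by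
    have := neg_mem (hcomb 1 0).2
    rwa [show -(b * (z.1 1 0) + a * ((g * ((Jq : L) * stdH a b hab) * g⁻¹).1 1 0)) = D * D - C * C by
      simp only [hz, mul_entry, J0, H0, CfsgLib.PSL2Klein.inv00, CfsgLib.PSL2Klein.inv10]
      linear_combination (-(D * D - C * C)) * hab] at this
  have half : ∀ x : F, 2 * x ∈ K → x ∈ K := fun x hx => by
    have h2K : (2 : F) ∈ K := by rw [← one_add_one_eq_two]; exact add_mem K.one_mem K.one_mem
    have := div_mem hx h2K
    rwa [mul_div_cancel_left₀ _ (CfsgLib.PSL2Two.two_ne hodd)] at this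
  have AA : A * A ∈ K := half _ (by rw [two_mul]; have := add_mem j01 s01; rwa [show A * A + B * B + (A * A - B * B) = A * A + A * A by ring] at this)
  have BB : B * B ∈ K := half _ (by have := sub_mem j01 s01; rwa [show A * A + B * B - (A * A - B * B) = 2 * (B * B) by ring] at this)
  have DD : D * D ∈ K := half _ (by have := add_mem j10 s10; rwa [show C * C + D * D + (D * D - C * C) = 2 * (D * D) by ring] at this)
  have CC : C * C ∈ K := half _ (by have := sub_mem j10 s10; rwa [show C * C + D * D - (D * D - C * C) = 2 * (C * C) by ring] at this)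
  have BD : B * D ∈ K := half _ (by have := add_mem j00 s00; rwa [show B * D + A * C + (B * D - A * C) = 2 * (B * D) by ring] at this)
  have AC : A * C ∈ K := half _ (by have := sub_mem j00 s00; rwa [show B * D + A * C - (B * D - A * C) = 2 * (A * C) by ring] at this)
  have AB := half _ d01
  have CD := half _ d10
  have AD : A * D ∈ K := half _ (by have := add_mem d00 K.one_mem; rwa [show A * D + B * C + 1 = 2 * (A * D) by linear_combination -e] at this)
  have BC : B * C ∈ K := half _ (by have := sub_mem d00 K.one_mem; rwa [show A * D + B * C - 1 = 2 * (B * C) by linear_combination e] at this)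
  by_cases hA : A = 0
  · have hB : B ≠ 0 := fun h => by rw [hA, h] at e; simp at e
    refine ⟨g, rfl, B, hB, fun i j => ?_⟩
    fin_cases i <;> fin_cases j
    · show B * A ∈ K; rw [mul_comm]; exact AB
    · exact BB
    · exact BC
    · exact BD
  · refine ⟨g, rfl, A, hA, fun i j => ?_⟩
    fin_cases i <;> fin_cases j
    · exact AA
    · exact AB
    · exact AC
    · exact AD

theorem stdV_isKlein (hodd : Fintype.card F % 2 = 1) {a b : F} (hab : a ^ 2 + b ^ 2 = -1) :
    IsKleinFour (stdV a b hab) ∧ x₀ ∈ stdV a b hab ∧ π (stdH a b hab) ∈ stdV a b hab ∧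
      ∀ x ∈ stdV a b hab, x = 1 ∨ x = x₀ ∨ x = π (stdH a b hab) ∨ x = π ((Jq : L) * stdH a b hab) := by
  have hr : stdH a b hab * (K₀ hodd)⁻¹ ∈ rot F := anti_mul_inv (stdH_anti a b hab) (K₀_mem hodd)
  have e : stdH a b hab * (K₀ hodd)⁻¹ * K₀ hodd = stdH a b hab := by group
  obtain ⟨hV, hx, hy, h1, h2, h3⟩ := four_isKlein hodd hr
  have hfe : four hodd (stdH a b hab * (K₀ hodd)⁻¹) = stdV a b hab := by rw [four, stdV, e]
  rw [hfe] at hV hx hy
  rw [e] at hy h2 h3
  refine ⟨hV, hx, hy, fun x hxm => ?_⟩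
  rcases CfsgLib.KleinBasic.mem_cases hV hx hy h1 h2 h3 hxm with h | h | h | h
  · exact Or.inl h
  · exact Or.inr (Or.inl h)
  · exact Or.inr (Or.inr (Or.inl h))
  · exact Or.inr (Or.inr (Or.inr (by rw [h, x₀, ← map_mul])))

/-- the normaliser of the standard Klein four group is rational -/
theorem normalizer_stdV_le (hodd : Fintype.card F % 2 = 1) {K : Subfield F} {a b : F} (ha : a ∈ K) (hb : b ∈ K)
    (hab : a ^ 2 + b ^ 2 = -1) : Subgroup.normalizer (stdV a b hab : Set PL) ≤ pglSub K := by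
  intro x hx
  obtain ⟨g, rfl⟩ := π_surj x
  obtain ⟨-, hx0, hy0, hcases⟩ := stdV_isKlein hodd hab
  have HK : ∀ i j, (stdH a b hab).1 i j ∈ K := fun i j => by
    fin_cases i <;> fin_cases j
    · exact ha
    · exact hb
    · exact hb
    · exact neg_mem ha
  have JK : ∀ i j, (Jq : L).1 i j ∈ K := fun i j => by
    fin_cases i <;> fin_cases j
    · exact K.zero_mem
    · exact neg_mem K.one_mem
    · exact K.one_mem
    · exact K.zero_mem
  have one : ∀ i j, (1 : L).1 i j ∈ K := fun i j => by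
    fin_cases i <;> fin_cases j <;> simp [K.one_mem, K.zero_mem]
  have key : ∀ y : L, π y ∈ stdV a b hab → ∀ i j, (g * y * g⁻¹).1 i j ∈ K := by
    intro y hy i j
    have h := (Subgroup.mem_normalizer_iff.1 hx _).1 hy
    rw [← map_inv, ← map_mul, ← map_mul] at h
    have aux : ∀ w : L, (∀ i j, w.1 i j ∈ K) → π (g * y * g⁻¹) = π w → (g * y * g⁻¹).1 i j ∈ K := by
      intro w hw e
      rcases (π_eq _ _).1 e with e | e
      · rw [e]; exact hw i j
      · rw [e]; simpa using neg_mem (hw i j)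
    rcases hcases _ h with e | e | e | e
    · exact aux 1 one (by rw [e, map_one])
    · exact aux Jq JK e
    · exact aux _ HK e
    · exact aux _ (fun i j => by rw [mul_entry]; exact add_mem (mul_mem (JK _ _) (HK _ _)) (mul_mem (JK _ _) (HK _ _))) e
  exact rational_criterion hodd ha hb hab (key Jq hx0) (key _ hy0)

/-- every Klein four normaliser lies in a conjugate of any subfield group -/
theorem klein_normalizer_le (hodd : Fintype.card F % 2 = 1) (K : Subfield F) {V : Subgroup PL} (hV : IsKleinFour V) :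
    ∃ θ : PL ≃* PL, (Subgroup.normalizer (V : Set PL)).map θ.toMonoidHom ≤ pglSub K := by
  obtain ⟨a, b, ha, hb, hab⟩ := exists_std K hodd
  obtain ⟨θ, hθ⟩ := klein_transitive hodd hab hV
  refine ⟨θ, ?_⟩
  rw [Subgroup.map_equiv_normalizer_eq, hθ]
  exact normalizer_stdV_le hodd ha hb hab

end CfsgLib.SL2Dickson
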