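import Mathlib
import Cfsg.Agent.Lib.SL2.DicksonTools
import Cfsg.Agent.Lib.Linear.Generation
import Cfsg.Agent.S0494

/-! `PSL₂(4)` and `PSL₂(5)`. -/

set_option autoImplicit false
set_option linter.style.haveILetI false

namespace CfsgLib.SL2Dickson

open Classical

variable {F : Type*} [Field F] [Fintype F]

theorem psl_simple (h4 : 4 ≤ Fintype.card F) :
    IsSimpleGroup (Matrix.ProjectiveSpecialLinearGroup (Fin 2) F) := by
  refine CfsgLib.Linear.Generation.isSimpleGroup_PSL (Or.inr ?_)
  by_contra h
  push Not at h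
  have hsub : (Finset.univ : Finset F) ⊆ {0, 1, -1} := fun x _ => by
    by_cases hx : x = 0
    · simp [hx]
    · rcases sq_eq_one_iff.1 (h x hx) with e | e <;> simp [e]
  have := Finset.card_le_card hsub
  rw [Finset.card_univ] at this
  have h3 : ({0, 1, -1} : Finset F).card ≤ 3 := Finset.card_le_three
  omega

theorem psl_four_five (h : Fintype.card F = 4 ∨ Fintype.card F = 5) :
    Nonempty (Matrix.ProjectiveSpecialLinearGroup (Fin 2) F ≃* alternatingGroup (Fin 5)) := by
  haveI := psl_simple (F := F) (by omega)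
  apply Cfsg.Agent.S0494.result
  have e := gcd_mul_card F
  rcases h with h | h <;> rw [h] at e
  · rw [show Nat.gcd 2 (4 - 1) = 1 by decide] at e; omega
  · rw [show Nat.gcd 2 (5 - 1) = 2 by decide] at e; omega

end CfsgLib.SL2Dickson
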