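import Mathlib
import Cfsg.Agent.Lib.SL2.DicksonTools

/-! Subfields of a finite field and the squares in them. -/

set_option autoImplicit false
set_option linter.style.haveILetI false

namespace CfsgLib.SL2Dickson

open Matrix CfsgLib.SL2Torus
open CfsgLib.PSL2Klein (π π_surj π_eq π_eq_one)
open CfsgLib.PSL2Two (mul_entry ext2 entries)
open Classical

variable {F : Type*} [Field F] [Fintype F]

local notation "L" => Matrix.SpecialLinearGroup (Fin 2) F
local notation "PL" => Matrix.ProjectiveSpecialLinearGroup (Fin 2) F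

theorem mem_iff_pow (K : Subfield F) (x : F) : x ∈ K ↔ x ^ Nat.card K = x := by
  have h2 : 1 < Nat.card K := Finite.one_lt_card
  refine ⟨fun h => ?_, fun h => ?_⟩
  · have := congrArg (fun z : K => (z : F)) (FiniteField.pow_card (⟨x, h⟩ : K))
    rw [Nat.card_eq_fintype_card]
    simpa using this
  · set P : Polynomial F := Polynomial.X ^ Nat.card K - Polynomial.X with hP
    have hdeg : P.natDegree = Nat.card K := FiniteField.X_pow_card_sub_X_natDegree_eq F h2
    have hP0 : P ≠ 0 := fun e => by rw [e, Polynomial.natDegree_zero] at hdeg; omega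
    have hsub : (K : Set F) ⊆ (P.roots.toFinset : Set F) := by
      intro y hy
      have := congrArg (fun z : K => (z : F)) (FiniteField.pow_card (⟨y, hy⟩ : K))
      simp only [SubmonoidClass.coe_pow] at this
      rw [Finset.mem_coe, Multiset.mem_toFinset, Polynomial.mem_roots hP0, Polynomial.IsRoot, hP, Polynomial.eval_sub,
        Polynomial.eval_pow, Polynomial.eval_X, sub_eq_zero, Nat.card_eq_fintype_card]
      exact this
    have hle : P.roots.toFinset.card ≤ Nat.card K :=
      le_trans (Multiset.toFinset_card_le _) (le_trans P.card_roots' (le_of_eq hdeg))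
    have heq : (K : Set F) = (P.roots.toFinset : Set F) :=
      Set.eq_of_subset_of_ncard_le hsub (by rw [Set.ncard_coe_finset]; exact hle)
    rw [← SetLike.mem_coe, heq]
    rw [Finset.mem_coe, Multiset.mem_toFinset, Polynomial.mem_roots hP0, Polynomial.IsRoot, hP, Polynomial.eval_sub,
      Polynomial.eval_pow, Polynomial.eval_X, sub_eq_zero]
    exact h

theorem subfield_le_of_pow {K K' : Subfield F} {j : ℕ} (h : Nat.card K' = Nat.card K ^ j) : K ≤ K' := by
  intro x hx
  rw [mem_iff_pow, h]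
  have hx' := (mem_iff_pow K x).1 hx
  clear h
  induction j with
  | zero => simp
  | succ j ih => rw [pow_succ, pow_mul, ih, hx']

theorem subfield_eq_of_card {K K' : Subfield F} (h : Nat.card K = Nat.card K') : K = K' :=
  le_antisymm (subfield_le_of_pow (j := 1) (by rw [pow_one, h])) (subfield_le_of_pow (j := 1) (by rw [pow_one, h]))

theorem subfield_eq_top {K : Subfield F} (h : Nat.card K = Fintype.card F) : K = ⊤ :=
  SetLike.ext fun x => ⟨fun _ => trivial, fun _ => (mem_iff_pow K x).2 (h ▸ FiniteField.pow_card x)⟩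

theorem exists_subfield {q₀ m : ℕ} (h2 : 2 ≤ q₀) (h : q₀ ^ m = Fintype.card F) :
    ∃ K : Subfield F, Nat.card K = q₀ := by
  haveI := ringChar.charP F
  obtain ⟨n, hp, hcard⟩ := FiniteField.card F (ringChar F)
  set p := ringChar F
  haveI := Fact.mk hp
  haveI : ExpChar F p := .prime hp
  have hm : m ≠ 0 := fun e => by
    have := Fintype.one_lt_card (α := F)
    rw [← h, e, pow_zero] at this; omega
  obtain ⟨k, -, hk⟩ := (Nat.dvd_prime_pow hp).1 (hcard ▸ h ▸ dvd_pow_self q₀ hm)
  refine ⟨RingHom.eqLocusField (iterateFrobenius F p k) (RingHom.id F), ?_⟩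
  set K := RingHom.eqLocusField (iterateFrobenius F p k) (RingHom.id F)
  have hmem : ∀ x, x ∈ K ↔ x ^ q₀ = x := fun x => by
    show iterateFrobenius F p k x = x ↔ _
    rw [iterateFrobenius_def, hk]
  have hdvd : q₀ - 1 ∣ Fintype.card F - 1 := by
    rw [← h]; simpa using Nat.sub_dvd_pow_sub_pow q₀ 1 m
  have hu : Nat.card Kˣ = q₀ - 1 := by
    have hr : (Units.map (K.subtype : K →* F)).range = (powMonoidHom (q₀ - 1) : Fˣ →* Fˣ).ker := by
      ext x
      rw [MonoidHom.mem_ker, powMonoidHom_apply]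
      constructor
      · rintro ⟨y, rfl⟩
        apply Units.ext
        rw [Units.val_pow_eq_pow_val, Units.val_one]
        apply mul_left_cancel₀ (Units.ne_zero (Units.map (K.subtype : K →* F) y))
        rw [← pow_succ', Nat.sub_add_cancel (by omega), mul_one]
        exact (hmem _).1 (y : K).2
      · intro hx
        have hxK : (x : F) ∈ K := (hmem _).2 (by
          rw [show q₀ = q₀ - 1 + 1 by omega, pow_succ, ← Units.val_pow_eq_pow_val, hx, Units.val_one, one_mul])
        exact ⟨Units.mk0 ⟨x, hxK⟩ (fun e => x.ne_zero (congrArg Subtype.val e)), Units.ext rfl⟩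
    rw [Nat.card_congr (MonoidHom.ofInjective (f := Units.map (K.subtype : K →* F))
      (Units.map_injective K.subtype.injective)).toEquiv, hr, IsCyclic.card_powMonoidHom_ker,
      CfsgLib.Linear.Card.card_units_eq, Nat.gcd_eq_right hdvd]
  rw [Nat.card_units] at hu
  have : 1 < Nat.card K := Finite.one_lt_card
  omega

/-! ### squares -/

theorem isSquare_of_even (hodd : Fintype.card F % 2 = 1) {K : Subfield F} {m : ℕ}
    (hm : Nat.card K ^ m = Fintype.card F) (hev : Even m) {k : F} (hk : k ∈ K) : IsSquare k := by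
  by_cases hk0 : k = 0
  · exact ⟨0, by rw [hk0, mul_zero]⟩
  have h2 : ringChar F ≠ 2 := fun e => by
    have := FiniteField.even_card_of_char_two e
    omega
  rw [FiniteField.isSquare_iff h2 hk0]
  obtain ⟨j, rfl⟩ := hev
  set r := Nat.card K with hr
  have hr1 : 1 < r := Finite.one_lt_card
  have hro : r % 2 = 1 := by
    rw [← hm, Nat.pow_mod] at hodd
    rcases Nat.mod_two_eq_zero_or_one r with h | h
    · rw [h] at hodd
      rcases j with _ | j <;> simp at hodd hm ⊢
      have := Fintype.one_lt_card (α := F)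
      omega
    · exact h
  have hk1 : k ^ (r - 1) = 1 := by
    apply mul_left_cancel₀ hk0
    rw [← pow_succ', Nat.sub_add_cancel hr1.le, mul_one]
    exact (mem_iff_pow K k).1 hk
  obtain ⟨c, hc⟩ : r - 1 ∣ Fintype.card F / 2 := by
    have h1 : r ^ 2 - 1 ∣ Fintype.card F - 1 := by
      rw [← hm, show j + j = 2 * j by ring, pow_mul]; simpa using Nat.sub_dvd_pow_sub_pow (r ^ 2) 1 j
    obtain ⟨d, hd⟩ := h1
    obtain ⟨e, he⟩ : ∃ e, r = 2 * e + 1 := ⟨r / 2, by omega⟩
    rw [he, show (2 * e + 1) ^ 2 - 1 = 2 * e * (2 * (e + 1)) by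
      rw [show (2 * e + 1) ^ 2 = 2 * e * (2 * (e + 1)) + 1 by ring]; omega] at hd
    refine ⟨(e + 1) * d, ?_⟩
    rw [he, Nat.add_sub_cancel]
    have : 2 * e * (2 * (e + 1)) * d = 2 * (2 * e * ((e + 1) * d)) := by ring
    omega
  rw [hc, pow_mul, hk1, one_pow]

theorem exists_nonsquare_of_odd (hodd : Fintype.card F % 2 = 1) {K : Subfield F} {m : ℕ}
    (hm : Nat.card K ^ m = Fintype.card F) (hom : Odd m) {s : F} (hs : s * s ∈ K) : s ∈ K := by
  set r := Nat.card K with hr
  have hr1 : 1 < r := Finite.one_lt_card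
  by_cases hs0 : s = 0
  · rw [hs0]; exact K.zero_mem
  have h1 : (s ^ r) * (s ^ r) = s * s := by rw [← mul_pow]; exact (mem_iff_pow K _).1 hs
  rcases mul_self_eq_mul_self_iff.1 h1 with h | h
  · exact (mem_iff_pow K s).2 h
  · exfalso
    have hro : Odd r := by
      rw [Nat.odd_iff]
      rw [← hm, Nat.pow_mod] at hodd
      rcases Nat.mod_two_eq_zero_or_one r with h | h
      · rw [h] at hodd
        obtain ⟨j, rfl⟩ := hom
        simp at hodd
      · exact h
    have key : ∀ j, s ^ (r ^ j) = (-1) ^ j * s := by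
      intro j
      induction j with
      | zero => simp
      | succ j ih =>
        rw [pow_succ, pow_mul, ih, mul_pow, h, ← pow_mul, mul_comm j r, pow_mul, hro.neg_one_pow, pow_succ]
        ring
    have := key m
    rw [hm, FiniteField.pow_card, hom.neg_one_pow, neg_one_mul] at this
    have h2 : (2 : F) * s = 0 := by linear_combination this
    exact hs0 ((mul_eq_zero.1 h2).resolve_left (CfsgLib.SL2Torus.two_ne_of_odd hodd))

theorem pglSub_card_of_squares {K : Subfield F} (hsq : ∀ k ∈ K, IsSquare k) :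
    Nat.card (pglSub K) = Nat.card K * (Nat.card K ^ 2 - 1) := by
  have hs : Function.Surjective (toPGL K) := by
    intro z
    obtain ⟨M, rfl⟩ := Matrix.ProjGenLinGroup.mk_surjective z
    obtain ⟨s, hs⟩ := hsq ((M.1.det : K) : F) (M.1.det).2
    have hs0 : s ≠ 0 := fun e => by
      rw [e, mul_zero] at hs
      exact (Matrix.GeneralLinearGroup.det M).ne_zero (Subtype.ext hs)
    let g : L := ⟨Matrix.of fun i j => ((M.1 i j : K) : F) / s, by
      rw [Matrix.det_fin_two] at hs
      push_cast at hs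
      rw [Matrix.det_fin_two]
      simp only [Matrix.of_apply]
      field_simp
      linear_combination hs⟩
    have hg : π g ∈ pglSub K := ⟨g, rfl, s, hs0, fun i j => by
      show s * (((M.1 i j : K) : F) / s) ∈ K
      rw [mul_div_cancel₀ _ hs0]; exact (M.1 i j).2⟩
    refine ⟨⟨π g, hg⟩, ?_⟩
    obtain ⟨g', hg', t, ht, hgt⟩ := repr_spec K ⟨π g, hg⟩
    show Matrix.ProjGenLinGroup.mk _ = _
    rcases (π_eq _ _).1 hg' with e | e
    · refine mk_eq_of_smul (c := s / t) (div_ne_zero hs0 ht) (fun i j => ?_)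
      rw [hgt, e]
      show _ = s / t * (t * (((M.1 i j : K) : F) / s))
      field_simp
    · refine mk_eq_of_smul (c := -(s / t)) (neg_ne_zero.2 (div_ne_zero hs0 ht)) (fun i j => ?_)
      rw [hgt, e, Matrix.SpecialLinearGroup.coe_neg, Matrix.neg_apply]
      show _ = -(s / t) * (t * -(((M.1 i j : K) : F) / s))
      field_simp
  rw [Nat.card_congr (Equiv.ofBijective _ ⟨toPGL_injective K, hs⟩), CfsgLib.Linear.Card.card_PGL, card_L_eq,
    Nat.card_eq_fintype_card]

theorem pglSub_eq_pslSub (hodd : Fintype.card F % 2 = 1) {K : Subfield F} {m : ℕ}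
    (hm : Nat.card K ^ m = Fintype.card F) (hom : Odd m) : pglSub K = pslSub K := by
  refine le_antisymm ?_ (pslSub_le_pglSub K)
  rintro _ ⟨g, rfl, s, hs, hg⟩
  have hsK : s ∈ K := exists_nonsquare_of_odd hodd hm hom (by
    have h1 := sub_mem (mul_mem (hg 0 0) (hg 1 1)) (mul_mem (hg 0 1) (hg 1 0))
    rwa [show s * g.1 0 0 * (s * g.1 1 1) - s * g.1 0 1 * (s * g.1 1 0) = s * s by
      linear_combination s * s * entries g] at h1)
  have hgK : ∀ i j, g.1 i j ∈ K := fun i j => by
    have := div_mem (hg i j) hsK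
    rwa [mul_div_cancel_left₀ _ hs] at this
  refine ⟨⟨Matrix.of fun i j => (⟨g.1 i j, hgK i j⟩ : K), ?_⟩, congrArg π (ext2 rfl rfl rfl rfl)⟩
  rw [Matrix.det_fin_two]
  apply Subtype.ext
  simp only [Matrix.of_apply]
  push_cast
  exact entries g

theorem pslSub_top : pslSub (⊤ : Subfield F) = ⊤ := by
  refine eq_top_iff.2 fun x _ => ?_
  obtain ⟨g, rfl⟩ := π_surj x
  refine ⟨⟨Matrix.of fun i j => (⟨g.1 i j, trivial⟩ : (⊤ : Subfield F)), ?_⟩, congrArg π (ext2 rfl rfl rfl rfl)⟩
  rw [Matrix.det_fin_two]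
  apply Subtype.ext
  simp only [Matrix.of_apply]
  push_cast
  exact entries g

/-- `r (r² - 1)` is strictly monotone -/
theorem cube_lt {a b : ℕ} (h : a < b) : a * (a ^ 2 - 1) < b * (b ^ 2 - 1) ∨ b = 1 := by
  rcases Nat.lt_or_ge b 2 with h2 | h2
  · right; omega
  left
  have h3 : a ^ 2 ≤ b ^ 2 := Nat.pow_le_pow_left h.le 2
  have h4 : 4 ≤ b ^ 2 := le_trans (by norm_num) (Nat.pow_le_pow_left h2 2)
  calc a * (a ^ 2 - 1) ≤ a * (b ^ 2 - 1) := Nat.mul_le_mul_left a (by omega)
    _ < b * (b ^ 2 - 1) := Nat.mul_lt_mul_of_pos_right h (by omega)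

theorem pglSub_card_le (K : Subfield F) : Nat.card (pglSub K) ≤ Nat.card K * (Nat.card K ^ 2 - 1) := by
  refine Nat.le_of_dvd ?_ (card_pglSub_dvd K)
  have h : 1 < Nat.card K := Finite.one_lt_card
  exact Nat.mul_pos (by omega) (by have := Nat.pow_le_pow_left (show 2 ≤ Nat.card K by omega) 2; omega)

end CfsgLib.SL2Dickson
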