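import Mathlib
import Cfsg.Agent.Lib.SL2.GLConj
import Cfsg.Agent.Lib.SL2.Subfields
import Cfsg.Agent.Lib.SL2.Small

/-! The icosahedral subgroups of `PSL₂`. -/

set_option autoImplicit false
set_option linter.style.haveILetI false

namespace CfsgLib.SL2Dickson

open Matrix CfsgLib.SL2Torus
open CfsgLib.PSL2Klein (π π_surj π_eq π_eq_one x₀ orderOf_x₀)
open CfsgLib.PSL2Two (mul_entry ext2 entries)
open CfsgLib.PSL2Two renaming J → Jq
open Classical

variable {F : Type*} [Field F] [Fintype F]

local notation "L" => Matrix.SpecialLinearGroup (Fin 2) F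
local notation "PL" => Matrix.ProjectiveSpecialLinearGroup (Fin 2) F
local notation "M2" => Matrix (Fin 2) (Fin 2) F

/-- `x + yJ + zh + wJh` -/
def qm (a b x y z w : F) : M2 := !![x + z * a - w * b, -y + z * b + w * a; y + z * b + w * a, x - z * a + w * b]

/-- the same, in `SL₂` -/
def ql (a b x y z w : F) (hab : a ^ 2 + b ^ 2 = -1) (hn : x * x + y * y + z * z + w * w = 1) : L :=
  ⟨qm a b x y z w, by
    rw [qm, Matrix.det_fin_two_of]
    linear_combination hn - (z * z + w * w) * hab⟩

theorem qm_mul (a b x y z w x' y' z' w' : F) (hab : a ^ 2 + b ^ 2 = -1) :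
    qm a b x y z w * qm a b x' y' z' w' =
      qm a b (x * x' - y * y' - z * z' - w * w') (x * y' + y * x' + z * w' - w * z')
        (x * z' - y * w' + z * x' + w * y') (x * w' + y * z' - z * y' + w * x') := by
  ext i j
  fin_cases i <;> fin_cases j <;> simp [qm, Matrix.mul_apply, Fin.sum_univ_two]
  · linear_combination (z * z' + w * w') * hab
  · linear_combination (z * w' - w * z') * hab
  · linear_combination (w * z' - z * w') * hab
  · linear_combination (z * z' + w * w') * hab

theorem ql_mul_eq {a b : F} (hab : a ^ 2 + b ^ 2 = -1) {x y z w x' y' z' w' X Y Z W : F}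
    (h1 : x * x + y * y + z * z + w * w = 1) (h2 : x' * x' + y' * y' + z' * z' + w' * w' = 1)
    (h3 : X * X + Y * Y + Z * Z + W * W = 1)
    (e1 : x * x' - y * y' - z * z' - w * w' = X) (e2 : x * y' + y * x' + z * w' - w * z' = Y)
    (e3 : x * z' - y * w' + z * x' + w * y' = Z) (e4 : x * w' + y * z' - z * y' + w * x' = W) :
    ql a b x y z w hab h1 * ql a b x' y' z' w' hab h2 = ql a b X Y Z W hab h3 := by
  apply Subtype.ext
  rw [Matrix.SpecialLinearGroup.coe_mul]
  show qm a b x y z w * qm a b x' y' z' w' = qm a b X Y Z W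
  rw [qm_mul _ _ _ _ _ _ _ _ _ _ hab, e1, e2, e3, e4]

theorem ql_neg {a b : F} (hab : a ^ 2 + b ^ 2 = -1) {x y z w : F} (h1 : x * x + y * y + z * z + w * w = 1) :
    -ql a b x y z w hab h1 = ql a b (-x) (-y) (-z) (-w) hab (by linear_combination h1) := by
  apply Subtype.ext
  show -(qm a b x y z w) = qm a b (-x) (-y) (-z) (-w)
  ext i j
  fin_cases i <;> fin_cases j <;> simp [qm] <;> ring

/-! ### traces of elements of small order -/

theorem trace_of_pow {g : L} (h : π g = 1 ∨ π g ^ 2 = 1 ∨ π g ^ 3 = 1 ∨ π g ^ 5 = 1) :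
    tr g = 2 ∨ tr g = -2 ∨ tr g = 0 ∨ tr g = 1 ∨ tr g = -1 ∨ tr g * tr g = tr g + 1 ∨ -tr g * -tr g = -tr g + 1 := by
  by_cases hs : ∃ c : F, (g : M2) = c • (1 : M2)
  · rcases CfsgLib.Dickson.scalar_cases hs with rfl | rfl
    · left; simp [tr]
    · right; left; simp [tr]
  set t := tr g with ht
  have e2 : (g : M2) * g = (-1 : F) • (1 : M2) + t • (g : M2) := by rw [sq_eq, ← ht, neg_one_smul]; abel
  have pm : ∀ n, π g ^ n = 1 → ∃ c : F, (g : M2) ^ n = c • (1 : M2) := by
    intro n hn
    rw [← map_pow, π_eq_one] at hn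
    rcases hn with e | e
    · exact ⟨1, by rw [one_smul, ← Matrix.SpecialLinearGroup.coe_pow, e]; rfl⟩
    · exact ⟨-1, by rw [neg_one_smul, ← Matrix.SpecialLinearGroup.coe_pow, e]; rfl⟩
  have lin : ∀ {x y c : F}, x • (1 : M2) + y • (g : M2) = c • (1 : M2) → y = 0 := fun {x y c} e =>
    (coord_unique hs (x := x) (y := y) (x' := c) (y' := 0) (by rw [zero_smul, add_zero]; exact e)).2
  have e3 : (g : M2) ^ 3 = (-t) • (1 : M2) + (t * t - 1) • (g : M2) := by
    rw [pow_succ, sq, e2, add_mul, smul_mul_assoc, smul_mul_assoc, one_mul, e2, smul_add, smul_smul, smul_smul]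
    module
  rcases h with h | h | h | h
  · exfalso
    obtain ⟨c, hc⟩ := pm 1 (by rwa [pow_one])
    exact hs ⟨c, by rwa [pow_one] at hc⟩
  · obtain ⟨c, hc⟩ := pm 2 h
    rw [sq, e2] at hc
    exact Or.inr (Or.inr (Or.inl (lin hc)))
  · obtain ⟨c, hc⟩ := pm 3 h
    rw [e3] at hc
    rcases mul_self_eq_one_iff.1 (sub_eq_zero.1 (lin hc)) with e | e
    · exact Or.inr (Or.inr (Or.inr (Or.inl e)))
    · exact Or.inr (Or.inr (Or.inr (Or.inr (Or.inl e))))
  · obtain ⟨c, hc⟩ := pm 5 h
    have e5 : (g : M2) ^ 5 = (-(t * t * t - 2 * t)) • (1 : M2) + (t * t * t * t - 3 * (t * t) + 1) • (g : M2) := by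
      rw [show (5 : ℕ) = 3 + 2 from rfl, pow_add, e3, sq, e2, add_mul, mul_add, mul_add, smul_mul_smul_comm,
        smul_mul_smul_comm, smul_mul_smul_comm, smul_mul_smul_comm, one_mul, one_mul, mul_one, e2, smul_add,
        smul_smul, smul_smul]
      module
    rw [e5] at hc
    have := lin hc
    have hf : (t * t - t - 1) * (t * t + t - 1) = 0 := by linear_combination this
    rcases mul_eq_zero.1 hf with e | e
    · exact Or.inr (Or.inr (Or.inr (Or.inr (Or.inr (Or.inl (by linear_combination e))))))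
    · exact Or.inr (Or.inr (Or.inr (Or.inr (Or.inr (Or.inr (by linear_combination e))))))

theorem orders_A5 : ∀ σ : alternatingGroup (Fin 5), σ = 1 ∨ σ ^ 2 = 1 ∨ σ ^ 3 = 1 ∨ σ ^ 5 = 1 := by
  decide +kernel

/-- a subfield containing the traces of an icosahedral group -/
def HasRoots (K : Subfield F) : Prop := ∀ t : F, t * t = t + 1 → t ∈ K

theorem trace_mem {H : Subgroup PL} (e : H ≃* alternatingGroup (Fin 5)) {K : Subfield F} (hK : HasRoots K) {g : L}
    (hg : π g ∈ H) : tr g ∈ K := by
  have h2K : (2 : F) ∈ K := by rw [← one_add_one_eq_two]; exact add_mem K.one_mem K.one_mem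
  have key : ∀ n, (e ⟨π g, hg⟩) ^ n = 1 → π g ^ n = 1 := fun n hn => by
    rw [← map_pow, ← map_one e] at hn
    exact congrArg Subtype.val (e.injective hn)
  rcases trace_of_pow (g := g) (by
      rcases orders_A5 (e ⟨π g, hg⟩) with h | h | h | h
      · exact Or.inl (by simpa using key 1 (by rwa [pow_one]))
      · exact Or.inr (Or.inl (key 2 h))
      · exact Or.inr (Or.inr (Or.inl (key 3 h)))
      · exact Or.inr (Or.inr (Or.inr (key 5 h)))) with h | h | h | h | h | h | h
  · rw [h]; exact h2K
  · rw [h]; exact neg_mem h2K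
  · rw [h]; exact K.zero_mem
  · rw [h]; exact K.one_mem
  · rw [h]; exact neg_mem K.one_mem
  · exact hK _ h
  · exact neg_mem_iff.1 (hK _ h)

/-- subgroups `A₅` are rational over any subfield containing their traces -/
theorem a5_le_pgl (hodd : Fintype.card F % 2 = 1) {H : Subgroup PL} (hH : Nonempty (H ≃* alternatingGroup (Fin 5)))
    {K : Subfield F} (hK : HasRoots K) : ∃ θ : PL ≃* PL, H.map θ.toMonoidHom ≤ pglSub K := by
  obtain ⟨e⟩ := hH
  haveI := Fact.mk Nat.prime_two
  let P : Sylow 2 H := default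
  have hP : Nat.card P = 4 := by
    rw [Sylow.card_eq_multiplicity, Nat.card_congr e.toEquiv, nat_card_alternatingGroup, Nat.card_fin,
      show Nat.factorial 5 / 2 = 2 ^ 2 * 15 from rfl, Nat.factorization_mul (by norm_num) (by norm_num),
      Finsupp.add_apply, Nat.Prime.factorization_pow Nat.prime_two, Finsupp.single_eq_same,
      Nat.factorization_eq_zero_of_not_dvd (by norm_num)]
    norm_num
  set V : Subgroup PL := (P : Subgroup H).map H.subtype with hVdef
  have hV : IsKleinFour V := by
    have hc : Nat.card V = 4 := by rw [hVdef, Subgroup.card_map_of_injective H.subtype_injective]; exact hP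
    refine ⟨hc, ?_⟩
    haveI : Nontrivial V := Finite.one_lt_card_iff_nontrivial.1 (by omega)
    rw [Monoid.exponent_eq_prime_iff Nat.prime_two]
    intro v hv
    refine orderOf_eq_prime ?_ hv
    obtain ⟨x, hx, hxv⟩ := v.2
    have h4 : x ^ 4 = 1 := by
      have := congrArg Subtype.val (pow_card_eq_one' (x := (⟨x, hx⟩ : (P : Subgroup H))))
      rw [hP] at this
      exact this
    have h2 : x ^ 2 = 1 := by
      rcases orders_A5 (e x) with h | h | h | h <;>
        simp only [← map_pow, EmbeddingLike.map_eq_one_iff] at h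
      · rw [h, one_pow]
      · exact h
      · have : x = 1 := by
          rw [show x = x ^ 4 * (x ^ 3)⁻¹ by group, h4, h, inv_one, mul_one]
        rw [this, one_pow]
      · have : x = 1 := by rw [show x = x ^ 5 * (x ^ 4)⁻¹ by group, h4, h, inv_one, mul_one]
        rw [this, one_pow]
    exact Subtype.ext (by
      rw [SubgroupClass.coe_pow, ← hxv, ← map_pow, h2, map_one]; rfl)
  obtain ⟨a, b, ha, hb, hab⟩ := exists_std K hodd
  obtain ⟨θ, hθ⟩ := klein_transitive hodd hab hV
  refine ⟨θ, ?_⟩
  set H' := H.map θ.toMonoidHom with hH'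
  have e' : H' ≃* alternatingGroup (Fin 5) := (H.equivMapOfInjective _ θ.injective).symm.trans e
  have hVle : stdV a b hab ≤ H' := by
    rw [← hθ]; exact Subgroup.map_mono (Subgroup.map_subtype_le _)
  obtain ⟨-, hx0, hy0, -⟩ := stdV_isKlein hodd hab
  have hJ : π (Jq : L) ∈ H' := hVle hx0
  have hh : π (stdH a b hab) ∈ H' := hVle hy0
  have entriesK : ∀ y : L, π y ∈ H' → tr y = 0 → ∀ i j, y.1 i j ∈ K := by
    intro y hy hy0
    have ty : y.1 1 1 = -y.1 0 0 := by
      rw [tr, Matrix.trace_fin_two] at hy0; linear_combination hy0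
    set A := y.1 0 0 with hA
    set B := y.1 0 1 with hB
    set C := y.1 1 0 with hC
    have t1 : B - C ∈ K := by
      have := trace_mem e' hK (g := y * Jq) (by rw [map_mul]; exact mul_mem hy hJ)
      rwa [show tr (y * Jq) = B - C by
        rw [tr, Matrix.trace_fin_two, mul_entry, mul_entry]; simp [Jq, hA, hB, hC]; ring] at this
    have t2 : 2 * a * A + b * (B + C) ∈ K := by
      have := trace_mem e' hK (g := y * stdH a b hab) (by rw [map_mul]; exact mul_mem hy hh)
      rwa [show tr (y * stdH a b hab) = 2 * a * A + b * (B + C) by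
        rw [tr, Matrix.trace_fin_two]; simp only [mul_entry, ty]; simp [stdH, hA, hB, hC]; ring] at this
    have t3 : -(2 * b * A) + a * (B + C) ∈ K := by
      have := trace_mem e' hK (g := y * (Jq * stdH a b hab)) (by
        rw [map_mul, map_mul]; exact mul_mem hy (mul_mem hJ hh))
      rwa [show tr (y * (Jq * stdH a b hab)) = -(2 * b * A) + a * (B + C) by
        rw [tr, Matrix.trace_fin_two]; simp only [mul_entry, ty]; simp [Jq, stdH, hA, hB, hC]; ring] at this
    have h2 := CfsgLib.PSL2Two.two_ne hodd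
    have h2K : (2 : F) ∈ K := by rw [← one_add_one_eq_two]; exact add_mem K.one_mem K.one_mem
    have hAK : A ∈ K := by
      have := div_mem (sub_mem (mul_mem hb t3) (mul_mem ha t2)) h2K
      rwa [show (b * (-(2 * b * A) + a * (B + C)) - a * (2 * a * A + b * (B + C))) / 2 = A by
        field_simp; linear_combination -2 * A * hab] at this
    have hS : B + C ∈ K := by
      have := neg_mem (add_mem (mul_mem hb t2) (mul_mem ha t3))
      rwa [show -(b * (2 * a * A + b * (B + C)) + a * (-(2 * b * A) + a * (B + C))) = B + C by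
        linear_combination (-(B + C)) * hab] at this
    intro i j
    fin_cases i <;> fin_cases j
    · exact hAK
    · have := div_mem (add_mem hS t1) h2K
      rwa [show (B + C + (B - C)) / 2 = B by field_simp; ring] at this
    · have := div_mem (sub_mem hS t1) h2K
      rwa [show (B + C - (B - C)) / 2 = C by field_simp; ring] at this
    · show y.1 1 1 ∈ K
      rw [ty]; exact neg_mem hAK
  intro x hx
  obtain ⟨g, rfl⟩ := π_surj x
  refine rational_criterion hodd ha hb hab (entriesK _ ?_ ?_) (entriesK _ ?_ ?_)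
  · rw [map_mul, map_mul, map_inv]; exact mul_mem (mul_mem hx hJ) (inv_mem hx)
  · rw [tr_conj]; simp [tr, Jq, Matrix.trace_fin_two]
  · rw [map_mul, map_mul, map_inv]; exact mul_mem (mul_mem hx hh) (inv_mem hx)
  · rw [tr_conj]; simp [tr, stdH, Matrix.trace_fin_two]

/-! ### existence -/

theorem exists_a5 (hodd : Fintype.card F % 2 = 1) (h5 : ¬ 5 ∣ Fintype.card F) {τ : F} (hτ : τ * τ = τ + 1) :
    ∃ H : Subgroup PL, Nonempty (H ≃* alternatingGroup (Fin 5)) := by
  obtain ⟨a, b, -, -, hab⟩ := exists_std (⊤ : Subfield F) hodd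
  have h2 := CfsgLib.PSL2Two.two_ne hodd
  set c : F := (2 : F)⁻¹ with hc
  have hc2 : 2 * c = 1 := mul_inv_cancel₀ h2
  have n0 : (1 : F) * 1 + 0 * 0 + 0 * 0 + 0 * 0 = 1 := by ring
  have nI : (0 : F) * 0 + 1 * 1 + 0 * 0 + 0 * 0 = 1 := by ring
  have nh : (0 : F) * 0 + 0 * 0 + 1 * 1 + 0 * 0 = 1 := by ring
  have nk : (0 : F) * 0 + 0 * 0 + 0 * 0 + 1 * 1 = 1 := by ring
  have nw : c * c + c * c + c * c + c * c = 1 := by linear_combination (2 * c + 1) * hc2
  have nw2 : -c * -c + c * c + c * c + c * c = 1 := by linear_combination (2 * c + 1) * hc2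
  have nu1 : τ * c * (τ * c) + (τ - 1) * c * ((τ - 1) * c) + c * c + 0 * 0 = 1 := by
    linear_combination (2 * c + 1) * hc2 + 2 * c * c * hτ
  have nu2 : (τ - 1) * c * ((τ - 1) * c) + c * c + τ * c * (τ * c) + 0 * 0 = 1 := by
    linear_combination (2 * c + 1) * hc2 + 2 * c * c * hτ
  have nu3 : (1 - τ) * c * ((1 - τ) * c) + c * c + τ * c * (τ * c) + 0 * 0 = 1 := by
    linear_combination (2 * c + 1) * hc2 + 2 * c * c * hτ
  have nu4 : -τ * c * (-τ * c) + (τ - 1) * c * ((τ - 1) * c) + c * c + 0 * 0 = 1 := by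
    linear_combination (2 * c + 1) * hc2 + 2 * c * c * hτ
  set I := ql a b 0 1 0 0 hab nI with hI
  set h := ql a b 0 0 1 0 hab nh with hh
  set k := ql a b 0 0 0 1 hab nk with hk
  set w := ql a b c c c c hab nw with hw
  set w2 := ql a b (-c) c c c hab nw2 with hw2
  set u₁ := ql a b (τ * c) ((τ - 1) * c) c 0 hab nu1 with hu₁
  set u₂ := ql a b ((τ - 1) * c) c (τ * c) 0 hab nu2 with hu₂
  set u₃ := ql a b ((1 - τ) * c) c (τ * c) 0 hab nu3 with hu₃
  set u₄ := ql a b (-τ * c) ((τ - 1) * c) c 0 hab nu4 with hu₄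
  have hIJ : I = (Jq : L) := by
    refine ext2 ?_ ?_ ?_ ?_ <;> simp [hI, ql, qm, Jq]
  have hhH : h = stdH a b hab := by
    refine ext2 ?_ ?_ ?_ ?_ <;> simp [hh, ql, qm, stdH]
  have hkk : I * h = k := ql_mul_eq hab _ _ _ (by ring) (by ring) (by ring) (by ring)
  have hww : w * w = w2 := ql_mul_eq hab _ _ _ (by linear_combination (-c) * hc2) (by linear_combination c * hc2)
    (by linear_combination c * hc2) (by linear_combination c * hc2)
  -- the Klein group and its normaliser
  obtain ⟨hVk, hx0, hy0, hcases⟩ := stdV_isKlein hodd hab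
  set N := Subgroup.normalizer (stdV a b hab : Set PL) with hN
  set x := π I with hx
  set y := π h with hy
  have hxV : x ∈ stdV a b hab := by rw [hx, hIJ]; exact hx0
  have hyV : y ∈ stdV a b hab := by rw [hy, hhH]; exact hy0
  have hwI : π w * x = y * π w := by
    rw [hx, hy, ← map_mul, ← map_mul]
    congr 1
    rw [ql_mul_eq hab (X := -c) (Y := c) (Z := c) (W := -c) _ _ (by linear_combination (2 * c + 1) * hc2) (by ring) (by ring) (by ring) (by ring),
      ql_mul_eq hab (X := -c) (Y := c) (Z := c) (W := -c) _ _ (by linear_combination (2 * c + 1) * hc2) (by ring) (by ring) (by ring) (by ring)]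
  have hwh : π w * y = π k * π w := by
    rw [hy, ← map_mul, ← map_mul]
    congr 1
    rw [ql_mul_eq hab (X := -c) (Y := -c) (Z := c) (W := c) _ _ (by linear_combination (2 * c + 1) * hc2) (by ring) (by ring) (by ring) (by ring),
      ql_mul_eq hab (X := -c) (Y := -c) (Z := c) (W := c) _ _ (by linear_combination (2 * c + 1) * hc2) (by ring) (by ring) (by ring) (by ring)]
  have hkV : π k ∈ stdV a b hab := by
    rw [← hkk, map_mul]; exact mul_mem hxV hyV
  have hwN : π w ∈ N := by
    rw [hN, Subgroup.mem_normalizer_iff_map_conj_eq]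
    refine Subgroup.eq_of_le_of_card_ge ?_ (le_of_eq (Subgroup.card_map_of_injective (MulAut.conj (π w)).injective).symm)
    rw [stdV, MonoidHom.map_closure, Subgroup.closure_le, Set.image_pair]
    rintro z (rfl | rfl)
    · show π w * x₀ * (π w)⁻¹ ∈ stdV a b hab
      rw [show (x₀ : PL) = x by rw [hx, hIJ]; rfl, hwI, mul_inv_cancel_right]; exact hyV
    · show π w * π (stdH a b hab) * (π w)⁻¹ ∈ stdV a b hab
      rw [← hhH, ← hy, hwh, mul_inv_cancel_right]; exact hkV
  have hIN : x ∈ N := Subgroup.le_normalizer hxV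
  have hyN : y ∈ N := Subgroup.le_normalizer hyV
  have hkN : π k ∈ N := Subgroup.le_normalizer hkV
  have hw2N : π w2 ∈ N := by rw [← hww, map_mul]; exact mul_mem hwN hwN
  -- powers of the element of order five
  have p2 : u₁ * u₁ = u₂ := by
    refine ql_mul_eq hab nu1 nu1 nu2 ?_ ?_ ?_ ?_
    · linear_combination (τ - 1) * c * hc2
    · linear_combination c * hc2 + 2 * c * c * hτ
    · linear_combination τ * c * hc2
    · ring
  have p3 : u₂ * u₁ = u₃ := by
    refine ql_mul_eq hab nu2 nu1 nu3 ?_ ?_ ?_ ?_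
    · linear_combination (1 - τ) * c * hc2 + c * c * hτ
    · linear_combination c * hc2 + c * c * hτ
    · linear_combination τ * c * hc2 + c * c * hτ
    · linear_combination -c * c * hτ
  have p4 : u₃ * u₁ = u₄ := by
    refine ql_mul_eq hab nu3 nu1 nu4 ?_ ?_ ?_ ?_
    · linear_combination -τ * c * hc2 - c * c * hτ
    · linear_combination (τ - 1) * c * hc2 - c * c * hτ
    · linear_combination c * hc2 + c * c * hτ
    · linear_combination -c * c * hτ
  have p5 : u₄ * u₁ = -1 := by
    rw [ql_mul_eq hab (X := -1) (Y := 0) (Z := 0) (W := 0) nu4 nu1 (by ring)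
      (by linear_combination (-(2 * c + 1)) * hc2 - 2 * c * c * hτ) (by ring) (by ring) (by ring)]
    refine ext2 ?_ ?_ ?_ ?_ <;> simp [ql, qm]
  set Uf : Fin 5 → PL := ![1, π u₁, π u₂, π u₃, π u₄] with hU
  set S : Set PL := {z | ∃ i, ∃ n ∈ N, z = Uf i * n} with hS
  have close : ∀ (z : PL), (∀ i, ∃ j, ∃ n ∈ N, z * Uf i = Uf j * n) → ∀ s ∈ S, z * s ∈ S := by
    rintro z hz s ⟨i, n, hn, rfl⟩
    obtain ⟨j, m, hm, hj⟩ := hz i
    exact ⟨j, m * n, mul_mem hm hn, by rw [← mul_assoc, hj, mul_assoc]⟩
  have idI : ∀ i, ∃ j, ∃ n ∈ N, x * Uf i = Uf j * n := by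
    intro i
    fin_cases i
    · exact ⟨0, x, hIN, by simp [hU]⟩
    · refine ⟨3, y * π w2, mul_mem hyN hw2N, ?_⟩
      show π I * π u₁ = π u₃ * (π h * π w2)
      rw [← map_mul, ← map_mul, ← map_mul, π_eq]; right
      rw [ql_mul_eq hab (X := (1 - τ) * c) (Y := τ * c) (Z := 0) (W := c) _ _ (by linear_combination (2 * c + 1) * hc2 + 2 * c * c * hτ) (by ring) (by ring) (by ring) (by ring),
        ql_mul_eq hab (X := -c) (Y := c) (Z := -c) (W := -c) _ _ (by linear_combination (2 * c + 1) * hc2) (by ring) (by ring) (by ring) (by ring),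
        ql_mul_eq hab (X := -((1 - τ) * c)) (Y := -(τ * c)) (Z := 0) (W := -c) _ _ (by linear_combination (2 * c + 1) * hc2 + 2 * c * c * hτ) (by linear_combination (τ - 1) * c * hc2) (by linear_combination -τ * c * hc2) (by linear_combination (0 : F)) (by linear_combination -c * hc2), ql_neg]
      congr 1 <;> ring
    · refine ⟨4, x * π w, mul_mem hIN hwN, ?_⟩
      show π I * π u₂ = π u₄ * (π I * π w)
      rw [← map_mul, ← map_mul, ← map_mul, π_eq]; right
      rw [ql_mul_eq hab (X := -c) (Y := (τ - 1) * c) (Z := 0) (W := τ * c) _ _ (by linear_combination (2 * c + 1) * hc2 + 2 * c * c * hτ) (by ring) (by ring) (by ring) (by ring),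
        ql_mul_eq hab (X := -c) (Y := c) (Z := -c) (W := c) _ _ (by linear_combination (2 * c + 1) * hc2) (by ring) (by ring) (by ring) (by ring),
        ql_mul_eq hab (X := c) (Y := -((τ - 1) * c)) (Z := 0) (W := -(τ * c)) _ _ (by linear_combination (2 * c + 1) * hc2 + 2 * c * c * hτ) (by linear_combination c * hc2) (by linear_combination -(τ - 1) * c * hc2) (by linear_combination (0 : F)) (by linear_combination -τ * c * hc2), ql_neg]
      congr 1 <;> ring
    · refine ⟨1, π k * π w, mul_mem hkN hwN, ?_⟩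
      show π I * π u₃ = π u₁ * (π k * π w)
      rw [← map_mul, ← map_mul, ← map_mul]
      congr 1
      rw [ql_mul_eq hab (X := -c) (Y := (1 - τ) * c) (Z := 0) (W := τ * c) _ _ (by linear_combination (2 * c + 1) * hc2 + 2 * c * c * hτ) (by ring) (by ring) (by ring) (by ring),
        ql_mul_eq hab (X := -c) (Y := -c) (Z := c) (W := c) _ _ (by linear_combination (2 * c + 1) * hc2) (by ring) (by ring) (by ring) (by ring),
        ql_mul_eq hab (X := -c) (Y := (1 - τ) * c) (Z := 0) (W := τ * c) _ _ (by linear_combination (2 * c + 1) * hc2 + 2 * c * c * hτ) (by linear_combination -c * hc2) (by linear_combination (1 - τ) * c * hc2) (by linear_combination (0 : F)) (by linear_combination τ * c * hc2)]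
    · refine ⟨2, π k * π w2, mul_mem hkN hw2N, ?_⟩
      show π I * π u₄ = π u₂ * (π k * π w2)
      rw [← map_mul, ← map_mul, ← map_mul]
      congr 1
      rw [ql_mul_eq hab (X := -((τ - 1) * c)) (Y := -τ * c) (Z := 0) (W := c) _ _ (by linear_combination (2 * c + 1) * hc2 + 2 * c * c * hτ) (by ring) (by ring) (by ring) (by ring),
        ql_mul_eq hab (X := -c) (Y := -c) (Z := c) (W := -c) _ _ (by linear_combination (2 * c + 1) * hc2) (by ring) (by ring) (by ring) (by ring),
        ql_mul_eq hab (X := -((τ - 1) * c)) (Y := -τ * c) (Z := 0) (W := c) _ _ (by linear_combination (2 * c + 1) * hc2 + 2 * c * c * hτ) (by linear_combination -(τ - 1) * c * hc2) (by linear_combination -τ * c * hc2) (by linear_combination (0 : F)) (by linear_combination c * hc2)]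
  have idw : ∀ i, ∃ j, ∃ n ∈ N, π w * Uf i = Uf j * n := by
    intro i
    fin_cases i
    · exact ⟨0, π w, hwN, by simp [hU]⟩
    · refine ⟨4, π w2, hw2N, ?_⟩
      show π w * π u₁ = π u₄ * π w2
      rw [← map_mul, ← map_mul, π_eq]; right
      rw [ql_mul_eq hab (X := 0) (Y := (τ - 1) * c) (Z := τ * c) (W := c) _ _ (by linear_combination (2 * c + 1) * hc2 + 2 * c * c * hτ) (by linear_combination (0 : F)) (by linear_combination (τ - 1) * c * hc2) (by linear_combination τ * c * hc2) (by linear_combination c * hc2),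
        ql_mul_eq hab (X := 0) (Y := -((τ - 1) * c)) (Z := -(τ * c)) (W := -c) _ _ (by linear_combination (2 * c + 1) * hc2 + 2 * c * c * hτ) (by linear_combination (0 : F)) (by linear_combination -(τ - 1) * c * hc2) (by linear_combination -τ * c * hc2) (by linear_combination -c * hc2), ql_neg]
      congr 1 <;> ring
    · refine ⟨1, y, hyN, ?_⟩
      show π w * π u₂ = π u₁ * π h
      rw [← map_mul, ← map_mul]
      congr 1
      rw [ql_mul_eq hab (X := -c) (Y := 0) (Z := τ * c) (W := (τ - 1) * c) _ _ (by linear_combination (2 * c + 1) * hc2 + 2 * c * c * hτ) (by linear_combination -c * hc2) (by linear_combination (0 : F)) (by linear_combination τ * c * hc2) (by linear_combination (τ - 1) * c * hc2),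
        ql_mul_eq hab (X := -c) (Y := 0) (Z := τ * c) (W := (τ - 1) * c) _ _ (by linear_combination (2 * c + 1) * hc2 + 2 * c * c * hτ) (by ring) (by ring) (by ring) (by ring)]
    · refine ⟨3, x * π w2, mul_mem hIN hw2N, ?_⟩
      show π w * π u₃ = π u₃ * (π I * π w2)
      rw [← map_mul, ← map_mul, ← map_mul, π_eq]; right
      rw [ql_mul_eq hab (X := -τ * c) (Y := -(τ - 1) * c) (Z := c) (W := 0) _ _ (by linear_combination (2 * c + 1) * hc2 + 2 * c * c * hτ) (by linear_combination -τ * c * hc2) (by linear_combination -(τ - 1) * c * hc2) (by linear_combination c * hc2) (by linear_combination (0 : F)),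
        ql_mul_eq hab (X := -c) (Y := -c) (Z := -c) (W := c) _ _ (by linear_combination (2 * c + 1) * hc2) (by ring) (by ring) (by ring) (by ring),
        ql_mul_eq hab (X := τ * c) (Y := (τ - 1) * c) (Z := -c) (W := 0) _ _ (by linear_combination (2 * c + 1) * hc2 + 2 * c * c * hτ) (by linear_combination τ * c * hc2) (by linear_combination (τ - 1) * c * hc2) (by linear_combination -c * hc2) (by linear_combination (0 : F)), ql_neg]
      congr 1 <;> ring
    · refine ⟨2, y * π w, mul_mem hyN hwN, ?_⟩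
      show π w * π u₄ = π u₂ * (π h * π w)
      rw [← map_mul, ← map_mul, ← map_mul]
      congr 1
      rw [ql_mul_eq hab (X := -τ * c) (Y := -c) (Z := 0) (W := (1 - τ) * c) _ _ (by linear_combination (2 * c + 1) * hc2 + 2 * c * c * hτ) (by linear_combination -τ * c * hc2) (by linear_combination -c * hc2) (by linear_combination (0 : F)) (by linear_combination (1 - τ) * c * hc2),
        ql_mul_eq hab (X := -c) (Y := c) (Z := c) (W := -c) _ _ (by linear_combination (2 * c + 1) * hc2) (by ring) (by ring) (by ring) (by ring),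
        ql_mul_eq hab (X := -τ * c) (Y := -c) (Z := 0) (W := (1 - τ) * c) _ _ (by linear_combination (2 * c + 1) * hc2 + 2 * c * c * hτ) (by linear_combination -τ * c * hc2) (by linear_combination -c * hc2) (by linear_combination (0 : F)) (by linear_combination (1 - τ) * c * hc2)]
  have idu : ∀ i, ∃ j, ∃ n ∈ N, π u₁ * Uf i = Uf j * n := by
    have hc' : ∀ v : L, v * u₁ = u₁ * v → π u₁ * π v = π (v * u₁) := fun v e => by rw [← map_mul, e]
    intro i
    fin_cases i
    · exact ⟨1, 1, one_mem _, by simp [hU]⟩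
    · exact ⟨2, 1, one_mem _, by show π u₁ * π u₁ = π u₂ * 1; rw [mul_one, ← map_mul, p2]⟩
    · exact ⟨3, 1, one_mem _, by
        show π u₁ * π u₂ = π u₃ * 1
        rw [mul_one, ← map_mul, ← p3, ← p2, mul_assoc]⟩
    · exact ⟨4, 1, one_mem _, by
        show π u₁ * π u₃ = π u₄ * 1
        rw [mul_one, ← map_mul, ← p4, ← p3, ← p2]; simp only [mul_assoc]⟩
    · exact ⟨0, 1, one_mem _, by
        show π u₁ * π u₄ = 1 * 1
        rw [mul_one, ← map_mul, π_eq_one]
        exact Or.inr (by rw [← p5, ← p4, ← p3, ← p2]; simp only [mul_assoc])⟩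
  set H := Subgroup.closure {x, π w, π u₁} with hHdef
  have hHS : (H : Set PL) ⊆ S := by
    let St : Submonoid PL :=
      { carrier := {z | ∀ s ∈ S, z * s ∈ S}
        one_mem' := fun s hs => by rw [one_mul]; exact hs
        mul_mem' := fun {z z'} hz hz' s hs => by rw [mul_assoc]; exact hz _ (hz' s hs) }
    let Sg : Subgroup PL :=
      { St with
        inv_mem' := fun {z} hz => by
          have : z⁻¹ = z ^ (orderOf z - 1) := inv_eq_of_mul_eq_one_right (by
            rw [← pow_succ', Nat.sub_add_cancel (orderOf_pos z), pow_orderOf_eq_one])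
          rw [this]; exact St.pow_mem hz _ }
    intro z hz
    have hzS : z ∈ Sg := (Subgroup.closure_le Sg).2 (by
      rintro v (rfl | rfl | rfl)
      · exact close _ idI
      · exact close _ idw
      · exact close _ idu) hz
    have := hzS 1 ⟨0, 1, one_mem _, by simp [hU]⟩
    rwa [mul_one] at this
  have hNcard : Nat.card N ≤ 24 := by
    obtain ⟨⟨φ, hφ⟩, -⟩ := CfsgLib.PSL2Klein.normalizer_four hodd
      (CfsgLib.PSL2Klein.anti_mul_inv (stdH_anti a b hab) (CfsgLib.PSL2Klein.K₀_mem hodd))
    have e : CfsgLib.PSL2Klein.four hodd (stdH a b hab * (CfsgLib.PSL2Klein.K₀ hodd)⁻¹) = stdV a b hab := by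
      rw [CfsgLib.PSL2Klein.four, stdV, inv_mul_cancel_right]
    rw [hN, ← e]
    exact le_trans (Nat.card_le_card_of_injective φ hφ)
      (le_of_eq (by rw [Nat.card_perm, Nat.card_fin]; rfl))
  have hle : Nat.card H ≤ 120 := by
    have h1 : Nat.card H ≤ Nat.card (Fin 5 × N) := by
      refine Nat.card_le_card_of_injective (fun z : H => ((hHS z.2).choose, (⟨(hHS z.2).choose_spec.choose,
        (hHS z.2).choose_spec.choose_spec.1⟩ : N))) ?_
      intro z z' e
      apply Subtype.ext
      rw [(hHS z.2).choose_spec.choose_spec.2, (hHS z'.2).choose_spec.choose_spec.2]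
      exact congrArg₂ (· * ·) (congrArg Uf (congrArg Prod.fst e)) (congrArg (fun v : Fin 5 × N => (v.2 : PL)) e)
    rw [Nat.card_prod, Nat.card_fin] at h1
    omega
  have hxH : x ∈ H := Subgroup.subset_closure (by simp)
  have hwH : π w ∈ H := Subgroup.subset_closure (by simp)
  have huH : π u₁ ∈ H := Subgroup.subset_closure (by simp)
  have hy' : y = π w * x * (π w)⁻¹ := by rw [hwI, mul_inv_cancel_right]
  have hVH : stdV a b hab ≤ H := by
    rw [stdV, Subgroup.closure_le]
    rintro z (rfl | rfl)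
    · show x₀ ∈ H
      rw [show (x₀ : PL) = x by rw [hx, hIJ]; rfl]; exact hxH
    · show π (stdH a b hab) ∈ H
      rw [← hhH, ← hy, hy']; exact mul_mem (mul_mem hwH hxH) (inv_mem hwH)
  -- orders
  have ox : orderOf x = 2 := by rw [hx, hIJ]; exact orderOf_x₀ hodd
  have oy : orderOf y = 2 := by
    rw [hy']; exact (MulEquiv.orderOf_eq (MulAut.conj (π w)) x).trans ox
  have ow : orderOf (π w) = 3 := by
    haveI := Fact.mk Nat.prime_three
    refine orderOf_eq_prime ?_ fun e => ?_
    · rw [← map_pow, π_eq_one, pow_succ, sq, hww]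
      right
      rw [ql_mul_eq hab (X := -1) (Y := 0) (Z := 0) (W := 0) _ _ (by ring) (by linear_combination (-(2 * c + 1)) * hc2) (by ring) (by ring) (by ring)]
      refine ext2 ?_ ?_ ?_ ?_ <;> simp [ql, qm]
    · rw [e, one_mul, mul_one] at hwI
      have hne : x ≠ y := by
        rw [hx, hy, hIJ, hhH]
        intro e'
        have hJ0 : (Jq : L).1 0 0 = 0 := rfl
        have hJ1 : (Jq : L).1 0 1 = -1 := rfl
        have hJ2 : (Jq : L).1 1 0 = 1 := rfl
        rcases (π_eq _ _).1 e' with e' | e'
        · have h1 := congrArg (fun z : L => z.1 0 1) e'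
          have h3 := congrArg (fun z : L => z.1 1 0) e'
          rw [hJ1] at h1
          rw [hJ2] at h3
          change (-1 : F) = b at h1
          change (1 : F) = b at h3
          exact h2 (by linear_combination h3 - h1)
        · have h1 := congrArg (fun z : L => z.1 0 1) e'
          have h3 := congrArg (fun z : L => z.1 1 0) e'
          rw [Matrix.SpecialLinearGroup.coe_neg, Matrix.neg_apply, hJ1] at h1
          rw [Matrix.SpecialLinearGroup.coe_neg, Matrix.neg_apply, hJ2] at h3
          change (-1 : F) = -b at h1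
          change (1 : F) = -b at h3
          exact h2 (by linear_combination h3 - h1)
      exact hne hwI
  have p5' : π u₁ ^ 5 = 1 := by
    rw [← map_pow, π_eq_one, show u₁ ^ 5 = u₁ * u₁ * u₁ * u₁ * u₁ by simp [pow_succ], p2, p3, p4, p5]
    exact Or.inr rfl
  have ou : orderOf (π u₁) = 5 := by
    haveI := Fact.mk (by norm_num : Nat.Prime 5)
    refine orderOf_eq_prime p5' fun e => ?_
    rw [π_eq_one] at e
    have ht : tr u₁ = τ := by
      rw [tr, Matrix.trace_fin_two]; simp [hu₁, ql, qm]; linear_combination τ * hc2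
    have h1 : τ = 2 ∨ τ = -2 := by
      rcases e with e | e <;> rw [e] at ht <;> simp [tr] at ht
      · exact Or.inl ht.symm
      · exact Or.inr ht.symm
    haveI := ringChar.charP F
    obtain ⟨n, hp, hcard⟩ := FiniteField.card F (ringChar F)
    rcases h1 with rfl | rfl
    · have : (1 : F) = 0 := by linear_combination hτ
      exact one_ne_zero this
    · have h50 : ((5 : ℕ) : F) = 0 := by push_cast; linear_combination hτ
      have h5' : ringChar F ∣ 5 := (ringChar.spec F 5).1 h50
      rw [(Nat.prime_dvd_prime_iff_eq hp (by norm_num)).1 h5'] at hcard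
      exact h5 (hcard ▸ dvd_pow_self 5 n.ne_zero)
  have h60 : 60 ∣ Nat.card H := by
    have a4 : 4 ∣ Nat.card H := hVk.card_four ▸ Subgroup.card_dvd_of_le hVH
    have a3 : 3 ∣ Nat.card H := by
      rw [← ow, ← Subgroup.orderOf_mk _ hwH]; exact orderOf_dvd_natCard _
    have a5 : 5 ∣ Nat.card H := by
      rw [← ou, ← Subgroup.orderOf_mk _ huH]; exact orderOf_dvd_natCard _
    omega
  have hxy : x ≠ y := fun e => by
    have hne := Nat.le_of_dvd Nat.card_pos (Subgroup.card_dvd_of_le (H := stdV a b hab) (K := Subgroup.zpowers x) (by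
      rw [stdV, Subgroup.closure_le]
      rintro z (rfl | rfl)
      · show x₀ ∈ _
        rw [show (x₀ : PL) = x by rw [hx, hIJ]; rfl]; exact Subgroup.mem_zpowers _
      · show π (stdH a b hab) ∈ _
        rw [← hhH, ← hy, ← e]; exact Subgroup.mem_zpowers _))
    rw [hVk.card_four, Nat.card_zpowers, ox] at hne
    omega
  have hnc : x * π w ≠ π w * x := fun e => hxy (by rw [hy', ← e, mul_inv_cancel_right])
  have hH0 : 0 < Nat.card H := Nat.card_pos
  refine ⟨H, ?_⟩
  rcases dickson H with ⟨hc1, -⟩ | ⟨T, hT, hle', -⟩ | ⟨⟨e⟩, -⟩ | ⟨⟨e⟩, -⟩ | ⟨h, -⟩ | ⟨z, hz, -⟩ | hf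
  · exfalso
    haveI := hc1
    letI : CommGroup H := IsCyclic.commGroup
    exact hnc (congrArg Subtype.val (mul_comm (⟨x, hxH⟩ : H) ⟨π w, hwH⟩))
  · exfalso
    have hwT : π w ∈ T := by
      by_contra hn
      have := orderOf_dvd_of_pow_eq_one (n := 2) (x := π w) (by rw [sq]; exact (torus_outside hT (hle' hwH) hn).1)
      rw [ow] at this
      omega
    have hxT : x ∉ T := fun hxT => hnc (torus_comm hT hxT hwT)
    have e1 := (torus_outside hT (hle' hxH) hxT).2 _ hwT
    have hxi : x⁻¹ = x := inv_eq_of_mul_eq_one_right (by rw [← sq]; have := pow_orderOf_eq_one x; rwa [ox] at this)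
    have e2 : y = π w * π w * x := by
      rw [hy', show π w * x * (π w)⁻¹ = π w * (x * (π w)⁻¹ * x⁻¹) * x by group]
      congr 1
      rw [show x * (π w)⁻¹ * x⁻¹ = (x * π w * x⁻¹)⁻¹ by group, e1, inv_inv]
    have e3 : π w * π w = y * x := by rw [e2, mul_assoc]; rw [show x * x = 1 by rw [← sq]; have := pow_orderOf_eq_one x; rwa [ox] at this, mul_one]
    have h3' : (y * x) ^ 2 = 1 := by
      have hab' : Commute y x := by
        exact CfsgLib.KleinNormalizer.commute hVk hyV hxV
      rw [hab'.mul_pow, sq, sq, show x * x = 1 by rw [← sq]; have := pow_orderOf_eq_one x; rwa [ox] at this,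
        show y * y = 1 by rw [← sq]; have := pow_orderOf_eq_one y; rwa [oy] at this, one_mul]
    rw [← e3, ← sq, ← pow_mul] at h3'
    have := orderOf_dvd_of_pow_eq_one h3'
    rw [ow] at this
    omega
  · have h12 : Nat.card H = 12 := by
      rw [Nat.card_congr e.toEquiv, nat_card_alternatingGroup, Nat.card_fin]; rfl
    omega
  · have h24 : Nat.card H = 24 := by rw [Nat.card_congr e.toEquiv, Nat.card_perm, Nat.card_fin]; rfl
    omega
  · exact h
  · exfalso
    have hB : ∀ v ∈ H, z⁻¹ * v * z ∈ Bor F := fun v hv => by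
      obtain ⟨b', hb', e⟩ := hz hv
      rw [← e]; simpa [mul_assoc] using hb'
    have hcU : z⁻¹ * (π w * x * (π w)⁻¹ * x⁻¹) * z ∈ U F := by
      set X : Bor F := ⟨_, hB _ hxH⟩
      set W : Bor F := ⟨_, hB _ hwH⟩
      have : δ (W * X * W⁻¹ * X⁻¹) = 1 := by simp [mul_comm]
      have h1 := δ_eq_one.1 this
      simpa [X, W, mul_assoc] using h1
    haveI := ringChar.charP F
    obtain ⟨n, hp, hcard⟩ := FiniteField.card F (ringChar F)
    haveI := Fact.mk hp
    obtain ⟨i, hi⟩ := hcU
    have h1 : (y * x⁻¹) ^ ringChar F = 1 := by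
      rw [hy', show π w * x * (π w)⁻¹ * x⁻¹ = z * up i * z⁻¹ by rw [hi]; group, conj_pow, up, π_u_pow_char, mul_one,
        mul_inv_cancel]
    have h2' : (y * x⁻¹) ^ 2 = 1 := by
      have hab' : Commute y x⁻¹ := CfsgLib.KleinNormalizer.commute hVk hyV (inv_mem hxV)
      rw [hab'.mul_pow, inv_pow, show x ^ 2 = 1 by have := pow_orderOf_eq_one x; rwa [ox] at this,
        show y ^ 2 = 1 by have := pow_orderOf_eq_one y; rwa [oy] at this, inv_one, mul_one]
    have hd := Nat.dvd_gcd (orderOf_dvd_of_pow_eq_one h1) (orderOf_dvd_of_pow_eq_one h2')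
    have hg1 : Nat.gcd (ringChar F) 2 = 1 := (Nat.coprime_primes hp Nat.prime_two).2 (fun e => by
      rw [e] at hcard
      rw [hcard, Nat.pow_mod] at hodd
      simp at hodd)
    rw [hg1, Nat.dvd_one, orderOf_eq_one_iff, mul_inv_eq_one] at hd
    exact hxy hd.symm
  · exfalso
    obtain ⟨θ, K, hK⟩ := hf
    have hcard : Nat.card H = Nat.card (H.map θ.toMonoidHom) := (Subgroup.card_map_of_injective θ.injective).symm
    obtain ⟨m, hm1, hm⟩ := exists_pow_card K
    have hr5 : Nat.card K ≠ 5 := fun e => h5 (hm ▸ e ▸ dvd_pow_self _ (by omega))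
    have hr2 : 1 < Nat.card K := Finite.one_lt_card
    have hro : Nat.card K % 2 = 1 := by
      rw [← hm, Nat.pow_mod] at hodd
      rcases Nat.mod_two_eq_zero_or_one (Nat.card K) with h | h
      · rw [h, zero_pow (by omega)] at hodd; simp at hodd
      · exact h
    have key : ∀ N, (N = Nat.card K * (Nat.card K ^ 2 - 1)) → N ≠ 60 ∧ N ≠ 120 ∧ N ≠ 240 := by
      intro N hN
      subst hN
      rcases Nat.lt_or_ge (Nat.card K) 7 with hlt | hge
      · generalize Nat.card K = r at hr2 hr5 hro hlt
        interval_cases r <;> simp at hro hr5 ⊢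
      · have h49 : 49 ≤ Nat.card K ^ 2 := Nat.pow_le_pow_left hge 2
        have : 7 * 48 ≤ Nat.card K * (Nat.card K ^ 2 - 1) := Nat.mul_le_mul hge (by omega)
        omega
    have hg : Nat.gcd 2 (Nat.card K - 1) = 2 := by
      rw [Nat.gcd_eq_left]; omega
    rcases hK with e | ⟨e, -, hc⟩
    · have := card_pslSub K
      rw [hg] at this
      rw [e] at hcard
      have := key _ this
      omega
    · rw [e, hc] at hcard
      have := key _ hcard
      omega

end CfsgLib.SL2Dickson
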