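import Mathlib
import Cfsg.Agent.Lib.SL2.Icosahedral

/-! Tools for the maximal subgroups of `PSL₂`. -/

set_option autoImplicit false
set_option linter.style.haveILetI false

namespace CfsgLib.SL2Dickson

open Matrix CfsgLib.SL2Torus
open CfsgLib.PSL2Klein (π π_surj π_eq π_eq_one)
open CfsgLib.PSL2Two (mul_entry ext2 entries)
open Classical

variable {F : Type*} [Field F] [Fintype F]

local notation "L" => Matrix.SpecialLinearGroup (Fin 2) F
local notation "PL" => Matrix.ProjectiveSpecialLinearGroup (Fin 2) F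

theorem klein_mk {G : Type*} [Group G] {V : Subgroup G} (h4 : Nat.card V = 4) (h2 : ∀ x ∈ V, x * x = 1) :
    IsKleinFour V := by
  refine ⟨h4, ?_⟩
  haveI : Finite V := Nat.finite_of_card_ne_zero (by omega)
  haveI : Nontrivial V := Finite.one_lt_card_iff_nontrivial.1 (by omega)
  rw [Monoid.exponent_eq_prime_iff Nat.prime_two]
  intro v hv
  haveI := Fact.mk Nat.prime_two
  exact orderOf_eq_prime (Subtype.ext (by rw [sq]; exact h2 v v.2)) hv

theorem coatom_eq {G : Type*} [Group G] {M X : Subgroup G} (hM : IsCoatom M) (hle : M ≤ X) (hX : X ≠ ⊤) : M = X :=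
  hle.antisymm (by
    by_contra h
    exact hX (hM.2 X (lt_of_le_of_ne hle fun e => h (e ▸ le_refl _))))

theorem coatom_map {G : Type*} [Group G] (θ : G ≃* G) {M : Subgroup G} (hM : IsCoatom M) :
    IsCoatom (M.map θ.toMonoidHom) := (θ.mapSubgroup.isCoatom_iff M).2 hM

theorem map_eq_top' {G : Type*} [Group G] (θ : G ≃* G) {M : Subgroup G} :
    M.map θ.toMonoidHom = ⊤ ↔ M = ⊤ := by
  constructor
  · intro h
    apply Subgroup.map_injective (f := θ.toMonoidHom) θ.injective
    rw [h, Subgroup.map_top_of_surjective _ θ.surjective]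
  · rintro rfl; exact Subgroup.map_top_of_surjective _ θ.surjective

/-! ### orders -/

theorem gcd_le_two : Nat.gcd 2 (Fintype.card F - 1) ≤ 2 := Nat.le_of_dvd two_pos (Nat.gcd_dvd_left _ _)

theorem gcd_odd (h : Fintype.card F % 2 = 1) : Nat.gcd 2 (Fintype.card F - 1) = 2 :=
  Nat.gcd_eq_left (by omega)

theorem gcd_even (h : Fintype.card F % 2 = 0) : Nat.gcd 2 (Fintype.card F - 1) = 1 := by
  have := Fintype.one_lt_card (α := F)
  rcases (Nat.dvd_prime Nat.prime_two).1 (Nat.gcd_dvd_left 2 (Fintype.card F - 1)) with e | e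
  · exact e
  · have h2 := Nat.gcd_dvd_right 2 (Fintype.card F - 1)
    rw [e] at h2
    omega

variable (F) in
theorem card_ge_twice (h4 : 4 ≤ Fintype.card F) :
    4 * (Fintype.card F + 1) < Fintype.card F * (Fintype.card F ^ 2 - 1) := by
  set q := Fintype.card F
  have h2 : 16 ≤ q ^ 2 := Nat.pow_le_pow_left h4 2
  calc 4 * (q + 1) ≤ q * (q + 1) := Nat.mul_le_mul_right _ h4
    _ < q * (q ^ 2 - 1) := Nat.mul_lt_mul_of_pos_left (by
      have : q ^ 2 = q * q := sq q
      have : 4 * q ≤ q * q := Nat.mul_le_mul_right q h4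
      omega) (by omega)

theorem exists_torus_minus (h4 : 4 ≤ Fintype.card F) :
    ∃ T : Subgroup PL, IsTorus T ∧ Nat.gcd 2 (Fintype.card F - 1) * Nat.card T = Fintype.card F - 1 := by
  obtain ⟨t, ht, hs⟩ := exists_split h4
  refine ⟨_, ⟨comp t, by rwa [tr_comp], rfl⟩, ?_⟩
  rw [card_map_π (neg_one_mem_cent _)]
  exact card_cent_split (by rwa [tr_comp]) (by rwa [tr_comp])

variable (F) in
theorem exists_torus_plus : ∃ T : Subgroup (Matrix.ProjectiveSpecialLinearGroup (Fin 2) F),
    IsTorus T ∧ Nat.gcd 2 (Fintype.card F - 1) * Nat.card T = Fintype.card F + 1 := by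
  obtain ⟨t, ht, hs⟩ := exists_elliptic (F := F)
  refine ⟨_, ⟨comp t, by rwa [tr_comp], rfl⟩, ?_⟩
  rw [card_map_π (neg_one_mem_cent _)]
  exact card_cent_elliptic (by rwa [tr_comp]) (by rwa [tr_comp])

theorem two_le_card_torus (h4 : 4 ≤ Fintype.card F) {T : Subgroup PL} (hT : IsTorus T) : 2 ≤ Nat.card T := by
  rcases Nat.mod_two_eq_zero_or_one (Fintype.card F) with h | h <;>
    rcases torus_card hT with e | e
  all_goals first
    | (rw [gcd_even h] at e; omega)
    | (rw [gcd_odd h] at e; omega)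

theorem torus_normalizer_ne_top (h4 : 4 ≤ Fintype.card F) {T : Subgroup PL} (hT : IsTorus T) :
    Subgroup.normalizer (T : Set PL) ≠ ⊤ := by
  intro e
  have h := torus_normalizer_card hT
  rw [e, Subgroup.card_top] at h
  have hg := gcd_mul_card F
  have hb := card_ge_twice F h4
  have hq : Nat.gcd 2 (Fintype.card F - 1) * Nat.card T ≤ Fintype.card F + 1 := by
    rcases torus_card hT with e | e <;> omega
  rw [h, mul_left_comm] at hg
  omega

theorem torus_normalizer_dihedral (h4 : 4 ≤ Fintype.card F) {T : Subgroup PL} (hT : IsTorus T) :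
    Nonempty ((Subgroup.normalizer (T : Set PL) : Subgroup PL) ≃* DihedralGroup (Nat.card T)) :=
  dihedral_of_torus hT le_rfl (two_le_card_torus h4 hT) (torus_normalizer_card hT)
    (Nat.card_congr (Subgroup.subgroupOfEquivOfLe Subgroup.le_normalizer).toEquiv)

theorem torus_conj_of_card {T T' : Subgroup PL} (hT : IsTorus T) (hT' : IsTorus T') (h : Nat.card T = Nat.card T') :
    ∃ y : PL, T.map (MulAut.conj y).toMonoidHom = T' := by
  obtain ⟨g, hg, rfl⟩ := hT
  obtain ⟨g', hg', rfl⟩ := hT'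
  have hc : Nat.card (cent g) = Nat.card (cent g') := by
    rw [← card_map_π (neg_one_mem_cent g), ← card_map_π (neg_one_mem_cent g'), h]
  obtain ⟨c, hc⟩ := cent_conj hg hg' hc
  refine ⟨π c, ?_⟩
  rw [← hc, Subgroup.map_map, Subgroup.map_map]
  congr 1

variable (F) in
theorem card_Bor : Nat.gcd 2 (Fintype.card F - 1) * Nat.card (Bor F) = Fintype.card F * (Fintype.card F - 1) := by
  have hrange : (δ (F := F)).range = (powMonoidHom 2 : Fˣ →* Fˣ).range := by
    ext c
    constructor
    · rintro ⟨x, rfl⟩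
      obtain ⟨g, hg, hu⟩ := x.2
      refine ⟨Units.mk0 _ (ne_zero_of_upper hu), Units.ext ?_⟩
      rw [δ_eq x hg]; simp [sq]
    · rintro ⟨a, rfl⟩
      let g : L := ⟨!![(a : F), 0; 0, ((a⁻¹ : Fˣ) : F)], by simp [Matrix.det_fin_two]⟩
      refine ⟨⟨π g, g, rfl, rfl⟩, Units.ext ?_⟩
      rw [δ_eq _ (g := g) rfl]; simp [g, sq]
  have hker : (δ (F := F)).ker = (U F).subgroupOf (Bor F) := by
    ext x; rw [MonoidHom.mem_ker, δ_eq_one, Subgroup.mem_subgroupOf]
  have h := Subgroup.card_mul_index (δ (F := F)).ker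
  rw [Subgroup.index_ker, hrange, hker, Nat.card_congr (Subgroup.subgroupOfEquivOfLe (U_le_Bor F)).toEquiv, card_U] at h
  have h2 := Subgroup.card_mul_index (powMonoidHom 2 : Fˣ →* Fˣ).ker
  rw [Subgroup.index_ker, IsCyclic.card_powMonoidHom_ker, CfsgLib.Linear.Card.card_units_eq, Nat.gcd_comm] at h2
  rw [← h, mul_left_comm, h2]

theorem Bor_ne_top (h4 : 4 ≤ Fintype.card F) : Bor F ≠ ⊤ := by
  intro e
  have h := card_Bor F
  rw [e, Subgroup.card_top, gcd_mul_card] at h
  have := Nat.eq_of_mul_eq_mul_left (by omega) h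
  have h2 : Fintype.card F ^ 2 = Fintype.card F * Fintype.card F := sq _
  have : 4 * Fintype.card F ≤ Fintype.card F * Fintype.card F := Nat.mul_le_mul_right _ h4
  omega

theorem subfield_two_le (K : Subfield F) : 2 ≤ Nat.card K := Finite.one_lt_card

theorem pglSub_ne_top {K : Subfield F} (hK : K ≠ ⊤) : pglSub K ≠ ⊤ := by
  intro e
  obtain ⟨m, hm1, hm⟩ := exists_pow_card K
  have hm2 : 2 ≤ m := by
    by_contra h
    obtain rfl : m = 1 := by omega
    exact hK (subfield_eq_top (by rw [← hm, pow_one]))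
  have h2 := subfield_two_le K
  have hle := pglSub_card_le K
  rw [e, Subgroup.card_top] at hle
  have hg := gcd_mul_card F
  have hgl : Nat.gcd 2 (Fintype.card F - 1) * Nat.card PL ≤ 2 * (Nat.card K * (Nat.card K ^ 2 - 1)) :=
    Nat.mul_le_mul gcd_le_two hle
  have hr2 : Nat.card K ^ 2 ≤ Fintype.card F := hm ▸ Nat.pow_le_pow_right (by omega) hm2
  set r := Nat.card K
  have h2r : 2 * r ≤ r ^ 2 := by rw [sq]; exact Nat.mul_le_mul_right r h2
  have hlt : 2 * (r * (r ^ 2 - 1)) < Fintype.card F * (Fintype.card F ^ 2 - 1) := by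
    calc 2 * (r * (r ^ 2 - 1)) = 2 * r * (r ^ 2 - 1) := by ring
      _ ≤ Fintype.card F * (r ^ 2 - 1) := Nat.mul_le_mul_right _ (by omega)
      _ < Fintype.card F * (Fintype.card F ^ 2 - 1) := Nat.mul_lt_mul_of_pos_left (by
          have : r ^ 2 ^ 1 < Fintype.card F ^ 2 := by
            rw [pow_one]; exact Nat.pow_lt_pow_left (by omega) two_ne_zero
          rw [pow_one] at this
          have := Nat.one_le_pow 2 r (by omega)
          omega) (by omega)
  omega

theorem pslSub_ne_top {K : Subfield F} (hK : K ≠ ⊤) : pslSub K ≠ ⊤ := fun e =>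
  pglSub_ne_top hK (top_le_iff.1 (e ▸ pslSub_le_pglSub K))

theorem card_pslSub_lt {K K' : Subfield F} (h : Nat.card K < Nat.card K') (hg : Nat.card K % 2 = Nat.card K' % 2) :
    Nat.card (pslSub K) < Nat.card (pslSub K') := by
  have h2 := subfield_two_le K
  have c1 := card_pslSub K
  have c2 := card_pslSub K'
  have hgg : Nat.gcd 2 (Nat.card K - 1) = Nat.gcd 2 (Nat.card K' - 1) := by
    rw [Nat.gcd_rec 2, Nat.gcd_rec 2, show (Nat.card K - 1) % 2 = (Nat.card K' - 1) % 2 by omega]
  rcases cube_lt h with hlt | h1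
  · rw [← c1, ← c2, hgg] at hlt
    exact Nat.lt_of_mul_lt_mul_left hlt
  · omega

/-! ### cases for a maximal subgroup -/

theorem not_cyc (h4 : 4 ≤ Fintype.card F) {M : Subgroup PL} (hM : IsCoatom M) : ¬ CycCase M := by
  rintro ⟨hc, hb⟩
  obtain ⟨T, hT, hle⟩ : ∃ T : Subgroup PL, IsTorus T ∧ M ≤ T := by
    rcases hb with rfl | h
    · obtain ⟨T, hT, -⟩ := exists_torus_plus F
      exact ⟨T, hT, bot_le⟩
    · exact h
  have e := coatom_eq hM (hle.trans Subgroup.le_normalizer) (torus_normalizer_ne_top h4 hT)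
  have h1 := Subgroup.card_dvd_of_le hle
  rw [e, torus_normalizer_card hT] at h1
  have := Nat.le_of_dvd Nat.card_pos h1
  have := two_le_card_torus h4 hT
  omega

theorem dih_max (h4 : 4 ≤ Fintype.card F) {M : Subgroup PL} (hM : IsCoatom M) (h : DihCase M) :
    ∃ T : Subgroup PL, IsTorus T ∧ M = Subgroup.normalizer (T : Set PL) := by
  obtain ⟨T, hT, hle, -⟩ := h
  exact ⟨T, hT, coatom_eq hM hle (torus_normalizer_ne_top h4 hT)⟩

theorem bor_max (h4 : 4 ≤ Fintype.card F) {M : Subgroup PL} (hM : IsCoatom M) (h : BorCase M) :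
    Nat.gcd 2 (Fintype.card F - 1) * Nat.card M = Fintype.card F * (Fintype.card F - 1) := by
  obtain ⟨y, hy, -⟩ := h
  rw [coatom_eq hM hy (fun e => Bor_ne_top h4 ((map_eq_top' _).1 e)),
    Subgroup.card_map_of_injective (MulAut.conj y).injective]
  exact card_Bor F

/-- the field case of a maximal subgroup -/
theorem field_max {M : Subgroup PL} (hM : IsCoatom M) (h : FieldCase M) :
    ∃ (θ : PL ≃* PL) (K : Subfield F) (m : ℕ), K ≠ ⊤ ∧ Nat.card K ^ m = Fintype.card F ∧
      ((Fintype.card F % 2 = 1 ∧ m = 2 ∧ M.map θ.toMonoidHom = pglSub K ∧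
          Nat.card (pglSub K) = Nat.card K * (Nat.card K ^ 2 - 1)) ∨
        (m.Prime ∧ (Fintype.card F % 2 = 1 → Odd m) ∧ M.map θ.toMonoidHom = pslSub K)) := by
  obtain ⟨θ, K, hK⟩ := h
  obtain ⟨m, hm1, hm⟩ := exists_pow_card K
  have hM' := coatom_map θ hM
  set r := Nat.card K with hr
  have hr2 : 2 ≤ r := subfield_two_le K
  have hpar : Fintype.card F % 2 = r % 2 := by
    rw [← hm, Nat.pow_mod]
    rcases Nat.mod_two_eq_zero_or_one r with e | e <;> rw [e]
    · simp [zero_pow (by omega : m ≠ 0)]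
    · simp
  have hKne : K ≠ ⊤ := by
    rintro rfl
    have hm1' : r = Fintype.card F := by
      rw [hr]; exact (Nat.card_congr Subfield.topEquiv.toEquiv).trans Nat.card_eq_fintype_card
    rcases hK with e | ⟨e, hodd, hc⟩
    · exact hM'.1 (e.trans pslSub_top)
    · have h1 := gcd_mul_card F
      have h2 : pglSub (⊤ : Subfield F) = ⊤ := top_le_iff.1 (pslSub_top.symm.le.trans (pslSub_le_pglSub _))
      rw [h2, Subgroup.card_top, hm1'] at hc
      rw [gcd_odd (by rw [hpar]; exact hodd)] at h1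
      have := Nat.card_pos (α := PL)
      omega
  refine ⟨θ, K, m, hKne, hm, ?_⟩
  have hm2 : 2 ≤ m := by
    by_contra hlt
    obtain rfl : m = 1 := by omega
    exact hKne (subfield_eq_top (by rw [← hm, pow_one]))
  have between : ∀ d, d ∣ m → 1 < d → d < m → ∃ K' : Subfield F, K ≤ K' ∧ K' ≠ ⊤ ∧ r < Nat.card K' ∧
      Nat.card K' % 2 = r % 2 ∧ Nat.card K' ^ (m / d) = Fintype.card F := by
    intro d hd h1 h2
    have e : (r ^ d) ^ (m / d) = Fintype.card F := by rw [← pow_mul, Nat.mul_div_cancel' hd, hm]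
    obtain ⟨K', hK'⟩ := exists_subfield (F := F) (le_trans hr2 (Nat.le_self_pow (by omega) r)) e
    refine ⟨K', subfield_le_of_pow hK', ?_, ?_, ?_, by rw [hK']; exact e⟩
    · rintro rfl
      rw [Nat.card_congr Subfield.topEquiv.toEquiv, Nat.card_eq_fintype_card, ← hm] at hK'
      exact absurd (Nat.pow_right_injective hr2 hK') (by omega)
    · rw [hK']; calc r = r ^ 1 := (pow_one r).symm
        _ < r ^ d := Nat.pow_lt_pow_right (by omega) h1
    · rw [hK', Nat.pow_mod]
      rcases Nat.mod_two_eq_zero_or_one r with e | e <;> rw [e]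
      · simp [zero_pow (by omega : d ≠ 0)]
      · simp
  rcases hK with e | ⟨e, hodd, hc⟩
  · right
    refine ⟨?_, fun hq => ?_, e⟩
    · by_contra hnp
      obtain ⟨d, hd, hd1, hdm⟩ := Nat.exists_dvd_of_not_prime2 hm2 hnp
      obtain ⟨K', hle, hne, hlt, hp, -⟩ := between d hd hd1 hdm
      have h1 := card_pslSub_lt (K := K) (K' := K') hlt hp.symm
      rw [coatom_eq hM' (e ▸ pslSub_mono hle) (pslSub_ne_top hne)] at e
      rw [e] at h1
      omega
    · rw [← Nat.not_even_iff_odd]
      intro hev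
      have hc := pglSub_card_of_squares (K := K) (fun k hk => isSquare_of_even hq hm hev hk)
      have e2 := coatom_eq hM' (e ▸ pslSub_le_pglSub K) (pglSub_ne_top hKne)
      rw [e] at e2
      rw [← e2] at hc
      have c1 := card_pslSub K
      rw [← hc, Nat.gcd_eq_left (show 2 ∣ Nat.card K - 1 by omega)] at c1
      have := Nat.card_pos (α := pslSub K)
      omega
  · left
    have hq : Fintype.card F % 2 = 1 := by rw [hpar]; exact hodd
    refine ⟨hq, ?_, e, hc⟩
    have hev : Even m := by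
      rw [← Nat.not_odd_iff_even]
      intro ho
      rw [pglSub_eq_pslSub hq hm ho] at hc
      have c1 := card_pslSub K
      rw [hc, Nat.gcd_eq_left (show 2 ∣ Nat.card K - 1 by omega)] at c1
      have h4 : 4 ≤ Nat.card K ^ 2 := Nat.pow_le_pow_left hr2 2
      rw [← hr] at c1 h4
      have : 0 < r * (r ^ 2 - 1) := Nat.mul_pos (by omega) (by omega)
      omega
    by_contra hne
    obtain ⟨j, rfl⟩ := hev
    obtain ⟨K', hle, hneT, hlt, -, hK'⟩ := between j (Dvd.intro 2 (by ring)) (by omega) (by omega)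
    rw [show (j + j) / j = 2 by rw [← two_mul, Nat.mul_div_cancel _ (by omega)]] at hK'
    have hc' := pglSub_card_of_squares (K := K') (fun k hk => isSquare_of_even hq hK' even_two hk)
    have e2 := coatom_eq hM' (e ▸ pglSub_mono hle) (pglSub_ne_top hneT)
    rw [e] at e2
    rw [← e2, hc] at hc'
    rcases cube_lt hlt with h | h <;> omega

end CfsgLib.SL2Dickson
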