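import Mathlib
import Cfsg.Agent.Lib.SL2.MaxTools

/-! Maximal subgroups of `PSL₂(2ⁿ)`. -/

set_option autoImplicit false
set_option linter.style.haveILetI false

namespace CfsgLib.SL2Dickson

open Matrix CfsgLib.SL2Torus
open CfsgLib.PSL2Klein (π π_surj π_eq π_eq_one)
open Classical

variable {F : Type*} [Field F] [Fintype F]

local notation "L" => Matrix.SpecialLinearGroup (Fin 2) F
local notation "PL" => Matrix.ProjectiveSpecialLinearGroup (Fin 2) F

theorem ringChar_even (he : Fintype.card F % 2 = 0) : ringChar F = 2 := by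
  by_contra h
  have := FiniteField.odd_card_of_char_ne_two h
  omega

theorem semi_not_involution (he : Fintype.card F % 2 = 0) {x : PL} (hs : IsSemi x) (hx : orderOf x = 2) : False := by
  obtain ⟨T, hT, hxT⟩ := exists_torus hs
  have h2 := orderOf_dvd_natCard (⟨x, hxT⟩ : T)
  rw [Subgroup.orderOf_mk, hx] at h2
  rcases torus_card hT with e | e <;>
  · rw [gcd_even he] at e
    have := Fintype.one_lt_card (α := F)
    omega

theorem no_exceptional (he : Fintype.card F % 2 = 0) {M : Subgroup PL} :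
    ¬ A4Case M ∧ ¬ S4Case M ∧ ¬ A5Case M := by
  have key : 2 ∣ Nat.card M → (∀ x ∈ M, x ≠ 1 → IsSemi x) → False := fun hd hs => by
    haveI := Fact.mk Nat.prime_two
    obtain ⟨x, hx⟩ := exists_prime_orderOf_dvd_card' 2 hd
    rw [← Subgroup.orderOf_coe] at hx
    exact semi_not_involution he (hs x x.2 fun e => by rw [e, orderOf_one] at hx; omega) hx
  refine ⟨?_, ?_, ?_⟩
  · rintro ⟨⟨e⟩, hs⟩
    exact key (by rw [Nat.card_congr e.toEquiv, nat_card_alternatingGroup, Nat.card_fin]; decide) hs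
  · rintro ⟨⟨e⟩, hs⟩
    exact key (by rw [Nat.card_congr e.toEquiv, Nat.card_perm, Nat.card_fin]; decide) hs
  · rintro ⟨⟨e⟩, hs | h3⟩
    · exact key (by rw [Nat.card_congr e.toEquiv, nat_card_alternatingGroup, Nat.card_fin]; decide) hs
    · rw [ringChar_even he] at h3; omega

/-- `PSL₂(2)` is the normaliser of a torus -/
theorem pslSub_two_le (he : Fintype.card F % 2 = 0) {K : Subfield F} (hK : Nat.card K = 2) :
    ∃ T : Subgroup PL, IsTorus T ∧ Nat.card T % 3 = 0 ∧ pslSub K ≤ Subgroup.normalizer (T : Set PL) := by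
  have hc := card_pslSub K
  rw [hK] at hc
  rw [show Nat.gcd 2 (2 - 1) = 1 by decide, one_mul, show 2 * (2 ^ 2 - 1) = 6 by decide] at hc
  haveI := Fact.mk Nat.prime_three
  obtain ⟨x, hx⟩ := exists_prime_orderOf_dvd_card' (G := pslSub K) 3 (by omega)
  have hx' : orderOf (x : PL) = 3 := by rw [Subgroup.orderOf_coe, hx]
  have hx1 : (x : PL) ≠ 1 := fun e => by rw [e, orderOf_one] at hx'; omega
  obtain ⟨T, hT, hxT⟩ : ∃ T : Subgroup PL, IsTorus T ∧ (x : PL) ∈ T := by
    refine exists_torus ?_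
    by_contra hs
    obtain ⟨y, b, hb⟩ := exists_conj_mem_U hx1 hs
    haveI := ringChar.charP F
    have h2 : (x : PL) ^ ringChar F = 1 := by
      rw [show (x : PL) = y * up b * y⁻¹ by rw [hb]; group, conj_pow, up, π_u_pow_char, mul_one, mul_inv_cancel]
    rw [ringChar_even he] at h2
    have := orderOf_dvd_of_pow_eq_one h2
    rw [hx'] at this
    omega
  refine ⟨T, hT, ?_, ?_⟩
  · have := orderOf_dvd_natCard (⟨(x : PL), hxT⟩ : T)
    rw [Subgroup.orderOf_mk, hx'] at this
    omega
  intro y hy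
  have hidx : (Subgroup.zpowers x).index = 2 := by
    have := Subgroup.card_mul_index (Subgroup.zpowers x)
    rw [Nat.card_zpowers, hx] at this
    omega
  haveI := Subgroup.normal_of_index_eq_two hidx
  obtain ⟨i, hi⟩ := Subgroup.mem_zpowers_iff.1
    (Subgroup.Normal.conj_mem inferInstance x (Subgroup.mem_zpowers x) (⟨y, hy⟩ : pslSub K))
  refine Subgroup.mem_normalizer_iff_map_conj_eq.2 ?_
  refine torus_eq (torus_conj hT y) hT (x := y * x * y⁻¹) ⟨x, hxT, rfl⟩ ?_ (fun e => hx1 (conj_eq_one_iff.1 e))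
  have : y * (x : PL) * y⁻¹ = (x : PL) ^ i := by
    have := (congrArg Subtype.val hi).symm
    simpa using this
  rw [this]
  exact T.zpow_mem hxT i

end CfsgLib.SL2Dickson
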