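import Mathlib
import Cfsg.Agent.Lib.SL2.MaxTools
import Cfsg.Agent.S0802
import Cfsg.Agent.S0803
import Cfsg.Agent.S0804

/-! Maximal subgroups of `PSL₂(q)`, `q` odd: the exceptional cases. -/

set_option autoImplicit false
set_option linter.style.haveILetI false

namespace CfsgLib.SL2Dickson

open Matrix CfsgLib.SL2Torus
open CfsgLib.PSL2Klein (π π_surj π_eq π_eq_one)
open Classical

variable {F : Type*} [Field F] [Fintype F]

local notation "L" => Matrix.SpecialLinearGroup (Fin 2) F
local notation "PL" => Matrix.ProjectiveSpecialLinearGroup (Fin 2) F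

/-- orders of Klein normalisers -/
theorem klein_card (hodd : Fintype.card F % 2 = 1) {V : Subgroup PL} (hV : IsKleinFour V) :
    ((Fintype.card F % 8 = 3 ∨ Fintype.card F % 8 = 5) ∧ Nat.card (Subgroup.normalizer (V : Set PL)) = 12) ∨
    ((Fintype.card F % 8 = 1 ∨ Fintype.card F % 8 = 7) ∧ Nat.card (Subgroup.normalizer (V : Set PL)) = 24) := by
  obtain ⟨g, r, hr, hg⟩ := CfsgLib.PSL2Klein.exists_four hodd hV
  have hc : Nat.card (Subgroup.normalizer (V : Set PL)) =
      Nat.card (Subgroup.normalizer (CfsgLib.PSL2Klein.four hodd r : Set PL)) := by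
    rw [← hg, ← Subgroup.map_equiv_normalizer_eq, Subgroup.card_map_of_injective (MulAut.conj g).injective]
  rw [hc]
  rcases (CfsgLib.PSL2Klein.normalizer_four hodd hr).2 with ⟨h8, h⟩ | ⟨h8, h⟩
  · refine Or.inl ⟨?_, h⟩
    rw [CfsgLib.PSL2Klein.eight_dvd_rot_iff hodd] at h8
    omega
  · exact Or.inr ⟨(CfsgLib.PSL2Klein.eight_dvd_rot_iff hodd).1 h8, h⟩

/-- the normal four group of `S₄` -/
def fourS4 : Subgroup (Equiv.Perm (Fin 4)) where
  carrier := {σ | σ * σ = 1 ∧ Equiv.Perm.sign σ = 1}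
  one_mem' := by simp
  mul_mem' := by
    have h : ∀ a b : Equiv.Perm (Fin 4), a * a = 1 ∧ Equiv.Perm.sign a = 1 → b * b = 1 ∧ Equiv.Perm.sign b = 1 →
        a * b * (a * b) = 1 ∧ Equiv.Perm.sign (a * b) = 1 := by decide +kernel
    exact fun {a b} ha hb => h a b ha hb
  inv_mem' := by
    have h : ∀ a : Equiv.Perm (Fin 4), a * a = 1 ∧ Equiv.Perm.sign a = 1 →
        a⁻¹ * a⁻¹ = 1 ∧ Equiv.Perm.sign a⁻¹ = 1 := by decide +kernel
    exact fun {a} ha => h a ha

theorem fourS4_facts : Nat.card fourS4 = 4 ∧ fourS4 ≤ alternatingGroup (Fin 4) ∧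
    ∀ g : Equiv.Perm (Fin 4), ∀ v ∈ fourS4, g * v * g⁻¹ ∈ fourS4 := by
  refine ⟨?_, fun v hv => hv.2, ?_⟩
  · show Nat.card {σ : Equiv.Perm (Fin 4) // σ * σ = 1 ∧ Equiv.Perm.sign σ = 1} = 4
    rw [Nat.card_eq_fintype_card, Fintype.card_subtype]
    decide +kernel
  · have h : ∀ g v : Equiv.Perm (Fin 4), v * v = 1 ∧ Equiv.Perm.sign v = 1 →
        g * v * g⁻¹ * (g * v * g⁻¹) = 1 ∧ Equiv.Perm.sign (g * v * g⁻¹) = 1 := by decide +kernel
    exact h

theorem mem_normalizer_of_conj {G : Type*} [Group G] [Finite G] {V : Subgroup G} {x : G}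
    (h : ∀ v ∈ V, x * v * x⁻¹ ∈ V) : x ∈ Subgroup.normalizer (V : Set G) :=
  Subgroup.mem_normalizer_iff_map_conj_eq.2 (Subgroup.eq_of_le_of_card_ge
    (by rintro _ ⟨v, hv, rfl⟩; exact h v hv)
    (le_of_eq (Subgroup.card_map_of_injective (MulAut.conj x).injective).symm))

theorem klein_of_map {G H : Type*} [Group G] [Group H] [Finite G] (f : H →* G) (hf : Function.Injective f)
    {W : Subgroup H} (h4 : Nat.card W = 4) (h2 : ∀ w ∈ W, w * w = 1) (hn : ∀ g : H, ∀ w ∈ W, g * w * g⁻¹ ∈ W) :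
    IsKleinFour (W.map f) ∧ f.range ≤ Subgroup.normalizer ((W.map f : Subgroup G) : Set G) := by
  refine ⟨klein_mk (by rw [Subgroup.card_map_of_injective hf, h4]) ?_, ?_⟩
  · rintro _ ⟨w, hw, rfl⟩; rw [← map_mul, h2 w hw, map_one]
  · rintro _ ⟨g, rfl⟩
    refine mem_normalizer_of_conj ?_
    rintro _ ⟨w, hw, rfl⟩
    exact ⟨_, hn g w hw, by simp⟩

/-- the normal four group of a subgroup `A₄` or `S₄` -/
theorem klein_of_small {M : Subgroup PL}
    (h : Nonempty (M ≃* alternatingGroup (Fin 4)) ∨ Nonempty (M ≃* Equiv.Perm (Fin 4))) :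
    ∃ V : Subgroup PL, IsKleinFour V ∧ M ≤ Subgroup.normalizer (V : Set PL) := by
  obtain ⟨h4, hle, hn⟩ := fourS4_facts
  rcases h with ⟨⟨e⟩⟩ | ⟨⟨e⟩⟩
  · obtain ⟨h1, h2⟩ := klein_of_map (M.subtype.comp e.symm.toMonoidHom)
      (M.subtype_injective.comp e.symm.injective) (W := fourS4.subgroupOf (alternatingGroup (Fin 4)))
      (by rw [Nat.card_congr (Subgroup.subgroupOfEquivOfLe hle).toEquiv, h4])
      (fun w hw => Subtype.ext hw.1) (fun g w hw => hn g.1 w.1 hw)
    exact ⟨_, h1, fun x hx => h2 ⟨e ⟨x, hx⟩, by simp⟩⟩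
  · obtain ⟨h1, h2⟩ := klein_of_map (M.subtype.comp e.symm.toMonoidHom)
      (M.subtype_injective.comp e.symm.injective) (W := fourS4) h4 (fun w hw => hw.1) hn
    exact ⟨_, h1, fun x hx => h2 ⟨e ⟨x, hx⟩, by simp⟩⟩

/-- stabiliser of a point in `A₅` -/
def stabA5 : Subgroup (alternatingGroup (Fin 5)) where
  carrier := {σ | σ.1 0 = 0}
  one_mem' := rfl
  mul_mem' := fun {a b} ha hb => by
    show a.1 (b.1 0) = 0
    rw [show b.1 0 = 0 from hb]; exact ha
  inv_mem' := fun {a} ha => by
    show a.1⁻¹ 0 = 0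
    rw [Equiv.Perm.inv_def, Equiv.symm_apply_eq]; exact ha.symm

/-- a four group inside it -/
def fourA5 : Subgroup stabA5 where
  carrier := {σ | σ * σ = 1}
  one_mem' := by simp
  mul_mem' := by
    have h : ∀ a b : alternatingGroup (Fin 5), a.1 0 = 0 → b.1 0 = 0 → a * a = 1 → b * b = 1 →
        a * b * (a * b) = 1 := by decide +kernel
    exact fun {a b} ha hb => Subtype.ext (h a.1 b.1 a.2 b.2 (congrArg Subtype.val ha) (congrArg Subtype.val hb))
  inv_mem' := fun {a} ha => by
    show a⁻¹ * a⁻¹ = 1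
    rw [← _root_.mul_inv_rev, show a * a = 1 from ha, inv_one]

theorem stabA5_facts : Nat.card stabA5 = 12 ∧ Nat.card fourA5 = 4 := by
  constructor
  · show Nat.card {σ : alternatingGroup (Fin 5) // σ.1 0 = 0} = 12
    rw [Nat.card_eq_fintype_card, Fintype.card_subtype]
    decide +kernel
  · have e : fourA5 ≃ {σ : alternatingGroup (Fin 5) // σ.1 0 = 0 ∧ σ * σ = 1} :=
      { toFun := fun x => ⟨x.1.1, x.1.2, congrArg Subtype.val x.2⟩
        invFun := fun x => ⟨⟨x.1, x.2.1⟩, Subtype.ext x.2.2⟩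
        left_inv := fun x => rfl
        right_inv := fun x => rfl }
    rw [Nat.card_congr e, Nat.card_eq_fintype_card, Fintype.card_subtype]
    decide +kernel

/-- a subgroup `A₅` contains some Klein normaliser when that has order twelve -/
theorem klein_in_A5 (hodd : Fintype.card F % 2 = 1) (h8 : Fintype.card F % 8 = 3 ∨ Fintype.card F % 8 = 5)
    {H : Subgroup PL} (hH : Nonempty (H ≃* alternatingGroup (Fin 5))) :
    ∃ V : Subgroup PL, IsKleinFour V ∧ Subgroup.normalizer (V : Set PL) ≤ H := by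
  obtain ⟨e⟩ := hH
  set f : stabA5 →* PL := H.subtype.comp (e.symm.toMonoidHom.comp stabA5.subtype) with hf
  have hfi : Function.Injective f := H.subtype_injective.comp (e.symm.injective.comp stabA5.subtype_injective)
  obtain ⟨h1, h2⟩ := klein_of_map f hfi (W := fourA5) stabA5_facts.2 (fun w hw => hw)
    (fun g w hw => by
      show g * w * g⁻¹ * (g * w * g⁻¹) = 1
      rw [show g * w * g⁻¹ * (g * w * g⁻¹) = g * (w * w) * g⁻¹ by group, show w * w = 1 from hw, mul_one,
        mul_inv_cancel])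
  refine ⟨_, h1, ?_⟩
  rw [← Subgroup.eq_of_le_of_card_ge h2]
  · rintro _ ⟨x, rfl⟩; exact (e.symm _).2
  · rcases klein_card hodd h1 with ⟨-, h⟩ | ⟨h', -⟩
    · rw [h, ← Nat.card_congr (MonoidHom.ofInjective hfi).toEquiv, stabA5_facts.1]
    · omega

theorem prime_field (F : Type*) [Field F] [Fintype F] :
    ∃ K : Subfield F, Nat.card K = ringChar F := by
  haveI := ringChar.charP F
  obtain ⟨n, hp, hcard⟩ := FiniteField.card F (ringChar F)
  exact exists_subfield hp.two_le hcard.symm

theorem ringChar_odd (hodd : Fintype.card F % 2 = 1) : 3 ≤ ringChar F := by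
  haveI := ringChar.charP F
  obtain ⟨n, hp, hcard⟩ := FiniteField.card F (ringChar F)
  by_contra h
  have h2 := hp.two_le
  rw [show ringChar F = 2 by omega] at hcard
  rw [hcard, Nat.pow_mod] at hodd
  simp [zero_pow n.ne_zero] at hodd

theorem pow_eq_of_semi {M : Subgroup PL} (hs : ∀ x ∈ M, x ≠ 1 → IsSemi x) : ¬ ringChar F ∣ Nat.card M := by
  intro hd
  haveI := ringChar.charP F
  obtain ⟨n, hp, hcard⟩ := FiniteField.card F (ringChar F)
  haveI := Fact.mk hp
  obtain ⟨x, hx⟩ := exists_prime_orderOf_dvd_card' (ringChar F) hd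
  rw [← Subgroup.orderOf_coe] at hx
  have hx1 : (x : PL) ≠ 1 := fun e => by rw [e, orderOf_one] at hx; exact hp.ne_one hx.symm
  exact not_semi_of_pow (ringChar F) (hx ▸ pow_orderOf_eq_one _) hx1 (hs x x.2 hx1)

theorem pgl_prime_card {K : Subfield F} (hK : Nat.card K = ringChar F) (hodd : Fintype.card F % 2 = 1)
    (h5 : 5 ≤ ringChar F) : 60 ≤ Nat.card (pglSub K) ∧ (ringChar F ≠ 5 → 168 ≤ Nat.card (pglSub K)) := by
  have h1 := Nat.le_of_dvd Nat.card_pos (Subgroup.card_dvd_of_le (pslSub_le_pglSub K))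
  have c := card_pslSub K
  rw [hK, Nat.gcd_eq_left] at c
  · have hp : ringChar F = 5 ∨ 7 ≤ ringChar F := by
      haveI := ringChar.charP F
      obtain ⟨n, hp, -⟩ := FiniteField.card F (ringChar F)
      by_contra h
      have : ringChar F = 6 := by omega
      rw [this] at hp; norm_num at hp
    rcases hp with e | e
    · rw [e, show 5 * (5 ^ 2 - 1) = 120 by norm_num] at c
      exact ⟨by omega, fun h => absurd e h⟩
    · have h49 : 49 ≤ ringChar F ^ 2 := Nat.pow_le_pow_left e 2
      have : 7 * 48 ≤ ringChar F * (ringChar F ^ 2 - 1) := Nat.mul_le_mul e (by omega)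
      omega
  · haveI := ringChar.charP F
    obtain ⟨n, hp, hcard⟩ := FiniteField.card F (ringChar F)
    rcases hp.eq_two_or_odd with h | h <;> omega

/-- maximal subgroups `A₄` and `S₄` live over prime fields -/
theorem small_max (hodd : Fintype.card F % 2 = 1) {M : Subgroup PL} (hM : IsCoatom M)
    (h : A4Case M ∨ S4Case M) :
    Fintype.card F = ringChar F ∧ 5 ≤ ringChar F ∧ ∃ V : Subgroup PL, IsKleinFour V ∧ M = Subgroup.normalizer (V : Set PL) := by
  have hs : ∀ x ∈ M, x ≠ 1 → IsSemi x := h.elim And.right And.right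
  have hcard : Nat.card M = 12 ∨ Nat.card M = 24 := by
    rcases h with ⟨⟨e⟩, -⟩ | ⟨⟨e⟩, -⟩
    · left; rw [Nat.card_congr e.toEquiv, nat_card_alternatingGroup, Nat.card_fin]; rfl
    · right; rw [Nat.card_congr e.toEquiv, Nat.card_perm, Nat.card_fin]; rfl
  obtain ⟨n, hp, hq⟩ := (haveI := ringChar.charP F; FiniteField.card F (ringChar F))
  have h5 : 5 ≤ ringChar F := by
    have h3 := ringChar_odd hodd
    have hne := pow_eq_of_semi hs
    by_contra h
    interval_cases hr : ringChar F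
    · rcases hcard with e | e <;> rw [e] at hne <;> exact hne (by norm_num)
    · norm_num at hp
  obtain ⟨V, hV, hle⟩ := klein_of_small (h.imp And.left And.left)
  have h60 : 4 ≤ Fintype.card F := by
    rw [hq]; exact le_trans (by omega) (Nat.le_self_pow n.ne_zero _)
  have hNne : Subgroup.normalizer (V : Set PL) ≠ ⊤ := by
    intro e
    obtain ⟨K, hK⟩ := prime_field F
    have h1 := (pgl_prime_card hK hodd h5).1
    have h2 : Nat.card (pglSub K) ≤ Nat.card PL := Subgroup.card_le_card_group _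
    rcases klein_card hodd hV with ⟨-, hc⟩ | ⟨-, hc⟩ <;> rw [e, Subgroup.card_top] at hc <;> omega
  have heq := coatom_eq hM hle hNne
  refine ⟨?_, h5, V, hV, heq⟩
  obtain ⟨K, hK⟩ := prime_field F
  by_contra hne
  have hKtop : K ≠ ⊤ := by
    rintro rfl
    rw [Nat.card_congr Subfield.topEquiv.toEquiv, Nat.card_eq_fintype_card] at hK
    exact hne hK
  obtain ⟨θ, hθ⟩ := klein_normalizer_le hodd K hV
  rw [← heq] at hθ
  have e := coatom_eq (coatom_map θ hM) hθ (pglSub_ne_top hKtop)
  have h1 := (pgl_prime_card hK hodd h5).1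
  rw [← e, Subgroup.card_map_of_injective θ.injective] at h1
  omega

theorem A4_max (hodd : Fintype.card F % 2 = 1) {M : Subgroup PL} (hM : IsCoatom M) (h : A4Case M) :
    Fintype.card F = ringChar F ∧ (ringChar F % 8 = 3 ∨ ringChar F % 8 = 5) ∧
      ¬ (ringChar F % 10 = 1 ∨ ringChar F % 10 = 9) := by
  obtain ⟨hq, h5, V, hV, rfl⟩ := small_max hodd hM (Or.inl h)
  have hc : Nat.card (Subgroup.normalizer (V : Set PL)) = 12 := by
    obtain ⟨⟨e⟩, -⟩ := h
    rw [Nat.card_congr e.toEquiv, nat_card_alternatingGroup, Nat.card_fin]; rfl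
  have h8 : Fintype.card F % 8 = 3 ∨ Fintype.card F % 8 = 5 := by
    rcases klein_card hodd hV with ⟨h, -⟩ | ⟨-, h24⟩
    · exact h
    · omega
  refine ⟨hq, hq ▸ h8, fun h10 => ?_⟩
  -- an icosahedral subgroup
  rw [← hq] at h10
  have h5q : 5 ∣ Fintype.card F * (Fintype.card F ^ 2 - 1) := by
    refine dvd_mul_of_dvd_right ?_ _
    have : Fintype.card F ^ 2 % 5 = 1 := by
      rw [Nat.pow_mod]; rcases h10 with e | e
      · rw [show Fintype.card F % 5 = 1 by omega]
      · rw [show Fintype.card F % 5 = 4 by omega]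
    omega
  obtain ⟨H, hH⟩ := (Cfsg.Agent.S0804.result rfl).2 h5q
  obtain ⟨W, hW, hWle⟩ := klein_in_A5 hodd h8 hH
  obtain ⟨a, b, -, -, hab⟩ := exists_std (⊤ : Subfield F) hodd
  obtain ⟨θ₁, hθ₁⟩ := klein_transitive hodd hab hV
  obtain ⟨θ₂, hθ₂⟩ := klein_transitive hodd hab hW
  have hmap : V.map (θ₁.trans θ₂.symm).toMonoidHom = W := by
    rw [show (θ₁.trans θ₂.symm).toMonoidHom = θ₂.symm.toMonoidHom.comp θ₁.toMonoidHom from rfl,
      ← Subgroup.map_map, hθ₁, ← hθ₂, Subgroup.map_map]
    rw [show θ₂.symm.toMonoidHom.comp θ₂.toMonoidHom = MonoidHom.id PL by ext x; simp, Subgroup.map_id]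
  have hM' := coatom_map (θ₁.trans θ₂.symm) hM
  rw [Subgroup.map_equiv_normalizer_eq, hmap] at hM'
  have hH60 : Nat.card H = 60 := by
    obtain ⟨e⟩ := hH
    rw [Nat.card_congr e.toEquiv, nat_card_alternatingGroup, Nat.card_fin]; rfl
  have hHne : H ≠ ⊤ := by
    intro e
    rw [e, Subgroup.card_top] at hH60
    obtain ⟨K, hK⟩ := prime_field F
    have h1 := (pgl_prime_card hK hodd h5).2 (by omega)
    have h2 : Nat.card (pglSub K) ≤ Nat.card PL := Subgroup.card_le_card_group _
    omega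
  have e := coatom_eq hM' hWle hHne
  rcases klein_card hodd hW with ⟨-, h⟩ | ⟨-, h⟩ <;> rw [e, hH60] at h <;> omega

theorem S4_max (hodd : Fintype.card F % 2 = 1) {M : Subgroup PL} (hM : IsCoatom M) (h : S4Case M) :
    Fintype.card F = ringChar F ∧ (ringChar F % 8 = 1 ∨ ringChar F % 8 = 7) := by
  obtain ⟨hq, -, V, hV, rfl⟩ := small_max hodd hM (Or.inr h)
  refine ⟨hq, hq ▸ ?_⟩
  rcases klein_card hodd hV with ⟨-, h12⟩ | ⟨h, -⟩
  · obtain ⟨⟨e⟩, -⟩ := h
    rw [Nat.card_congr e.toEquiv, Nat.card_perm, Nat.card_fin] at h12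
    exact absurd h12 (by decide)
  · exact h

theorem A5_max (hodd : Fintype.card F % 2 = 1) {M : Subgroup PL} (hM : IsCoatom M) (h : A5Case M) :
    (Fintype.card F % 10 = 1 ∨ Fintype.card F % 10 = 9) ∧
      (Fintype.card F = ringChar F ∨
        (Fintype.card F = ringChar F ^ 2 ∧ (ringChar F % 10 = 3 ∨ ringChar F % 10 = 7))) := by
  obtain ⟨⟨e⟩, hs⟩ := h
  have hc : Nat.card M = 60 := by rw [Nat.card_congr e.toEquiv, nat_card_alternatingGroup, Nat.card_fin]; rfl
  haveI := ringChar.charP F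
  obtain ⟨n, hp, hq⟩ := FiniteField.card F (ringChar F)
  have h5 : ringChar F ≠ 5 := by
    intro h5
    rcases hs with hs | h3
    · exact pow_eq_of_semi hs (by rw [h5, hc]; norm_num)
    · omega
  have h5q : ¬ 5 ∣ Fintype.card F := fun h => h5 ((Nat.prime_dvd_prime_iff_eq (by norm_num) hp).1
    ((by norm_num : Nat.Prime 5).dvd_of_dvd_pow (hq ▸ h))).symm
  have h5c : 5 ∣ Nat.card PL := (by rw [hc]; norm_num : (5 : ℕ) ∣ Nat.card M).trans M.card_subgroup_dvd_card
  have h10 : Fintype.card F % 10 = 1 ∨ Fintype.card F % 10 = 9 := by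
    have h1 : 5 ∣ Fintype.card F * (Fintype.card F ^ 2 - 1) := gcd_mul_card F ▸ h5c.mul_left _
    have h2 := ((Nat.Prime.dvd_mul (by norm_num)).1 h1).resolve_left h5q
    have h1le : 1 ≤ Fintype.card F ^ 2 := Nat.one_le_pow _ _ Fintype.card_pos
    have h3 : Fintype.card F ^ 2 % 5 = 1 := by omega
    rw [Nat.pow_mod] at h3
    have := Nat.mod_lt (Fintype.card F) (show 5 > 0 by norm_num)
    interval_cases hh : Fintype.card F % 5 <;> first | omega | norm_num at h3
  refine ⟨h10, ?_⟩
  obtain ⟨τ, hτ⟩ := Cfsg.Agent.S0804.exists_golden hodd h5q h5c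
  have roots : ∀ K : Subfield F, τ ∈ K → HasRoots K := fun K hK t ht => by
    have : (t - τ) * (t + τ - 1) = 0 := by linear_combination ht - hτ
    rcases mul_eq_zero.1 this with e | e
    · rw [sub_eq_zero.1 e]; exact hK
    · rw [show t = 1 - τ by linear_combination e]; exact sub_mem K.one_mem hK
  have top_of : ∀ K : Subfield F, HasRoots K → (Nat.card K = ringChar F ∨ Nat.card K = ringChar F ^ 2) → K = ⊤ := by
    intro K hK hKc
    by_contra hne
    obtain ⟨θ, hθ⟩ := a5_le_pgl hodd ⟨e⟩ hK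
    have e2 := coatom_eq (coatom_map θ hM) hθ (pglSub_ne_top hne)
    have h1 := Nat.le_of_dvd Nat.card_pos (Subgroup.card_dvd_of_le (pslSub_le_pglSub K))
    rw [← e2, Subgroup.card_map_of_injective θ.injective, hc] at h1
    have c := card_pslSub K
    have hr7 : 7 ≤ Nat.card K := by
      have h3 := ringChar_odd hodd
      rcases hKc with e | e
      · by_contra hlt
        rw [e] at hlt
        obtain h | h : ringChar F = 3 ∨ ringChar F = 5 := by
          interval_cases hr : ringChar F <;> first | omega | norm_num at hp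
        · -- the prime field of order three has no golden ratio
          have := (Nat.card_le_card_of_injective (fun t : {t : F // t * t = t + 1} => (⟨t.1, hK t.1 t.2⟩ : K))
            (fun a b hab => Subtype.ext (congrArg (fun z : K => (z : F)) hab)))
          have h9 := (mem_iff_pow K τ).1 (hK τ hτ)
          rw [e, h] at h9
          haveI : CharP F 3 := h ▸ ringChar.charP F
          have h30 : (3 : F) = 0 := by exact_mod_cast CharP.cast_eq_zero F 3
          have : τ ^ 3 = 2 * τ + 1 := by linear_combination (τ + 1) * hτ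
          rw [this] at h9
          have hτ2 : τ = 2 := by linear_combination h9 - h30
          rw [hτ2] at hτ
          exact one_ne_zero (α := F) (by linear_combination hτ)
        · exact h5 h
      · rw [e]
        exact le_trans (by norm_num) (Nat.pow_le_pow_left h3 2)
    have h49 : 49 ≤ Nat.card K ^ 2 := Nat.pow_le_pow_left hr7 2
    have hg : Nat.gcd 2 (Nat.card K - 1) ≤ 2 := Nat.le_of_dvd two_pos (Nat.gcd_dvd_left _ _)
    have h7 : 7 * 48 ≤ Nat.card K * (Nat.card K ^ 2 - 1) := Nat.mul_le_mul hr7 (by omega)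
    have := Nat.mul_le_mul hg h1
    omega
  obtain ⟨K, hK⟩ := prime_field F
  have cardtop : ∀ K : Subfield F, K = ⊤ → Fintype.card F = Nat.card K := by
    rintro K rfl
    rw [Nat.card_congr Subfield.topEquiv.toEquiv, Nat.card_eq_fintype_card]
  by_cases hτK : τ ∈ K
  · left
    rw [cardtop K (top_of K (roots K hτK) (Or.inl hK)), hK]
  · right
    have hp1 : τ ^ ringChar F = 1 - τ := by
      haveI := Fact.mk hp
      haveI : ExpChar F (ringChar F) := .prime hp
      have h1 := congrArg (frobenius F (ringChar F)) hτ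
      rw [map_mul, map_add, map_one, frobenius_def] at h1
      have : (τ ^ ringChar F - τ) * (τ ^ ringChar F + τ - 1) = 0 := by linear_combination h1 - hτ
      rcases mul_eq_zero.1 this with e | e
      · exact absurd ((mem_iff_pow K τ).2 (by rw [hK]; exact sub_eq_zero.1 e)) hτK
      · linear_combination e
    have hp2 : τ ^ ringChar F ^ 2 = τ := by
      haveI := Fact.mk hp
      haveI : ExpChar F (ringChar F) := .prime hp
      rw [sq, pow_mul, hp1, ← frobenius_def, map_sub, map_one, frobenius_def, hp1]; ring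
    obtain ⟨j, hj⟩ : Even (n : ℕ) := by
      rw [← Nat.not_odd_iff_even]
      rintro ⟨j, hj⟩
      apply hτK
      rw [mem_iff_pow, hK]
      have : ∀ i : ℕ, τ ^ (ringChar F ^ (2 * i)) = τ := fun i => by
        induction i with
        | zero => simp
        | succ i ih => rw [show 2 * (i + 1) = 2 * i + 2 by ring, pow_add, pow_mul, ih, hp2]
      have h2 := FiniteField.pow_card τ
      rw [hq, hj, pow_succ, pow_mul, this] at h2
      exact h2
    obtain ⟨K2, hK2⟩ := exists_subfield (F := F) (q₀ := ringChar F ^ 2) (m := j)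
      (le_trans hp.two_le (Nat.le_self_pow two_ne_zero _)) (by rw [hq, hj, ← pow_mul, two_mul])
    have hτ2 : τ ∈ K2 := by rw [mem_iff_pow, hK2]; exact hp2
    have hq2 : Fintype.card F = ringChar F ^ 2 := by
      rw [cardtop K2 (top_of K2 (roots K2 hτ2) (Or.inr hK2)), hK2]
    refine ⟨hq2, ?_⟩
    have h3 := ringChar_odd hodd
    have hodd' : ringChar F % 2 = 1 := hp.eq_two_or_odd.resolve_left (by omega)
    have h5' : ¬ 5 ∣ ringChar F := fun h => h5 ((Nat.prime_dvd_prime_iff_eq (by norm_num) hp).1 h).symm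
    by_contra hno
    push Not at hno
    have hmod : ringChar F % 5 = 1 ∨ ringChar F % 5 = 4 := by omega
    apply hτK
    haveI : Fintype K := Fintype.ofFinite _
    have hKo : Fintype.card K % 2 = 1 := by rw [← Nat.card_eq_fintype_card, hK]; exact hodd'
    have hK5 : ¬ 5 ∣ Fintype.card K := by rw [← Nat.card_eq_fintype_card, hK]; exact h5'
    have h5K : 5 ∣ Nat.card (Matrix.ProjectiveSpecialLinearGroup (Fin 2) K) := by
      have hh := gcd_mul_card K
      have h1 : ringChar F ^ 2 % 5 = 1 := by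
        rw [Nat.pow_mod]; rcases hmod with e | e <;> rw [e]
      have h2 : 5 ∣ Fintype.card K * (Fintype.card K ^ 2 - 1) := by
        refine dvd_mul_of_dvd_right ?_ _
        rw [← Nat.card_eq_fintype_card, hK]; omega
      rw [← hh, gcd_odd hKo] at h2
      exact ((Nat.Prime.dvd_mul (by norm_num)).1 h2).resolve_left (by norm_num)
    obtain ⟨t, ht⟩ := Cfsg.Agent.S0804.exists_golden hKo hK5 h5K
    have ht' : (t : F) * t = t + 1 := by simpa using congrArg Subtype.val ht
    have : ((t : F) - τ) * ((t : F) + τ - 1) = 0 := by linear_combination ht' - hτ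
    rcases mul_eq_zero.1 this with e | e
    · rw [← sub_eq_zero.1 e]; exact t.2
    · rw [show τ = 1 - (t : F) by linear_combination e]; exact sub_mem K.one_mem t.2

/-! ### small fields -/

/-- an element generating a torus, with a normalising element outside, puts the normaliser in `Y` -/
theorem small_not_max {G : Type*} [Group G] {T : Subgroup PL} (hT : IsTorus T) {Y : Subgroup PL} (e : Y ≃* G)
    (hY : 2 * Nat.card T < Nat.card Y) (hne : Y ≠ ⊤) (x s : G) (hx : orderOf x = Nat.card T)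
    (hs : s ∉ Subgroup.zpowers x) (hsx : s * x * s⁻¹ ∈ Subgroup.zpowers x) (h2 : 2 ≤ Nat.card T)
    (hu : Nat.card T ≠ ringChar F) : ¬ IsCoatom (Subgroup.normalizer (T : Set PL)) := by
  intro hM
  set x' : PL := (e.symm x : PL) with hx'
  have ox : orderOf x' = Nat.card T := by rw [hx', Subgroup.orderOf_coe, MulEquiv.orderOf_eq, hx]
  have hx1 : x' ≠ 1 := fun e => by rw [e, orderOf_one] at ox; omega
  haveI := ringChar.charP F
  obtain ⟨n, hp, hq⟩ := FiniteField.card F (ringChar F)
  obtain ⟨T', hT', hxT⟩ : ∃ T' : Subgroup PL, IsTorus T' ∧ x' ∈ T' := by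
    refine exists_torus ?_
    by_contra hns
    obtain ⟨y, b, hb⟩ := exists_conj_mem_U hx1 hns
    have h1 : x' ^ ringChar F = 1 := by
      rw [show x' = y * up b * y⁻¹ by rw [hb]; group, conj_pow, up, π_u_pow_char, mul_one, mul_inv_cancel]
    have h2' := orderOf_dvd_of_pow_eq_one h1
    rw [ox] at h2'
    exact hu (((Nat.dvd_prime hp).1 h2').resolve_left (by omega))
  have hdvd : Nat.card T ∣ Nat.card T' := by
    rw [← ox, ← Subgroup.orderOf_mk x' hxT]; exact orderOf_dvd_natCard _
  have hTT : Nat.card T' = Nat.card T := by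
    by_contra hne'
    have hpos : 0 < Nat.card T' := Nat.card_pos
    have hle := Nat.le_of_dvd hpos hdvd
    have hg := gcd_pos (F := F)
    have hgl := gcd_le_two (F := F)
    have hlt : Nat.gcd 2 (Fintype.card F - 1) * Nat.card T < Nat.gcd 2 (Fintype.card F - 1) * Nat.card T' :=
      Nat.mul_lt_mul_of_pos_left (by omega) hg
    have h4 : Nat.gcd 2 (Fintype.card F - 1) * (2 * Nat.card T) ≤ Nat.gcd 2 (Fintype.card F - 1) * Nat.card T' := by
      obtain ⟨c, hc⟩ := hdvd
      refine Nat.mul_le_mul_left _ ?_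
      rcases c with _ | _ | c
      · omega
      · omega
      · rw [hc, mul_comm 2]; exact Nat.mul_le_mul_left _ (by omega)
    rw [mul_left_comm] at h4
    have h6 := Nat.mul_le_mul_left (Nat.gcd 2 (Fintype.card F - 1)) h2
    have a := torus_card hT
    have b := torus_card hT'
    have hq1 := Fintype.one_lt_card (α := F)
    generalize Nat.gcd 2 (Fintype.card F - 1) * Nat.card T = A at hlt h4 h6 a
    generalize Nat.gcd 2 (Fintype.card F - 1) * Nat.card T' = B at hlt h4 b
    rcases Nat.mod_two_eq_zero_or_one (Fintype.card F) with hpar | hpar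
    · rw [gcd_even hpar] at h6; omega
    · rw [gcd_odd hpar] at h6; omega
  have hT'x : T' = Subgroup.zpowers x' :=
    (Subgroup.eq_of_le_of_card_ge (Subgroup.zpowers_le.2 hxT) (by rw [Nat.card_zpowers, ox, hTT])).symm
  set s' : PL := (e.symm s : PL) with hs'
  have hsT : s' ∉ T' := by
    rw [hT'x]
    intro h
    obtain ⟨i, hi⟩ := Subgroup.mem_zpowers_iff.1 h
    refine hs ⟨i, ?_⟩
    show x ^ i = s
    have h' : (e.symm x) ^ i = e.symm s := Subtype.ext (by rw [Subgroup.coe_zpow]; exact hi)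
    rw [← map_zpow] at h'
    exact e.symm.injective h'
  have hsN : s' ∈ Subgroup.normalizer (T' : Set PL) := by
    obtain ⟨i, hi⟩ := Subgroup.mem_zpowers_iff.1 hsx
    refine Subgroup.mem_normalizer_iff_map_conj_eq.2 (torus_eq (torus_conj hT' _) hT' (x := s' * x' * s'⁻¹)
      ⟨x', hxT, rfl⟩ ?_ (fun e => hx1 (conj_eq_one_iff.1 e)))
    have h' : e.symm s * e.symm x * (e.symm s)⁻¹ = (e.symm x) ^ i := by
      rw [← map_inv, ← map_mul, ← map_mul, ← map_zpow, hi]
    have h'' := congrArg Subtype.val h'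
    simp only [Subgroup.coe_mul, Subgroup.coe_inv, Subgroup.coe_zpow] at h''
    show (e.symm s : PL) * (e.symm x : PL) * (e.symm s : PL)⁻¹ ∈ T'
    rw [h'']; exact T'.zpow_mem hxT i
  have hle : Subgroup.normalizer (T' : Set PL) ≤ Y := by
    have h1 : T' ≤ Y := hT'x ▸ Subgroup.zpowers_le.2 (e.symm x).2
    have h2 : T' < Y ⊓ Subgroup.normalizer (T' : Set PL) :=
      lt_of_le_of_ne (le_inf h1 Subgroup.le_normalizer) fun h => hsT (h ▸ ⟨(e.symm s).2, hsN⟩)
    have h3 := Subgroup.card_dvd_of_le h2.le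
    have h4 := Subgroup.card_dvd_of_le (inf_le_right : Y ⊓ Subgroup.normalizer (T' : Set PL) ≤ _)
    rw [torus_normalizer_card hT'] at h4
    obtain ⟨c, hc⟩ := h3
    have hc2 : 2 ≤ c := by
      by_contra hlt
      have : c = 1 := by
        rcases c with _ | _ | c <;> first | omega | (rw [mul_zero] at hc; exact absurd hc Nat.card_pos.ne')
      rw [this, mul_one] at hc
      exact h2.ne (Subgroup.eq_of_le_of_card_ge h2.le hc.le)
    refine le_of_eq_of_le (Subgroup.eq_of_le_of_card_ge inf_le_right ?_).symm inf_le_left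
    rw [torus_normalizer_card hT', hc, mul_comm 2]
    exact Nat.mul_le_mul_left _ hc2
  obtain ⟨y, hy⟩ := torus_conj_of_card hT hT' hTT.symm
  have hM' := coatom_map (MulAut.conj y) hM
  rw [Subgroup.map_equiv_normalizer_eq, hy] at hM'
  have := coatom_eq hM' hle hne
  rw [← this, torus_normalizer_card hT', hTT] at hY
  omega

end CfsgLib.SL2Dickson
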