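import Mathlib
import Cfsg.Agent.Lib.SL2.MaxOdd
import Cfsg.Agent.Lib.SL2.MaxEven

/-! Which subgroups of `PSL₂` are maximal. -/

set_option autoImplicit false
set_option linter.style.haveILetI false

namespace CfsgLib.SL2Dickson

open Matrix CfsgLib.SL2Torus
open CfsgLib.PSL2Klein (π π_surj π_eq π_eq_one)
open Classical

variable {F : Type*} [Field F] [Fintype F]

local notation "L" => Matrix.SpecialLinearGroup (Fin 2) F
local notation "PL" => Matrix.ProjectiveSpecialLinearGroup (Fin 2) F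

theorem exists_coatom_ge {G : Type*} [Group G] [Finite G] {X : Subgroup G} (hX : X ≠ ⊤) :
    ∃ M : Subgroup G, IsCoatom M ∧ X ≤ M :=
  (IsCoatomic.eq_top_or_exists_le_coatom X).resolve_left hX

/-- `M` contains a four group with an element permuting it cyclically -/
def HasCycle (M : Subgroup PL) : Prop :=
  ∃ x ∈ M, ∃ y ∈ M, ∃ w ∈ M, x * x = 1 ∧ y * y = 1 ∧ x ≠ 1 ∧ y ≠ 1 ∧ x ≠ y ∧ x * y = y * x ∧
    w * x * w⁻¹ = y ∧ w * y * w⁻¹ = x * y

theorem HasCycle.mono {M X : Subgroup PL} (h : HasCycle X) (hle : X ≤ M) : HasCycle M := by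
  obtain ⟨x, hx, y, hy, w, hw, h'⟩ := h
  exact ⟨x, hle hx, y, hle hy, w, hle hw, h'⟩

theorem hasCycle_klein (hodd : Fintype.card F % 2 = 1) {V : Subgroup PL} (hV : IsKleinFour V) :
    HasCycle (Subgroup.normalizer (V : Set PL)) := by
  obtain ⟨g, r, hr, hg⟩ := CfsgLib.PSL2Klein.exists_four hodd hV
  obtain ⟨hK, hx, hy, hx1, hy1, hne⟩ := CfsgLib.PSL2Klein.four_isKlein hodd hr
  obtain ⟨w, hw1, hw2⟩ := CfsgLib.PSL2Klein.exists_cycle hodd hr
  set x := CfsgLib.PSL2Klein.x₀ (F := F)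
  set y := π (r * CfsgLib.PSL2Klein.K₀ hodd)
  have hback : V = (CfsgLib.PSL2Klein.four hodd r).map (MulAut.conj g⁻¹).toMonoidHom := by
    rw [← hg, Subgroup.map_map]
    conv_lhs => rw [← Subgroup.map_id V]
    congr 1
    ext z; simp [mul_assoc]
  rw [hback, ← Subgroup.map_equiv_normalizer_eq]
  have hwN : w ∈ Subgroup.normalizer (CfsgLib.PSL2Klein.four hodd r : Set PL) := by
    refine mem_normalizer_of_conj fun v hv => ?_
    rcases CfsgLib.KleinBasic.mem_cases hK hx hy hx1 hy1 hne hv with e | e | e | e <;> rw [e]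
    · simp
    · rw [hw1]; exact hy
    · rw [hw2]; exact mul_mem hx hy
    · rw [show w * (x * y) * w⁻¹ = (w * x * w⁻¹) * (w * y * w⁻¹) by group, hw1, hw2]
      exact mul_mem hy (mul_mem hx hy)
  refine ⟨_, ⟨x, Subgroup.le_normalizer hx, rfl⟩, _, ⟨y, Subgroup.le_normalizer hy, rfl⟩, _, ⟨w, hwN, rfl⟩, ?_⟩
  simp only [MulEquiv.coe_toMonoidHom]
  refine ⟨?_, ?_, ?_, ?_, ?_, ?_, ?_, ?_⟩
  · rw [← map_mul, CfsgLib.KleinNormalizer.mul_self hK hx, map_one]
  · rw [← map_mul, CfsgLib.KleinNormalizer.mul_self hK hy, map_one]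
  · exact fun e => hx1 ((map_eq_one_iff _ (MulAut.conj g⁻¹).injective).1 e)
  · exact fun e => hy1 ((map_eq_one_iff _ (MulAut.conj g⁻¹).injective).1 e)
  · exact fun e => hne ((MulAut.conj g⁻¹).injective e)
  · rw [← map_mul, ← map_mul, (CfsgLib.KleinNormalizer.commute hK hx hy).eq]
  · rw [← map_inv, ← map_mul, ← map_mul, hw1]
  · rw [← map_inv, ← map_mul, ← map_mul, hw2, map_mul]

theorem hasCycle_A5 {M : Subgroup PL} (h : Nonempty (M ≃* alternatingGroup (Fin 5))) : HasCycle M := by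
  obtain ⟨e⟩ := h
  have key : ∃ x y w : alternatingGroup (Fin 5), x * x = 1 ∧ y * y = 1 ∧ x ≠ 1 ∧ y ≠ 1 ∧ x ≠ y ∧ x * y = y * x ∧
      w * x * w⁻¹ = y ∧ w * y * w⁻¹ = x * y :=
    ⟨⟨Equiv.swap 1 2 * Equiv.swap 3 4, by rw [Equiv.Perm.mem_alternatingGroup]; decide⟩,
      ⟨Equiv.swap 1 3 * Equiv.swap 2 4, by rw [Equiv.Perm.mem_alternatingGroup]; decide⟩,
      ⟨Equiv.swap 2 3 * Equiv.swap 3 4, by rw [Equiv.Perm.mem_alternatingGroup]; decide⟩, by decide +kernel⟩
  obtain ⟨x, y, w, h1, h2, h3, h4, h5, h6, h7, h8⟩ := key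
  set f : alternatingGroup (Fin 5) →* PL := M.subtype.comp e.symm.toMonoidHom
  have hf : Function.Injective f := M.subtype_injective.comp e.symm.injective
  refine ⟨f x, (e.symm x).2, f y, (e.symm y).2, f w, (e.symm w).2, ?_⟩
  refine ⟨by rw [← map_mul, h1, map_one], by rw [← map_mul, h2, map_one],
    fun e => h3 ((map_eq_one_iff f hf).1 e), fun e => h4 ((map_eq_one_iff f hf).1 e), fun e => h5 (hf e),
    by rw [← map_mul, ← map_mul, h6], by rw [← map_inv, ← map_mul, ← map_mul, h7],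
    by rw [← map_inv, ← map_mul, ← map_mul, h8, map_mul]⟩

theorem cycle_not_le_torus {M : Subgroup PL} (h : HasCycle M) {T : Subgroup PL} (hT : IsTorus T) :
    ¬ M ≤ Subgroup.normalizer (T : Set PL) := by
  intro hle
  obtain ⟨x, hx, y, hy, w, hw, hxx, hyy, hx1, hy1, hne, hxy, hwx, hwy⟩ := h
  have hwxy : w * (x * y) * w⁻¹ = x := by
    rw [show w * (x * y) * w⁻¹ = (w * x * w⁻¹) * (w * y * w⁻¹) by group, hwx, hwy, ← mul_assoc, ← hxy, mul_assoc, hyy,
      mul_one]
  have hxy1 : x * y ≠ y := fun e => hx1 (by simpa using e)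
  by_cases hwT : w ∈ T
  · -- one of the three involutions lies in `T`
    have fix : ∀ z ∈ T, w * z * w⁻¹ = z := fun z hz => by rw [torus_comm hT hwT hz, mul_inv_cancel_right]
    by_cases hxT : x ∈ T
    · exact hne ((fix x hxT).symm.trans hwx)
    by_cases hyT : y ∈ T
    · exact hxy1 ((fix y hyT).symm.trans hwy).symm
    · have hidx := torus_normalizer_card hT
      have hxyT : x * y ∈ T := by
        have hn : ((T.subgroupOf (Subgroup.normalizer (T : Set PL)))).index = 2 := by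
          have := Subgroup.card_mul_index (T.subgroupOf (Subgroup.normalizer (T : Set PL)))
          rw [Nat.card_congr (Subgroup.subgroupOfEquivOfLe Subgroup.le_normalizer).toEquiv, hidx] at this
          exact Nat.eq_of_mul_eq_mul_left Nat.card_pos (this.trans (mul_comm _ _))
        have h1 := (Subgroup.mul_mem_iff_of_index_two hn
          (a := (⟨x, hle hx⟩ : Subgroup.normalizer (T : Set PL))) (b := ⟨y, hle hy⟩)).2
          (iff_of_false (fun h => hxT (Subgroup.mem_subgroupOf.1 h)) (fun h => hyT (Subgroup.mem_subgroupOf.1 h)))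
        exact Subgroup.mem_subgroupOf.1 h1
      have := (fix _ hxyT).symm.trans hwxy
      exact hy1 (mul_eq_left.1 this)
  · have hw2 := (torus_outside hT (hle hw) hwT).1
    apply hx1
    have : x * y = x := by
      calc x * y = w * (w * x * w⁻¹) * w⁻¹ := by rw [hwx, hwy]
        _ = (w * w) * x * (w * w)⁻¹ := by group
        _ = x := by rw [hw2]; group
    exact absurd (mul_eq_left.1 this) hy1

theorem commutator_mem_U {y a b : PL} (ha : a ∈ (Bor F).map (MulAut.conj y).toMonoidHom)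
    (hb : b ∈ (Bor F).map (MulAut.conj y).toMonoidHom) : y⁻¹ * (a * b * a⁻¹ * b⁻¹) * y ∈ U F := by
  obtain ⟨a', ha', rfl⟩ := ha
  obtain ⟨b', hb', rfl⟩ := hb
  have : δ ((⟨a', ha'⟩ : Bor F) * ⟨b', hb'⟩ * (⟨a', ha'⟩ : Bor F)⁻¹ * (⟨b', hb'⟩ : Bor F)⁻¹) = 1 := by
    rw [map_mul, map_mul, map_mul, map_inv, map_inv, mul_comm (δ ⟨a', ha'⟩)]
    group
  simpa [mul_assoc] using δ_eq_one.1 this

theorem unip_pow {y x : PL} (h : y⁻¹ * x * y ∈ U F) : x ^ ringChar F = 1 := by
  haveI := ringChar.charP F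
  obtain ⟨b, hb⟩ := h
  rw [show x = y * up b * y⁻¹ by rw [hb]; group, conj_pow, up, π_u_pow_char, mul_one, mul_inv_cancel]

theorem cycle_not_le_bor (hodd : Fintype.card F % 2 = 1) {M : Subgroup PL} (h : HasCycle M) (z : PL) :
    ¬ M ≤ (Bor F).map (MulAut.conj z).toMonoidHom := by
  intro hle
  obtain ⟨x, hx, y, hy, w, hw, hxx, hyy, hx1, hy1, hne, hxy, hwx, -⟩ := h
  have h1 := unip_pow (commutator_mem_U (hle hw) (hle hx))
  rw [show w * x * w⁻¹ * x⁻¹ = y * x by rw [hwx, inv_eq_of_mul_eq_one_right hxx]] at h1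
  haveI := ringChar.charP F
  obtain ⟨n, hp, hq⟩ := FiniteField.card F (ringChar F)
  have h2 : (y * x) ^ 2 = 1 := by
    rw [sq, show y * x * (y * x) = y * (x * y) * x by group, hxy, ← mul_assoc, hyy, one_mul, hxx]
  have hd := Nat.dvd_gcd (orderOf_dvd_of_pow_eq_one h1) (orderOf_dvd_of_pow_eq_one h2)
  have h3 := ringChar_odd hodd
  rw [(Nat.coprime_primes hp Nat.prime_two).2 (by omega), Nat.dvd_one, orderOf_eq_one_iff] at hd
  apply hne
  calc x = y * (y * x) := by rw [← mul_assoc, hyy, one_mul]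
    _ = y := by rw [hd, mul_one]

/-- the possible maximal subgroups over a subgroup with a cycle -/
theorem cycle_cases (hodd : Fintype.card F % 2 = 1) (h4 : 4 ≤ Fintype.card F) {M : Subgroup PL} (hM : IsCoatom M)
    (h : HasCycle M) : A4Case M ∨ S4Case M ∨ A5Case M ∨ FieldCase M := by
  rcases dickson M with h' | h' | h' | h' | h' | h' | h'
  · exact absurd h' (not_cyc h4 hM)
  · obtain ⟨T, hT, hle, -⟩ := h'
    exact absurd hle (cycle_not_le_torus h hT)
  · exact Or.inl h'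
  · exact Or.inr (Or.inl h')
  · exact Or.inr (Or.inr (Or.inl h'))
  · obtain ⟨z, hz, -⟩ := h'
    exact absurd hz (cycle_not_le_bor hodd h z)
  · exact Or.inr (Or.inr (Or.inr h'))

/-! ### subfield subgroups -/

theorem up_mem_pslSub {K : Subfield F} {c : F} (hc : c ∈ K) : (up c : PL) ∈ pslSub K :=
  ⟨⟨!![1, ⟨c, hc⟩; 0, 1], by simp [Matrix.det_fin_two]⟩,
    congrArg π (CfsgLib.PSL2Two.ext2 (Eq.trans rfl (u00 c).symm) (Eq.trans rfl (u01 c).symm) (Eq.trans rfl (u10 c).symm)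
      (Eq.trans rfl (u11 c).symm))⟩

theorem lo_mem_pslSub {K : Subfield F} {c : F} (hc : c ∈ K) : (lo c : PL) ∈ pslSub K :=
  ⟨⟨!![1, 0; ⟨c, hc⟩, 1], by simp [Matrix.det_fin_two]⟩,
    congrArg π (CfsgLib.PSL2Two.ext2 (Eq.trans rfl (l00 c).symm) (Eq.trans rfl (l01 c).symm) (Eq.trans rfl (l10 c).symm)
      (Eq.trans rfl (l11 c).symm))⟩

theorem pslSub_not_le_bor (K : Subfield F) (z : PL) : ¬ pslSub K ≤ (Bor F).map (MulAut.conj z).toMonoidHom := by
  intro hle
  haveI := ringChar.charP F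
  obtain ⟨n, hp, hq⟩ := FiniteField.card F (ringChar F)
  haveI := Fact.mk hp
  have key : ∀ x : PL, x ∈ pslSub K → x ^ ringChar F = 1 → z⁻¹ * x * z ∈ U F := by
    intro x hx hxp
    obtain ⟨b, hb, e⟩ := hle hx
    have e' : z⁻¹ * x * z = b := by rw [← e]; simp [mul_assoc]
    rw [e']
    by_contra hU
    have hb1 : b ≠ 1 := fun e => hU (e ▸ (U F).one_mem)
    obtain ⟨g, hg, hu⟩ := hb
    have hne : g.1 0 0 * g.1 0 0 ≠ 1 := fun e2 => hU ((δ_eq_one (x := ⟨b, g, hg, hu⟩)).1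
      (Units.ext ((δ_eq _ hg).trans e2)))
    refine not_semi_of_pow (ringChar F) ?_ hb1 ⟨g, hg, (torus_le_Bor hu hne).1⟩
    rw [← e', show z⁻¹ * x * z = z⁻¹ * x * (z⁻¹)⁻¹ by rw [inv_inv], conj_pow, hxp, mul_one, mul_inv_cancel]
  have hcomm := U_comm (key _ (up_mem_pslSub K.one_mem) (π_u_pow_char _ _))
    (key _ (lo_mem_pslSub K.one_mem) (by rw [lo, ← map_pow, l_pow, CharP.cast_eq_zero, zero_mul, l_zero, map_one]))
  have h2 : (up (1 : F) : PL) * lo 1 = lo 1 * up 1 := by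
    have := congrArg (fun v => z * v * z⁻¹) hcomm
    simpa [mul_assoc] using this
  have h3 := TI (x := lo (1 : F)) (up_mem 1) (fun e => one_ne_zero (up_eq_one.1 e))
    (by rw [← h2, mul_inv_cancel_right]; exact up_mem 1)
  rw [lo, mem_Bor, l10] at h3
  exact one_ne_zero h3

theorem pslSub_not_le_torus {K : Subfield F} (hK : 3 ≤ Nat.card K) {T : Subgroup PL} (hT : IsTorus T) :
    ¬ pslSub K ≤ Subgroup.normalizer (T : Set PL) := by
  intro hle
  haveI := ringChar.charP F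
  obtain ⟨n, hp, hq⟩ := FiniteField.card F (ringChar F)
  haveI := Fact.mk hp
  have hnT : ∀ c : F, c ≠ 0 → (up c : PL) ∉ T := fun c hc h => by
    refine not_semi_of_pow (ringChar F) (π_u_pow_char _ c) (fun e => hc (up_eq_one.1 e)) ?_
    exact semi_of_mem_torus hT h (fun e => hc (up_eq_one.1 e))
  obtain ⟨c, hc, hc0, hc1⟩ : ∃ c ∈ K, c ≠ 0 ∧ c ≠ 1 := by
    by_contra h
    push Not at h
    haveI : Fintype K := Fintype.ofFinite _
    have hle2 : (Finset.univ : Finset K) ⊆ {0, 1} := fun x _ => by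
      by_cases hx : x = 0
      · simp [hx]
      · simp [Subtype.ext (h x.1 x.2 fun e => hx (Subtype.ext e)) (a1 := x) (a2 := 1)]
    have := Finset.card_le_card hle2
    rw [Finset.card_univ, ← Nat.card_eq_fintype_card] at this
    have h2 : ({0, 1} : Finset K).card ≤ 2 := Finset.card_le_two
    omega
  have h1 := torus_outside hT (hle (up_mem_pslSub K.one_mem)) (hnT 1 one_ne_zero)
  have h2 : ringChar F = 2 := by
    have := h1.1
    rw [up_add, up_eq_one, one_add_one_eq_two] at this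
    exact ((Nat.prime_dvd_prime_iff_eq hp Nat.prime_two).1 ((ringChar.spec F 2).1 (by exact_mod_cast this)))
  -- two commuting involutions outside `T`
  have hd := torus_outside hT (hle (up_mem_pslSub hc)) (hnT c hc0)
  have hn : ((T.subgroupOf (Subgroup.normalizer (T : Set PL)))).index = 2 := by
    have := Subgroup.card_mul_index (T.subgroupOf (Subgroup.normalizer (T : Set PL)))
    rw [Nat.card_congr (Subgroup.subgroupOfEquivOfLe Subgroup.le_normalizer).toEquiv, torus_normalizer_card hT] at this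
    exact Nat.eq_of_mul_eq_mul_left Nat.card_pos (this.trans (mul_comm _ _))
  have h3 := (Subgroup.mul_mem_iff_of_index_two hn
    (a := (⟨up 1, hle (up_mem_pslSub K.one_mem)⟩ : Subgroup.normalizer (T : Set PL)))
    (b := ⟨up c, hle (up_mem_pslSub hc)⟩)).2
    (iff_of_false (fun h => hnT 1 one_ne_zero (Subgroup.mem_subgroupOf.1 h))
      (fun h => hnT c hc0 (Subgroup.mem_subgroupOf.1 h)))
  have h4 := Subgroup.mem_subgroupOf.1 h3
  simp only [Subgroup.coe_mul, up_add] at h4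
  refine hnT (1 + c) (fun e => hc1 ?_) h4
  have h20 : (2 : F) = 0 := by
    have := CharP.cast_eq_zero F (ringChar F)
    rw [h2] at this; exact_mod_cast this
  linear_combination e - h20

/-- divisibility of `p ^ (2k) - 1` -/
theorem exp_dvd {p k j : ℕ} (hp : 2 ≤ p) (hk : 1 ≤ k) (h : p ^ (2 * k) - 1 ∣ 2 * (p ^ (2 * j) - 1)) : k ∣ j := by
  by_contra hn
  have hd : Nat.gcd (2 * k) (2 * j) = 2 * Nat.gcd k j := Nat.gcd_mul_left 2 k j
  have h1 : p ^ (2 * k) - 1 ∣ 2 * (p ^ (2 * Nat.gcd k j) - 1) := by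
    rw [← hd, ← Nat.pow_sub_one_gcd_pow_sub_one, ← Nat.gcd_mul_left]
    exact Nat.dvd_gcd (dvd_mul_left _ 2) h
  obtain ⟨c, hc⟩ := Nat.gcd_dvd_left k j
  have hg : 0 < Nat.gcd k j := Nat.gcd_pos_of_pos_left _ (by omega)
  have hc2 : 2 ≤ c := by
    rcases c with _ | _ | c
    · rw [mul_zero] at hc; omega
    · have h' : Nat.gcd k j = k := by simpa using hc.symm
      exact absurd (h' ▸ Nat.gcd_dvd_right k j) hn
    · omega
  have hle : 2 * Nat.gcd k j ≤ k :=
    calc 2 * Nat.gcd k j = Nat.gcd k j * 2 := mul_comm _ _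
      _ ≤ Nat.gcd k j * c := Nat.mul_le_mul_left _ hc2
      _ = k := hc.symm
  have hP : p ^ (2 * Nat.gcd k j) ≤ p ^ k := Nat.pow_le_pow_right (by omega) hle
  have h2 : 2 ≤ p ^ k := le_trans hp (Nat.le_self_pow (by omega) p)
  have h3 : p ^ (2 * k) = p ^ k * p ^ k := by rw [two_mul, pow_add]
  have h4 : 2 * p ^ k ≤ p ^ k * p ^ k := Nat.mul_le_mul_right _ h2
  have h5 : 2 ≤ p ^ (2 * Nat.gcd k j) := le_trans hp (Nat.le_self_pow (by omega) p)
  have := Nat.le_of_dvd (by omega) h1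
  omega

theorem subfield_pow (K : Subfield F) : ∃ k, 1 ≤ k ∧ Nat.card K = ringChar F ^ k := by
  haveI := ringChar.charP F
  haveI : CharP K (ringChar F) := (RingHom.charP_iff K.subtype K.subtype.injective _).2 inferInstance
  obtain ⟨n, -, hn⟩ := FiniteField.card K (ringChar F)
  exact ⟨n, n.pos, by rw [Nat.card_eq_fintype_card, hn]⟩

/-- comparison of subfield subgroup orders -/
theorem exp_of_dvd {K K' : Subfield F} {a b : ℕ}
    (ha : Nat.card K ^ a = Fintype.card F) (hb : Nat.card K' ^ b = Fintype.card F)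
    (h : Nat.card K * (Nat.card K ^ 2 - 1) ∣ 2 * (Nat.card K' * (Nat.card K' ^ 2 - 1))) : b ∣ a := by
  obtain ⟨k, hk, hK⟩ := subfield_pow K
  obtain ⟨j, hj, hK'⟩ := subfield_pow K'
  haveI := ringChar.charP F
  obtain ⟨n, hp, hq⟩ := FiniteField.card F (ringChar F)
  rw [hK, hK'] at h
  rw [hK, ← pow_mul, hq] at ha
  rw [hK', ← pow_mul, hq] at hb
  have hab : k * a = j * b := (Nat.pow_right_injective hp.two_le ha).trans (Nat.pow_right_injective hp.two_le hb).symm
  have hcop : Nat.Coprime ((ringChar F ^ k) ^ 2 - 1) (ringChar F ^ j) := by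
    refine Nat.Coprime.pow_right _ ((Nat.Prime.coprime_iff_not_dvd hp).2 ?_).symm
    intro hd
    have h1 : ringChar F ∣ (ringChar F ^ k) ^ 2 := dvd_pow (dvd_pow_self _ (by omega)) two_ne_zero
    have := Nat.dvd_sub h1 hd
    have h2 : 1 ≤ (ringChar F ^ k) ^ 2 := Nat.one_le_pow _ _ (pow_pos hp.pos _)
    rw [show (ringChar F ^ k) ^ 2 - ((ringChar F ^ k) ^ 2 - 1) = 1 by omega, Nat.dvd_one] at this
    exact hp.ne_one this
  have h2 : (ringChar F ^ k) ^ 2 - 1 ∣ 2 * ((ringChar F ^ j) ^ 2 - 1) := by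
    have := (Dvd.intro_left _ rfl).trans h
    rw [mul_left_comm] at this
    exact hcop.dvd_of_dvd_mul_left this
  rw [← pow_mul, ← pow_mul, mul_comm k, mul_comm j] at h2
  obtain ⟨c, hc⟩ := exp_dvd hp.two_le hk h2
  rw [hc, mul_assoc] at hab
  exact Dvd.intro_left c (Nat.eq_of_mul_eq_mul_left hk hab).symm

/-- a maximal subgroup over a subfield subgroup is a subfield subgroup -/
theorem pslSub_cases {K : Subfield F} (hK : 3 ≤ Nat.card K) (h4 : 4 ≤ Fintype.card F) {M : Subgroup PL}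
    (hM : IsCoatom M) (hle : pslSub K ≤ M) : A4Case M ∨ S4Case M ∨ A5Case M ∨ FieldCase M := by
  rcases dickson M with h' | h' | h' | h' | h' | h' | h'
  · exact absurd h' (not_cyc h4 hM)
  · obtain ⟨T, hT, hle', -⟩ := h'
    exact absurd (hle.trans hle') (pslSub_not_le_torus hK hT)
  · exact Or.inl h'
  · exact Or.inr (Or.inl h')
  · exact Or.inr (Or.inr (Or.inl h'))
  · obtain ⟨z, hz, -⟩ := h'
    exact absurd (hle.trans hz) (pslSub_not_le_bor K z)
  · exact Or.inr (Or.inr (Or.inr h'))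

theorem exceptional_card {M : Subgroup PL} :
    (A4Case M → Nat.card M = 12) ∧ (S4Case M → Nat.card M = 24) ∧ (A5Case M → Nat.card M = 60) := by
  refine ⟨?_, ?_, ?_⟩
  · rintro ⟨⟨e⟩, -⟩; rw [Nat.card_congr e.toEquiv, nat_card_alternatingGroup, Nat.card_fin]; rfl
  · rintro ⟨⟨e⟩, -⟩; rw [Nat.card_congr e.toEquiv, Nat.card_perm, Nat.card_fin]; rfl
  · rintro ⟨⟨e⟩, -⟩; rw [Nat.card_congr e.toEquiv, nat_card_alternatingGroup, Nat.card_fin]; rfl

/-- the element orders prime to the characteristic -/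
theorem order_bound {x : PL} (hx : ¬ ringChar F ∣ orderOf x) :
    Nat.gcd 2 (Fintype.card F - 1) * orderOf x ≤ Fintype.card F + 1 := by
  by_cases hx1 : x = 1
  · rw [hx1, orderOf_one, mul_one]
    have := gcd_le_two (F := F)
    have := Fintype.one_lt_card (α := F)
    omega
  have hs : IsSemi x := by
    by_contra hns
    obtain ⟨y, hy⟩ := exists_conj_mem_U hx1 hns
    haveI := ringChar.charP F
    obtain ⟨n, hp, hq⟩ := FiniteField.card F (ringChar F)
    rcases (Nat.dvd_prime hp).1 (orderOf_dvd_of_pow_eq_one (unip_pow hy)) with e | e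
    · exact hx1 (orderOf_eq_one_iff.1 e)
    · exact hx e.symm.dvd
  obtain ⟨T, hT, hxT⟩ := exists_torus hs
  have hle : orderOf x ≤ Nat.card T := by
    rw [← Subgroup.orderOf_mk x hxT]
    exact Nat.le_of_dvd Nat.card_pos (orderOf_dvd_natCard _)
  have := Nat.mul_le_mul_left (Nat.gcd 2 (Fintype.card F - 1)) hle
  rcases torus_card hT with e | e <;> omega

end CfsgLib.SL2Dickson
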