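import Mathlib
import Cfsg.Agent.Lib.SL2.MaxExist

/-! Maximality of the subfield subgroups of `PSL₂`. -/

set_option autoImplicit false
set_option linter.style.haveILetI false

namespace CfsgLib.SL2Dickson

open Matrix CfsgLib.SL2Torus
open CfsgLib.PSL2Klein (π π_surj π_eq π_eq_one)
open Classical

variable {F : Type*} [Field F] [Fintype F]

local notation "L" => Matrix.SpecialLinearGroup (Fin 2) F
local notation "PL" => Matrix.ProjectiveSpecialLinearGroup (Fin 2) F

theorem parity_eq {K : Subfield F} {r : ℕ} (hr : r ≠ 0) (hm : Nat.card K ^ r = Fintype.card F) :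
    Nat.card K % 2 = Fintype.card F % 2 := by
  rw [← hm, Nat.pow_mod]
  rcases Nat.mod_two_eq_zero_or_one (Nat.card K) with e | e <;> rw [e] <;> simp [zero_pow hr]

theorem card_ne_char {K : Subfield F} {r : ℕ} (hr : 2 ≤ r) (hm : Nat.card K ^ r = Fintype.card F) :
    Fintype.card F ≠ ringChar F := by
  intro e
  haveI := ringChar.charP F
  obtain ⟨n, hp, hq⟩ := FiniteField.card F (ringChar F)
  rw [← e, ← hm] at hp
  exact absurd (Nat.Prime.eq_one_of_pow (n := r) hp) (by omega)

theorem gcd_sub_one {k : ℕ} (hk : 1 ≤ k) :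
    (k % 2 = 1 → Nat.gcd 2 (k - 1) = 2) ∧ (k % 2 = 0 → Nat.gcd 2 (k - 1) = 1) :=
  ⟨fun h => Nat.gcd_eq_left (by omega), fun h => by
    rw [Nat.gcd_rec, show (k - 1) % 2 = 1 by omega]; rfl⟩

theorem isCoatom_pslSub {K : Subfield F} {r : ℕ} (hr : r.Prime) (hm : Nat.card K ^ r = Fintype.card F)
    (h3 : 3 ≤ Nat.card K) (hro : Fintype.card F % 2 = 1 → r ≠ 2) : IsCoatom (pslSub K) := by
  have h4 : 4 ≤ Fintype.card F := by
    rw [← hm]; exact le_trans (by norm_num) (le_trans (Nat.pow_le_pow_left h3 2) (Nat.pow_le_pow_right (by omega) hr.two_le))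
  have hKne : K ≠ ⊤ := by
    rintro rfl
    have e : Nat.card (⊤ : Subfield F) = Fintype.card F :=
      (Nat.card_congr Subfield.topEquiv.toEquiv).trans Nat.card_eq_fintype_card
    rw [e] at hm
    have := Nat.pow_right_injective (show 2 ≤ Fintype.card F by omega) (hm.trans (pow_one _).symm)
    exact hr.ne_one this
  obtain ⟨M, hM, hle⟩ := exists_coatom_ge (pslSub_ne_top hKne)
  have hpar := parity_eq hr.ne_zero hm
  have hdvd := Subgroup.card_dvd_of_le hle
  have hc := card_pslSub K
  suffices h : pslSub K = M by rw [h]; exact hM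
  rcases pslSub_cases h3 h4 hM hle with h | h | h | h
  · rcases Nat.mod_two_eq_zero_or_one (Fintype.card F) with e | e
    · exact absurd h (no_exceptional e).1
    · exact absurd (small_max e hM (Or.inl h)).1 (card_ne_char hr.two_le hm)
  · rcases Nat.mod_two_eq_zero_or_one (Fintype.card F) with e | e
    · exact absurd h (no_exceptional e).2.1
    · exact absurd (small_max e hM (Or.inr h)).1 (card_ne_char hr.two_le hm)
  · rcases Nat.mod_two_eq_zero_or_one (Fintype.card F) with e | e
    · exact absurd h (no_exceptional e).2.2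
    · exfalso
      have hr3 : 3 ≤ r := by have := hr.two_le; have := hro e; omega
      obtain ⟨-, h1⟩ := A5_max e hM h
      obtain ⟨k, hk, hK⟩ := subfield_pow K
      haveI := ringChar.charP F
      obtain ⟨n, hp, hq⟩ := FiniteField.card F (ringChar F)
      rw [hK, ← pow_mul] at hm
      rcases h1 with h1 | ⟨h1, -⟩
      · have := Nat.pow_right_injective hp.two_le ((hm.trans h1).trans (pow_one _).symm)
        nlinarith
      · have := Nat.pow_right_injective hp.two_le (hm.trans h1)
        nlinarith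
  · obtain ⟨θ, K', m, hK', hm', ⟨hodd, rfl, hθ, hcard⟩ | ⟨hmp, hmo, hθ⟩⟩ := field_max hM h
    · exfalso
      have hM' : Nat.card M = Nat.card K' * (Nat.card K' ^ 2 - 1) := by
        rw [← hcard, ← hθ, Subgroup.card_map_of_injective θ.injective]
      rw [hM'] at hdvd
      have h2 := Nat.mul_dvd_mul_left 2 hdvd
      rw [(gcd_sub_one (by omega)).1 (by omega)] at hc
      rw [hc] at h2
      exact hro hodd ((Nat.prime_dvd_prime_iff_eq Nat.prime_two hr).1 (exp_of_dvd hm hm' h2)).symm
    · have hM' : Nat.card M = Nat.card (pslSub K') := by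
        rw [← hθ, Subgroup.card_map_of_injective θ.injective]
      rw [hM'] at hdvd
      have hc' := card_pslSub K'
      have hpar' := parity_eq hmp.ne_zero hm'
      have hg : Nat.gcd 2 (Nat.card K - 1) = Nat.gcd 2 (Nat.card K' - 1) := by
        rw [Nat.gcd_rec 2, Nat.gcd_rec 2, show (Nat.card K - 1) % 2 = (Nat.card K' - 1) % 2 by
          have := subfield_two_le K'; omega]
      have h2 := Nat.mul_dvd_mul_left (Nat.gcd 2 (Nat.card K - 1)) hdvd
      rw [hc, hg, hc'] at h2
      obtain rfl := (Nat.prime_dvd_prime_iff_eq hmp hr).1 (exp_of_dvd hm hm' (h2.mul_left 2))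
      have := subfield_eq_of_card (Nat.pow_left_injective hr.ne_zero (hm.trans hm'.symm))
      subst this
      exact Subgroup.eq_of_le_of_card_ge hle (le_of_eq hM')

theorem isCoatom_pglSub (hodd : Fintype.card F % 2 = 1) {K : Subfield F} (hm : Nat.card K ^ 2 = Fintype.card F) :
    IsCoatom (pglSub K) ∧ Nat.card (pglSub K) = Nat.card K * (Nat.card K ^ 2 - 1) := by
  have hpar := parity_eq two_ne_zero hm
  have h3 : 3 ≤ Nat.card K := by have := subfield_two_le K; omega
  have hq9 : 9 ≤ Fintype.card F := hm ▸ Nat.pow_le_pow_left h3 2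
  have hfull := pglSub_card_of_squares (K := K) (fun k hk => isSquare_of_even hodd hm even_two hk)
  refine ⟨?_, hfull⟩
  have hKne : K ≠ ⊤ := by
    rintro rfl
    have e : Nat.card (⊤ : Subfield F) = Fintype.card F :=
      (Nat.card_congr Subfield.topEquiv.toEquiv).trans Nat.card_eq_fintype_card
    rw [e, sq] at hm
    nlinarith
  obtain ⟨M, hM, hle⟩ := exists_coatom_ge (pglSub_ne_top hKne)
  have hdvd := Subgroup.card_dvd_of_le hle
  rw [hfull] at hdvd
  suffices h : pglSub K = M by rw [h]; exact hM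
  rcases pslSub_cases h3 (by omega) hM ((pslSub_le_pglSub K).trans hle) with h | h | h | h
  · exact absurd (small_max hodd hM (Or.inl h)).1 (card_ne_char le_rfl hm)
  · exact absurd (small_max hodd hM (Or.inr h)).1 (card_ne_char le_rfl hm)
  · exfalso
    rw [exceptional_card.2.2 h] at hdvd
    have := Nat.le_of_dvd (by norm_num) hdvd
    rcases (show Nat.card K = 3 ∨ 5 ≤ Nat.card K by omega) with e | e
    · rw [e] at hdvd; norm_num at hdvd
    · have h25 : 25 ≤ Nat.card K ^ 2 := Nat.pow_le_pow_left e 2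
      have := Nat.mul_le_mul e (show 24 ≤ Nat.card K ^ 2 - 1 by omega)
      omega
  · obtain ⟨θ, K', m, hK', hm', ⟨-, rfl, hθ, hcard⟩ | ⟨hmp, hmo, hθ⟩⟩ := field_max hM h
    · have := subfield_eq_of_card (Nat.pow_left_injective two_ne_zero (hm.trans hm'.symm))
      subst this
      refine Subgroup.eq_of_le_of_card_ge hle (le_of_eq ?_)
      rw [← hθ, Subgroup.card_map_of_injective θ.injective]
    · exfalso
      rw [show Nat.card M = Nat.card (pslSub K') by rw [← hθ, Subgroup.card_map_of_injective θ.injective]] at hdvd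
      have hc' := card_pslSub K'
      rw [(gcd_sub_one (Nat.card_pos)).1 (by rw [parity_eq hmp.ne_zero hm', hodd])] at hc'
      have h2 := Nat.mul_dvd_mul_left 2 hdvd
      rw [hc'] at h2
      have h4 : Nat.card K * (Nat.card K ^ 2 - 1) ∣ 2 * (Nat.card K' * (Nat.card K' ^ 2 - 1)) :=
        ((dvd_mul_left _ 2).trans h2).mul_left 2
      have := (Nat.prime_dvd_prime_iff_eq hmp Nat.prime_two).1 (exp_of_dvd hm hm' h4)
      subst this
      exact absurd (hmo hodd) (by decide)

end CfsgLib.SL2Dickson
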